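import Cfsg.Agent.Lib.USixType.Recog
import Cfsg.Agent.Lib.Classical.LatticeSix
import Cfsg.Agent.Lib.GTwoTwo.FieldCongr
import Cfsg.Agent.Lib.ZStar.Main
import Cfsg.Agent.Lib.Fitting.Basic

/-!
A group with an involution centraliser `2^{1+8}.U₄(2)` has it isolated or is `U₆(2)`.
-/

set_option autoImplicit false
set_option linter.unusedSectionVars false
set_option linter.style.haveILetI false

open Cfsg CfsgLib.Extraspecial
open CfsgLib.HePres (K4)

namespace CfsgLib.USixType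

variable {G : Type*} [Group G] [Finite G] {z : G}

/-- The dichotomy. -/
theorem psu_or_isolated {Q : Subgroup G} {π : ↥(Cz z) →* G4} (H : Pre z Q π) :
    (∀ g : G, g * z * g⁻¹ ∈ Cz z → g * z * g⁻¹ = z) ∨ Nonempty (G ≃* Cfsg.PSU 6 K4 2) := by
  by_cases hiso : ∀ g : G, g * z * g⁻¹ ∈ Cz z → g * z * g⁻¹ = z
  · exact Or.inl hiso
  right
  rcases exists_sp H with h | ⟨⟨T⟩⟩
  · exact absurd h hiso
  push Not at hiso
  exact T.psu_six H hiso

/-- The setting from a self-centralising extraspecial normal subgroup of the centraliser. -/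
theorem setting_of (hz : orderOf z = 2) (O : Subgroup ↥(Cz z)) [hn : O.Normal]
    (hex : IsExtraspecial 2 ↥O) (hc : Subgroup.centralizer (O : Set ↥(Cz z)) ≤ O) :
    Setting (O.map (Cz z).subtype) z := by
  haveI := Fact.mk Nat.prime_two
  set Q := O.map (Cz z).subtype with hQ
  have hQC : Q ≤ Cz z := Subgroup.map_subtype_le _
  set zc : ↥(Cz z) := ⟨z, mem_Cz.2 rfl⟩
  have hzO : zc ∈ O := hc (Subgroup.mem_centralizer_iff.2 fun q _ => Subtype.ext (mem_Cz.1 q.2))
  have hzQ : z ∈ Q := ⟨zc, hzO, rfl⟩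
  have hexQ : IsExtraspecial 2 ↥Q :=
    isExtraspecial_congr (O.equivMapOfInjective _ (Subgroup.subtype_injective _)) hex
  have hzc : (⟨z, hzQ⟩ : Q) ∈ Subgroup.center Q :=
    Subgroup.mem_center_iff.mpr fun q => Subtype.ext (mem_Cz.1 (hQC q.2))
  have hce : Subgroup.center Q = Subgroup.zpowers (⟨z, hzQ⟩ : Q) := by
    refine (Subgroup.eq_of_le_of_card_ge (Subgroup.zpowers_le.mpr hzc) ?_).symm
    rw [Nat.card_zpowers, Subgroup.orderOf_mk, hz, hexQ.2]
  have hcen : (Subgroup.center Q).map Q.subtype = Subgroup.zpowers z := by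
    rw [hce, MonoidHom.map_zpowers]; rfl
  refine ⟨hexQ, hcen, hz, le_antisymm (fun x hx => ?_) (Subgroup.zpowers_le.mpr ?_), fun x hx => ?_⟩
  · rw [Subgroup.mem_centralizer_iff] at hx
    have hxC : x ∈ Cz z := mem_Cz.2 (hx z hzQ).symm
    have hxQ : x ∈ Q := ⟨⟨x, hxC⟩, hc (Subgroup.mem_centralizer_iff.2 fun q hq =>
      Subtype.ext (hx (q : G) ⟨q, hq, rfl⟩)), rfl⟩
    exact hcen.le ⟨⟨x, hxQ⟩, Subgroup.mem_center_iff.mpr fun q => Subtype.ext (hx q q.2), rfl⟩
  · exact Subgroup.mem_centralizer_iff.mpr fun q hq => mem_Cz.1 (hQC hq)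
  · exact Subgroup.le_normalizer_map (H := O) (Cz z).subtype
      (⟨⟨x, hx⟩, by rw [Subgroup.normalizer_eq_top]; exact Subgroup.mem_top _, rfl⟩ :
        x ∈ (Subgroup.normalizer (O : Set ↥(Cz z))).map (Cz z).subtype)

/-- An isolated involution: its centraliser covers the quotient by the odd core. -/
theorem sup_oddCore_of_isolated (hz : orderOf z = 2)
    (hiso : ∀ g : G, g * z * g⁻¹ ∈ Cz z → g * z * g⁻¹ = z) : Cz z ⊔ oddCore G = ⊤ := by
  haveI hn : (oddCore G).Normal := Transfer.pPrimeCore_normal 2 G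
  have hcop : (Nat.card (oddCore G)).Coprime 2 := Transfer.pPrimeCore_coprime 2
  have hcore : ZStar.CommutatorsInCore z :=
    ZStar.commutatorsInCore_of_isolated ⟨hz, fun g hg => hiso g (mem_Cz.2 hg.eq.symm)⟩
  have z2 : z * z = 1 := by rw [← pow_two, ← hz]; exact pow_orderOf_eq_one z
  rw [eq_top_iff]
  intro g _
  set x := g * z * g⁻¹ with hx
  set r := x * z with hr
  have x2 : x * x = 1 := by rw [hx]; calc g * z * g⁻¹ * (g * z * g⁻¹) = g * (z * z) * g⁻¹ := by group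
                              _ = 1 := by rw [z2]; group
  have hrO : r ∈ oddCore G := by
    have h := inv_mem (hcore g)
    rw [mul_inv_rev, mul_inv_rev, mul_inv_rev, inv_inv, inv_inv, inv_eq_of_mul_eq_one_right z2] at h
    rw [hr, hx]
    simpa only [mul_assoc] using h
  obtain ⟨m, hm⟩ : Odd (orderOf r) := by
    rw [← Nat.not_even_iff_odd, even_iff_two_dvd]
    intro h
    have h2 : 2 ∣ Nat.card (oddCore G) :=
      h.trans ((Subgroup.orderOf_mk r hrO).symm ▸ orderOf_dvd_natCard (⟨r, hrO⟩ : oddCore G))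
    have := Nat.dvd_gcd h2 (dvd_refl 2)
    rw [hcop.gcd_eq_one] at this
    exact absurd this (by norm_num)
  have hsemi : SemiconjBy x r r⁻¹ := by
    show x * r = r⁻¹ * x
    rw [hr, mul_inv_rev, inv_eq_of_mul_eq_one_right x2, inv_eq_of_mul_eq_one_right z2]
    rw [← mul_assoc, x2, one_mul, mul_assoc, x2, mul_one]
  have hxr : x * r ^ m = (r ^ m)⁻¹ * x := by rw [← inv_pow]; exact (hsemi.pow_right m).eq
  have hconj : r ^ m * x * (r ^ m)⁻¹ = z := by
    calc r ^ m * x * (r ^ m)⁻¹ = r ^ m * (r ^ m * (x * r ^ m)) * (r ^ m)⁻¹ := by rw [hxr]; group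
      _ = r ^ (2 * m) * x := by rw [two_mul, pow_add]; group
      _ = r⁻¹ * x := by
          rw [show r ^ (2 * m) = r⁻¹ from eq_inv_of_mul_eq_one_left (by
            rw [← pow_succ, ← hm]; exact pow_orderOf_eq_one r)]
      _ = z := by rw [hr, mul_inv_rev, inv_eq_of_mul_eq_one_right x2, inv_eq_of_mul_eq_one_right z2,
                    mul_assoc, x2, mul_one]
  have hC : r ^ m * g ∈ Cz z := mem_Cz.2 (by
    calc r ^ m * g * z = r ^ m * (g * z * g⁻¹) * (r ^ m)⁻¹ * (r ^ m * g) := by group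
      _ = _ := by rw [← hx, hconj])
  have := Subgroup.mul_mem (Cz z ⊔ oddCore G)
    (Subgroup.mem_sup_right (inv_mem (pow_mem hrO m))) (Subgroup.mem_sup_left hC)
  rwa [inv_mul_cancel_left] at this

/-- The statement in terms of a quotient isomorphic to `PSp₄(3)`. -/
theorem classify (hz : orderOf z = 2) {F : Type*} [Field F] [Fintype F] (hF : Fintype.card F = 3)
    {K : Type*} [Field K] [Fintype K] (hK : Fintype.card K = 4)
    (hJ : IsExtraspecial 2 ↥(pCore 2 ↥(Cz z))) (hJc : Nat.card ↥(pCore 2 ↥(Cz z)) = 2 ^ 9)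
    (hCJ : Subgroup.centralizer ((pCore 2 ↥(Cz z)) : Set ↥(Cz z)) ≤ pCore 2 ↥(Cz z))
    [hJn : (pCore 2 ↥(Cz z)).Normal] (e : (↥(Cz z) ⧸ pCore 2 ↥(Cz z)) ≃* PSp 2 F) :
    Nonempty (G ≃* PSU 6 K 2) ∨ Cz z ⊔ oddCore G = ⊤ := by
  haveI := Fact.mk Nat.prime_two
  obtain ⟨C⟩ := Classical.Herm.exists_conj_of_card (F := K4) (q := 2) (by rw [K4.card_eq]; norm_num)
  have hbot : Subgroup.center G4 = ⊥ := by
    refine Subgroup.eq_bot_of_card_eq _ ?_
    rw [Classical.Herm.card_center C (by norm_num : 2 ≤ 4)]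
    decide
  obtain ⟨e0⟩ := Classical.LatticeSix.psu_four_two (F := K4) K4.card_eq hF
  let q4 : Cfsg.PSU 4 K4 2 ≃* G4 := (QuotientGroup.quotientMulEquivOfEq hbot).trans QuotientGroup.quotientBot
  let e1 : (↥(Cz z) ⧸ pCore 2 ↥(Cz z)) ≃* G4 := e.trans (e0.symm.trans q4)
  set O := pCore 2 ↥(Cz z) with hO
  set π : ↥(Cz z) →* G4 := e1.toMonoidHom.comp (QuotientGroup.mk' O) with hπ
  have H : Pre z (O.map (Cz z).subtype) π := by
    refine ⟨setting_of hz O hJ hCJ, ?_, ?_, ?_⟩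
    · rw [Subgroup.card_map_of_injective (Subgroup.subtype_injective _), hJc]; norm_num
    · ext c
      rw [MonoidHom.mem_ker, Subgroup.mem_subgroupOf, hπ]
      show e1 (QuotientGroup.mk' O c) = 1 ↔ _
      rw [map_eq_one_iff _ e1.injective, QuotientGroup.mk'_apply, QuotientGroup.eq_one_iff]
      exact ⟨fun h => ⟨c, h, rfl⟩, fun ⟨d, hd, he⟩ => by rwa [← Subtype.ext (a1 := d) (a2 := c) he]⟩
    · exact e1.surjective.comp (QuotientGroup.mk'_surjective O)
  rcases psu_or_isolated H with h | hφ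
  · exact Or.inr (sup_oddCore_of_isolated hz h)
  · obtain ⟨φ⟩ := hφ
    obtain ⟨φ6⟩ := GTwoTwo.psu_equiv (FiniteField.ringEquivOfCardEq (K := K4) (K' := K)
      (by rw [K4.card_eq, hK])) 6 2
    exact Or.inl ⟨φ.trans φ6⟩

end CfsgLib.USixType
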