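import Cfsg.Agent.Lib.USixType.Rep

/-!
Three planes and a fixed plane: the orthogonal representation of `SU₄(2)`.
-/

set_option autoImplicit false
set_option linter.unusedSectionVars false
set_option linter.style.haveILetI false
set_option maxRecDepth 100000

namespace CfsgLib.USixType

/-- The matrices of the generators on the six dimensional module and a fixed plane. -/
def wL : Fin 5 → Lin :=
  ![⟨1, 2, 8, 12, 32, 48, 64, 128⟩, ⟨1, 2, 16, 48, 4, 12, 64, 128⟩, ⟨4, 8, 1, 2, 16, 32, 64, 128⟩,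
    ⟨1, 2, 16, 32, 4, 8, 64, 128⟩, ⟨1, 22, 4, 25, 16, 37, 64, 128⟩]

/-- The vectors fixed by the first and last transposition. -/
def fixB : List V8 :=
  [0, 1, 2, 3, 20, 21, 22, 23, 64, 65, 66, 67, 84, 85, 86, 87, 128, 129, 130, 131, 148, 149, 150, 151,
    192, 193, 194, 195, 212, 213, 214, 215]

theorem fixB_all : ∀ v, app (wL 1) v = v → app (wL 3) v = v → fixB.contains v = true := by decide +kernel

/-- A candidate for the fifth generator. -/
def candB (u w : V8) : Lin :=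
  ⟨u, w, app (wL 2) u, app (wL 2) w, app (wL 3) (app (wL 2) u), app (wL 3) (app (wL 2) w), 64, 128⟩

theorem candB_check : fixB.all (fun u => fixB.all fun w =>
    !(relY.all fun p => decide (linW (withY wL (candB u w)) p.1 = linW (withY wL (candB u w)) p.2)) ||
      decide (candB u w = wL 4)) = true := by
  decide +kernel

/-- A diagonal element fixing nothing outside the fixed plane. -/
def uw : List (Fin 5) := [2, 0, 0, 2, 0, 0]

/-- An element commuting with it. -/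
def mw : List (Fin 5) := [4, 0, 2, 0, 4]

/-- The fifth generator over the centraliser of the diagonal element and the monomial elements. -/
def yw : List (Fin 5) :=
  [1, 0] ++ mw ++ [3] ++ mw ++ mw ++ [2, 3] ++ mw ++ [3, 0]

theorem uw_mw : linW gL (mw ++ uw) = linW gL (uw ++ mw) := by decide +kernel

theorem yw_eq : linW gL yw = linW gL [4] := by decide +kernel

theorem uw_diag : ∃ x : EI, linW gL uw = eL x ∧ ∀ i : Fin 14, Act.pat 4 1 4 1 i ≠ 1 → i ≠ 0 → ev i x ≠ 0 := by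
  decide +kernel

/-- The inverse word. -/
def invW (w : List (Fin 5)) : List (Fin 5) :=
  (w.reverse.map fun k => if k = 0 then [0, 0] else [k]).flatten

/-- Words for the products of conjugates of the first generator. -/
def conjW : Fin 5 → List (List (Fin 5)) :=
  ![[[]], [[0, 4, 3, 2], [0, 0, 4, 2, 1], [4, 3, 2], [2, 1]],
    [[2, 0, 0, 4, 2], [2, 0, 4, 3, 2], [1, 0, 4, 3, 2], [2]],
    [[2, 0, 0, 4, 2], [2, 0, 4, 3, 2], [3, 2], [2, 0, 4, 1, 2]],
    [[0, 4, 3, 2, 1], [1, 0, 4, 2], [4, 3, 1, 2, 1], [2]]]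

theorem conjW_check : ∀ k, linW gL (((conjW k).map fun w => w ++ [0] ++ invW w).flatten) = linW gL [k] := by
  decide +kernel

theorem invW_check : ∀ k : Fin 5, linW gL (invW [k] ++ [k]) = linW gL [] := by decide +kernel

theorem invW_eval : ∀ w, evalW (invW w) = (evalW w)⁻¹ := by
  intro w
  induction w with
  | nil => exact inv_one.symm
  | cons k w ih =>
    have h1 : evalW (invW [k]) * gen k = 1 := by
      have h := evalW_eq (invW_check k)
      simp only [evalW_append, evalW, mul_one] at h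
      exact h
    have h2 : invW (k :: w) = invW w ++ invW [k] := by simp [invW]
    rw [h2, evalW_append, ih, evalW, mul_inv_rev, ← eq_inv_of_mul_eq_one_left h1]

theorem evalW_single (k : Fin 5) : evalW [k] = gen k := mul_one _

theorem candB_unique {Y : Lin} (M : Mdl (withY wL Y)) (e64 : app Y 64 = 64) (e128 : app Y 128 = 128) :
    Y = wL 4 := by
  have hcom : ∀ k : Fin 5, k = 1 ∨ k = 2 ∨ k = 3 → ∀ v,
      app Y (app (withY wL Y k) v) = app (withY wL Y k) (app Y v) := fun k hk v => by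
    have h := M.word (comm_words k hk)
    simp only [linW, comp_id] at h
    have h' := congrArg (fun T => app T v) h
    simp only [app_comp] at h'
    exact h'
  have c1 : ∀ v, app Y (app (wL 1) v) = app (wL 1) (app Y v) := hcom 1 (by simp)
  have c2 : ∀ v, app Y (app (wL 2) v) = app (wL 2) (app Y v) := hcom 2 (by simp)
  have c3 : ∀ v, app Y (app (wL 3) v) = app (wL 3) (app Y v) := hcom 3 (by simp)
  obtain ⟨y0, y1, y2, y3, y4, y5, y6, y7⟩ := app_units Y
  have hYeq : Y = candB (app Y 1) (app Y 2) := by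
    have e4 : app Y 4 = app (wL 2) (app Y 1) := c2 1
    have e8 : app Y 8 = app (wL 2) (app Y 2) := c2 2
    have e16 : app Y 16 = app (wL 3) (app Y 4) := c3 4
    have e32 : app Y 32 = app (wL 3) (app Y 8) := c3 8
    rw [candB, ← e4, ← e8, ← e16, ← e32]
    conv_rhs => rw [← e64, ← e128]
    rw [y0, y1, y2, y3, y4, y5, y6, y7]
  have fx : ∀ x : V8, app (wL 1) x = x → app (wL 3) x = x → fixB.contains (app Y x) = true := fun x a c =>
    fixB_all _ (by rw [← c1, a]) (by rw [← c3, c])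
  have key := List.all_eq_true.1 (List.all_eq_true.1 candB_check (app Y 1)
    (List.contains_iff_mem.1 (fx 1 (by decide +kernel) (by decide +kernel)))) (app Y 2)
    (List.contains_iff_mem.1 (fx 2 (by decide +kernel) (by decide +kernel)))
  rw [← hYeq] at key
  have hrel : (relY.all fun p => decide (linW (withY wL Y) p.1 = linW (withY wL Y) p.2)) = true :=
    List.all_eq_true.2 fun p hp => decide_eq_true (M.word (of_decide_eq_true (List.all_eq_true.1 relY_gL p hp)))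
  rw [hrel] at key
  exact of_decide_eq_true key

attribute [local irreducible] gen eE evalW

namespace Act

variable {V : Type*} [AddCommGroup V] (A : Act V)
include A

theorem fixed_inv (hA : ∀ i, Nat.card (A.R i) = pat 4 1 4 1 i) (k : Fin 5) {v : V} (hv : v ∈ A.R 0) :
    A.φ (gen k) v ∈ A.R 0 := by
  obtain ⟨x, hx, hne⟩ := uw_diag
  have hux : evalW uw = eE x := natL_inj (by rw [natL_evalW, natL_eE, hx])
  have hfix : ∀ w, A.φ (eE x) w = w → w ∈ A.R 0 := fun w hw => by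
    have hP : ∀ i, i ≠ 0 → A.P i w = 0 := fun i hi => by
      by_cases h1 : pat 4 1 4 1 i = 1
      · exact A.triv_R ((hA i).trans h1) (A.P_mem i w)
      · by_contra h0
        refine A.fix_ne hi (hne i h1 hi) (A.P_mem i w) h0 ?_
        have hc : ∀ f z, A.φ (eE x) (A.act f z) = A.act f (A.φ (eE x) z) := fun f z => by
          simp only [act, map_sum]
          refine Finset.sum_congr rfl fun y _ => ?_
          cases f y
          · simp
          · simp only [cond_true, ← A.app_mul, ← eE_add, add_comm x y]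
        rw [P, hc, hw]
    rw [A.mem_R]
    conv_rhs => rw [← A.P_sum w, Finset.sum_eq_single (0 : Fin 14) (fun i _ hi => hP i hi) (by simp)]
  have hm : ∀ w ∈ A.R 0, A.φ (evalW mw) w ∈ A.R 0 := fun w hw => hfix _ (by
    rw [← hux, ← A.app_mul, ← evalW_append, ← evalW_eq uw_mw, evalW_append, A.app_mul, hux,
      A.eE_fix (i := 0) (by simp [ev, chi]) hw])
  have h0 : ∀ x : Fin 3 × EI, fc 0 x.2 = fc 0 (sig x.1 x.2) := by decide +kernel
  have hs : ∀ j : Fin 5, j ≠ 4 → ∀ w ∈ A.R 0, A.φ (gen j) w ∈ A.R 0 := by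
    intro j hj w hw
    fin_cases j
    · rw [show gen (⟨0, by norm_num⟩ : Fin 5) = gen 0 from rfl, ← eE_gen, A.eE_fix (i := 0) (by simp [ev, chi]) hw]
      exact hw
    · exact A.s_R (k := 0) (fun y => h0 (0, y)) hw
    · exact A.s_R (k := 1) (fun y => h0 (1, y)) hw
    · exact A.s_R (k := 2) (fun y => h0 (2, y)) hw
    · exact absurd rfl hj
  by_cases hk : k = 4
  · subst hk
    rw [← evalW_single 4, ← evalW_eq yw_eq]
    simp only [yw, evalW_append, A.app_mul, evalW, mul_one]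
    repeat' first
      | apply hm
      | apply hs _ (by decide)
      | exact hv
  · exact hs k hk v hv

theorem fixed_all (hA : ∀ i, Nat.card (A.R i) = pat 4 1 4 1 i) (g : G4) {v : V} (hv : v ∈ A.R 0) :
    A.φ g v = v := by
  have hev : ∀ w, ∀ v ∈ A.R 0, A.φ (evalW w) v ∈ A.R 0 := by
    intro w
    induction w with
    | nil => intro v hv; rw [evalW, A.app_one]; exact hv
    | cons k w ih => intro v hv; rw [evalW, A.app_mul]; exact A.fixed_inv hA k (ih v hv)
  have hgen : ∀ k, ∀ v ∈ A.R 0, A.φ (gen k) v = v := by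
    intro k
    have key : ∀ L : List (List (Fin 5)), ∀ v ∈ A.R 0,
        A.φ (evalW ((L.map fun w => w ++ [0] ++ invW w).flatten)) v = v := by
      intro L
      induction L with
      | nil =>
        intro v _
        rw [List.map_nil, List.flatten_nil, evalW]
        exact A.app_one v
      | cons w L ih =>
        intro v hv
        rw [List.map_cons, List.flatten_cons, evalW_append, A.app_mul, ih v hv, evalW_append,
          evalW_append, A.app_mul, A.app_mul, evalW_single, ← eE_gen,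
          A.eE_fix (i := 0) (by simp [ev, chi]) (hev _ v hv), ← A.app_mul, invW_eval, mul_inv_cancel,
          A.app_one]
    intro v hv
    rw [← evalW_single k, ← evalW_eq (conjW_check k)]
    exact key _ v hv
  have hg : g ∈ Subgroup.closure (Set.range gen) := by rw [gen_top]; exact Subgroup.mem_top g
  induction hg using Subgroup.closure_induction with
  | mem x hx => obtain ⟨k, rfl⟩ := hx; exact hgen k v hv
  | one => exact A.app_one v
  | mul x y _ _ hx hy => rw [A.app_mul, hy, hx]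
  | inv x _ hx =>
    conv_lhs => rw [← hx, ← A.app_mul, inv_mul_cancel, A.app_one]

theorem wedge_u (hA : ∀ i, Nat.card (A.R i) = pat 4 1 4 1 i) :
    ∃ u ∈ A.R 5, u ≠ 0 ∧
      A.φ (gen (sk 0)) (A.φ (gen (sk 1)) u) = A.φ (gen (sk 2)) (A.φ (gen (sk 1)) u) := by
  haveI : Finite V := Nat.finite_of_card_ne_zero (by rw [A.card]; norm_num)
  obtain ⟨-, -, -, q56, q67, -⟩ := orbits
  have q56' : ∀ x, fc 6 x = fc 5 (sig 1 x) := fun x => by rw [q56 (sig 1 x), sig_sig]
  have q67' : ∀ x, fc 7 x = fc 6 (sig 2 x) := fun x => by rw [q67 (sig 2 x), sig_sig]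
  have q67s : ∀ x, fc 6 x = fc 7 (sig 0 x) := by decide +kernel
  have hc5 : Nat.card (A.R 5) = 4 := hA 5
  have hc7 : Nat.card (A.R 7) = 4 := hA 7
  haveI : Nontrivial (A.R 5) := Finite.one_lt_card_iff_nontrivial.1 (by omega)
  obtain ⟨⟨u', hu'⟩, hu0'⟩ := exists_ne (0 : A.R 5)
  have hu0'' : u' ≠ 0 := fun e => hu0' (Subtype.ext e)
  have hx5 : ev 5 (0, 1, 0) ≠ 0 := by decide
  have hx7 : ev 7 (1, 0, 0) ≠ 0 := by decide
  set h' := A.φ (gen (sk 2)) (A.φ (gen (sk 1)) u') with hh'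
  have hh7 : h' ∈ A.R 7 := A.s_R q67 (A.s_R q56 hu')
  have hh0 : h' ≠ 0 := fun e => hu0'' ((A.φ (gen (sk 1))).injective
    ((A.φ (gen (sk 2))).injective (by rw [map_zero, map_zero]; exact e)))
  have hf7 : A.φ (gen (sk 0)) (A.φ (gen (sk 1)) u') ∈ A.R 7 := A.s_R q67s (A.s_R q56 hu')
  obtain ⟨a, ha⟩ : ∃ a : ZMod 3, A.φ (gen (sk 0)) (A.φ (gen (sk 1)) u') = A.φ (eE (a, 0, 0)) h' := by
    rcases A.plane (by decide) hc7 hx7 hh7 hh0 hf7 with e | e | e | e
    · exact absurd ((A.φ (gen (sk 1))).injective ((A.φ (gen (sk 0))).injective (by rw [map_zero, map_zero]; exact e))) hu0''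
    · exact ⟨0, by rw [e, show ((0 : ZMod 3), (0 : ZMod 3), (0 : ZMod 3)) = (0 : EI) from rfl, eE_zero, A.app_one]⟩
    · exact ⟨1, e⟩
    · exact ⟨2, by rw [e, ← A.sq_eq (by decide) hx7 hh7]; rfl⟩
  set y : EI := (0, 2 * a, 0) with hy
  set u := A.φ (eE y) u' with hudef
  have hu : u ∈ A.R 5 := A.eE_mem y hu'
  have hu0 : u ≠ 0 := fun e => hu0'' ((A.φ (eE y)).injective (by rw [map_zero]; exact e))
  have hmove : ∀ (k : Fin 3) (z : EI) (v : V),
      A.φ (gen (sk k)) (A.φ (eE z) v) = A.φ (eE (sig k z)) (A.φ (gen (sk k)) v) := fun k z v => by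
    rw [← A.app_mul, sk_eE, A.app_mul]
  have hkey : A.φ (gen (sk 0)) (A.φ (gen (sk 1)) u) = A.φ (gen (sk 2)) (A.φ (gen (sk 1)) u) := by
    rw [hudef, hmove 1, hmove 0, hmove 2, ha, ← hh', ← A.app_mul, ← eE_add]
    refine A.eE_same (i := 7) ?_ hh7
    have key : ∀ a : ZMod 3, ev 7 (sig 0 (sig 1 (0, 2 * a, 0)) + (a, 0, 0)) =
        ev 7 (sig 2 (sig 1 (0, 2 * a, 0))) := by decide +kernel
    exact key a
  exact ⟨u, hu, hu0, hkey⟩

/-- A basis and the images of the first four generators. -/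
theorem wedge_base (hA : ∀ i, Nat.card (A.R i) = pat 4 1 4 1 i) :
    ∃ b : Fin 8 → V, (∀ i, ∀ v ∈ A.R i, v ∈ A.span b) ∧ (b 6 ∈ A.R 0 ∧ b 7 ∈ A.R 0) ∧
      (∀ i, A.φ (gen 0) (b i) = ![b 0, b 1, b 3, b 2 + b 3, b 5, b 4 + b 5, b 6, b 7] i) ∧
      (∀ i, A.φ (gen 1) (b i) = ![b 0, b 1, b 4, b 4 + b 5, b 2, b 2 + b 3, b 6, b 7] i) ∧
      (∀ i, A.φ (gen 2) (b i) = b (![2, 3, 0, 1, 4, 5, 6, 7] i)) ∧
      (∀ i, A.φ (gen 3) (b i) = b (![0, 1, 4, 5, 2, 3, 6, 7] i)) := by
  haveI : Finite V := Nat.finite_of_card_ne_zero (by rw [A.card]; norm_num)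
  obtain ⟨-, -, -, q56, q67, -⟩ := orbits
  have q56' : ∀ x, fc 6 x = fc 5 (sig 1 x) := fun x => by rw [q56 (sig 1 x), sig_sig]
  have q67' : ∀ x, fc 7 x = fc 6 (sig 2 x) := fun x => by rw [q67 (sig 2 x), sig_sig]
  have hc5 : Nat.card (A.R 5) = 4 := hA 5
  have hc7 : Nat.card (A.R 7) = 4 := hA 7
  have hx5 : ev 5 (0, 1, 0) ≠ 0 := by decide
  have hx7 : ev 7 (1, 0, 0) ≠ 0 := by decide
  have hmove : ∀ (k : Fin 3) (z : EI) (v : V),
      A.φ (gen (sk k)) (A.φ (eE z) v) = A.φ (eE (sig k z)) (A.φ (gen (sk k)) v) := fun k z v => by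
    rw [← A.app_mul, sk_eE, A.app_mul]
  obtain ⟨u, hu, hu0, hkey⟩ := A.wedge_u hA
  obtain ⟨w, hwdef⟩ : ∃ w, w = A.φ (eE (0, 1, 0)) u := ⟨_, rfl⟩
  obtain ⟨c2, hc2d⟩ : ∃ c, c = A.φ (gen (sk 1)) u := ⟨_, rfl⟩
  obtain ⟨c3, hc3d⟩ : ∃ c, c = A.φ (gen (sk 1)) w := ⟨_, rfl⟩
  obtain ⟨c4, hc4d⟩ : ∃ c, c = A.φ (gen (sk 2)) c2 := ⟨_, rfl⟩
  obtain ⟨c5, hc5d⟩ : ∃ c, c = A.φ (gen (sk 2)) c3 := ⟨_, rfl⟩
  have hw : w ∈ A.R 5 := hwdef ▸ A.eE_mem _ hu
  have r2 : c2 ∈ A.R 6 := hc2d ▸ A.s_R q56 hu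
  have r3 : c3 ∈ A.R 6 := hc3d ▸ A.s_R q56 hw
  have r4 : c4 ∈ A.R 7 := hc4d ▸ A.s_R q67 r2
  have r5 : c5 ∈ A.R 7 := hc5d ▸ A.s_R q67 r3
  haveI : Nontrivial (A.R 0) := Finite.one_lt_card_iff_nontrivial.1 (by rw [hA 0]; decide)
  obtain ⟨⟨p, hp⟩, hp0⟩ := exists_ne (0 : A.R 0)
  have hp0' : p ≠ 0 := fun e => hp0 (Subtype.ext e)
  obtain ⟨q, hq, hq0, hqp⟩ : ∃ q ∈ A.R 0, q ≠ 0 ∧ q ≠ p := by
    classical
    by_contra hne
    have hinj : Function.Injective fun v : A.R 0 => decide ((v : V) = 0) := by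
      rintro ⟨c, hc⟩ ⟨d, hd⟩ e
      have h1 : c = 0 ∨ c = p := or_iff_not_imp_left.2 fun h => by
        by_contra h'; exact hne ⟨c, hc, h, h'⟩
      have h2 : d = 0 ∨ d = p := or_iff_not_imp_left.2 fun h => by
        by_contra h'; exact hne ⟨d, hd, h, h'⟩
      simp only [decide_eq_decide] at e
      apply Subtype.ext
      rcases h1 with rfl | rfl <;> rcases h2 with rfl | rfl
      · rfl
      · exact absurd (e.1 rfl) hp0'
      · exact absurd (e.2 rfl) hp0'
      · rfl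
    have := Nat.card_le_card_of_injective _ hinj
    rw [hA 0, Nat.card_eq_fintype_card, Fintype.card_bool] at this
    exact absurd this (by decide)
  obtain ⟨b, hb⟩ : ∃ b : Fin 8 → V, b = ![u, w, c2, c3, c4, c5, p, q] := ⟨_, rfl⟩
  have b0 : b 0 = u := by rw [hb]; rfl
  have b1 : b 1 = w := by rw [hb]; rfl
  have b2 : b 2 = c2 := by rw [hb]; rfl
  have b3 : b 3 = c3 := by rw [hb]; rfl
  have b4 : b 4 = c4 := by rw [hb]; rfl
  have b5 : b 5 = c5 := by rw [hb]; rfl
  have b6 : b 6 = p := by rw [hb]; rfl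
  have b7 : b 7 = q := by rw [hb]; rfl
  have hm := A.mem_span b
  have m0 : u ∈ A.span b := b0 ▸ hm 0
  have m1 : w ∈ A.span b := b1 ▸ hm 1
  have m2 : c2 ∈ A.span b := b2 ▸ hm 2
  have m3 : c3 ∈ A.span b := b3 ▸ hm 3
  have m4 : c4 ∈ A.span b := b4 ▸ hm 4
  have m5 : c5 ∈ A.span b := b5 ▸ hm 5
  have m6 : p ∈ A.span b := b6 ▸ hm 6
  have m7 : q ∈ A.span b := b7 ▸ hm 7
  have pl : ∀ v ∈ A.R 5, v = 0 ∨ v = u ∨ v = w ∨ v = u + w := fun v hv => by
    rw [hwdef]; exact A.plane (by decide) hc5 hx5 hu hu0 hv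
  have pl0 : ∀ v ∈ A.R 0, v = 0 ∨ v = p ∨ v = q ∨ v = p + q := by
    intro v hv
    have hs : p + q ≠ 0 := fun e => hqp (((eq_neg_of_add_eq_zero_right e)).trans (A.neg_eq p))
    let f : Fin 4 → A.R 0 := ![0, ⟨p, hp⟩, ⟨q, hq⟩, ⟨p + q, add_mem hp hq⟩]
    have hinj : Function.Injective f := by
      intro s t e
      have e' := congrArg Subtype.val e
      fin_cases s <;> fin_cases t <;>
        simp [f, hp0', hp0'.symm, hq0, hq0.symm, hqp, hqp.symm, hs, hs.symm] at e' ⊢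
    have hbij : Function.Bijective f := (Nat.bijective_iff_injective_and_card f).2
      ⟨hinj, by rw [hA 0, Nat.card_eq_fintype_card, Fintype.card_fin]; rfl⟩
    obtain ⟨s, hs'⟩ := hbij.2 ⟨v, hv⟩
    have hs'' := congrArg Subtype.val hs'
    fin_cases s
    exacts [Or.inl hs''.symm, Or.inr (Or.inl hs''.symm), Or.inr (Or.inr (Or.inl hs''.symm)),
      Or.inr (Or.inr (Or.inr hs''.symm))]
  have h5 : ∀ v ∈ A.R 5, v ∈ A.span b := fun v hv => by
    rcases pl v hv with e | e | e | e <;> rw [e]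
    exacts [zero_mem _, m0, m1, add_mem m0 m1]
  have h6 : ∀ v ∈ A.R 6, v ∈ A.span b := fun v hv => by
    rw [← A.s_s 1 v]
    rcases pl _ (A.s_R q56' hv) with e | e | e | e <;> rw [e]
    · rw [map_zero]; exact zero_mem _
    · rw [← hc2d]; exact m2
    · rw [← hc3d]; exact m3
    · rw [map_add, ← hc2d, ← hc3d]; exact add_mem m2 m3
  have h7 : ∀ v ∈ A.R 7, v ∈ A.span b := fun v hv => by
    rw [← A.s_s 2 v, ← A.s_s 1 (A.φ (gen (sk 2)) v)]
    rcases pl _ (A.s_R q56' (A.s_R q67' hv)) with e | e | e | e <;> rw [e]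
    · rw [map_zero, map_zero]; exact zero_mem _
    · rw [← hc2d, ← hc4d]; exact m4
    · rw [← hc3d, ← hc5d]; exact m5
    · rw [map_add, map_add, ← hc2d, ← hc4d, ← hc3d, ← hc5d]; exact add_mem m4 m5
  have h0 : ∀ v ∈ A.R 0, v ∈ A.span b := fun v hv => by
    rcases pl0 v hv with e | e | e | e <;> rw [e]
    exacts [zero_mem _, m6, m7, add_mem m6 m7]
  have k0 : gen 1 = gen (sk 0) := congrArg gen (by decide)
  have k1 : gen 2 = gen (sk 1) := congrArg gen (by decide)
  have k2 : gen 3 = gen (sk 2) := congrArg gen (by decide)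
  have g0 : ∀ v, A.φ (gen 0) v = A.φ (eE (1, 0, 0)) v := fun v => by rw [eE_gen]
  have f5 : ∀ v ∈ A.R 5, A.φ (gen (sk 0)) v = v ∧ A.φ (gen (sk 2)) v = v := fun v hv =>
    ⟨A.plane_fix (k := 0) (by decide) hc5 (by decide +kernel) hx5 (by decide) hv,
      A.plane_fix (k := 2) (by decide) hc5 (by decide +kernel) hx5 (by decide) hv⟩
  have f7 : ∀ v ∈ A.R 7, A.φ (gen (sk 1)) v = v := fun v hv =>
    A.plane_fix (k := 1) (by decide) hc7 (by decide +kernel) hx7 (by decide) hv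
  have e5 : ∀ v ∈ A.R 5, A.φ (gen 0) v = v := fun v hv => by rw [g0]; exact A.eE_fix (by decide) hv
  have e62 : A.φ (gen 0) c2 = c3 := by
    rw [g0, hc3d, hwdef, hmove 1 (0, 1, 0) u, ← hc2d]
    exact A.eE_same (i := 6) (x := (1, 0, 0)) (y := sig 1 (0, 1, 0)) (by decide) r2
  have e63 : A.φ (gen 0) c3 = c2 + c3 := by
    rw [← e62, g0, g0, ← A.app_mul, ← eE_add]
    exact A.sq_eq (by decide) (by decide) r2
  have e74 : A.φ (gen 0) c4 = c5 := by
    have h : sig 2 (1, 0, 0) = ((1, 0, 0) : EI) := by decide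
    rw [hc5d, ← e62, g0, g0, hmove 2 (1, 0, 0) c2, ← hc4d, h]
  have e75 : A.φ (gen 0) c5 = c4 + c5 := by
    rw [← e74, g0, g0, ← A.app_mul, ← eE_add]
    exact A.sq_eq (by decide) hx7 r4
  have e14 : A.φ (gen (sk 0)) c2 = c4 := by rw [hc4d, hc2d]; exact hkey
  have e15 : A.φ (gen (sk 0)) c3 = c4 + c5 := by
    have h : sig 0 (1, 0, 0) = ((1, 0, 0) : EI) + (1, 0, 0) := by decide
    rw [← e62, ← e74, g0, g0, hmove 0 (1, 0, 0) c2, e14, h]
    exact A.sq_eq (by decide) hx7 r4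
  have e1i : ∀ v, A.φ (gen (sk 0)) (A.φ (gen (sk 0)) v) = v := A.s_s 0
  have e51 : A.φ (gen (sk 0)) c5 = c2 + c3 := by
    have h := congrArg (A.φ (gen (sk 0))) e15
    rw [e1i, map_add, ← e14, e1i] at h
    rw [h, ← add_assoc, A.two, zero_add]
  have e41 : A.φ (gen (sk 0)) c4 = c2 := by rw [← e14, e1i]
  have eW : ∀ (g : G4), A.φ g p = p ∧ A.φ g q = q := fun g => ⟨A.fixed_all hA g hp, A.fixed_all hA g hq⟩
  refine ⟨b, fun i v hv => ?_, ⟨b6.symm ▸ hp, b7.symm ▸ hq⟩, ?_, ?_, ?_, ?_⟩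
  · by_cases hi : i = 0 ∨ i = 5 ∨ i = 6 ∨ i = 7
    · rcases hi with rfl | rfl | rfl | rfl
      exacts [h0 v hv, h5 v hv, h6 v hv, h7 v hv]
    · have key : ∀ j : Fin 14, ¬(j = 0 ∨ j = 5 ∨ j = 6 ∨ j = 7) → pat 4 1 4 1 j = 1 := by decide
      rw [A.triv_R ((hA i).trans (key i hi)) hv]
      exact zero_mem _
  all_goals intro i; fin_cases i
  all_goals simp only [hb, k0, k1, k2]
  · exact e5 _ hu
  · exact e5 _ hw
  · exact e62
  · exact e63
  · exact e74
  · exact e75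
  · exact (eW _).1
  · exact (eW _).2
  · exact (f5 _ hu).1
  · exact (f5 _ hw).1
  · exact e14
  · exact e15
  · exact e41
  · exact e51
  · exact (eW _).1
  · exact (eW _).2
  · exact hc2d.symm
  · exact hc3d.symm
  · show A.φ (gen (sk 1)) c2 = u
    rw [hc2d, A.s_s]
  · show A.φ (gen (sk 1)) c3 = w
    rw [hc3d, A.s_s]
  · exact f7 _ r4
  · exact f7 _ r5
  · exact (eW _).1
  · exact (eW _).2
  · exact (f5 _ hu).2
  · exact (f5 _ hw).2
  · exact hc4d.symm
  · exact hc5d.symm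
  · show A.φ (gen (sk 2)) c4 = c2
    rw [hc4d, A.s_s]
  · show A.φ (gen (sk 2)) c5 = c3
    rw [hc5d, A.s_s]
  · exact (eW _).1
  · exact (eW _).2

/-- Three planes and a fixed plane: the orthogonal representation. -/
theorem wedge (hA : ∀ i, Nat.card (A.R i) = pat 4 1 4 1 i) :
    ∃ F : A.Frame, ∀ k, F.L (gen k) = wL k := by
  obtain ⟨b, hspan, hfix, h0, h1, h2, h3⟩ := A.wedge_base hA
  obtain ⟨F, hF⟩ := A.frame_of b hspan
  have G0 : F.L (gen 0) = wL 0 := F.L_eq fun i => by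
    have ht : ∀ i, app (wL 0) (un i) =
        ![un 0, un 1, un 3, xr (un 2) (un 3), un 5, xr (un 4) (un 5), un 6, un 7] i := by decide +kernel
    rw [hF, h0, ht]
    fin_cases i <;> simp [F.add, hF]
  have G1 : F.L (gen 1) = wL 1 := F.L_eq fun i => by
    have ht : ∀ i, app (wL 1) (un i) =
        ![un 0, un 1, un 4, xr (un 4) (un 5), un 2, xr (un 2) (un 3), un 6, un 7] i := by decide +kernel
    rw [hF, h1, ht]
    fin_cases i <;> simp [F.add, hF]
  have G2 : F.L (gen 2) = wL 2 := F.L_eq fun i => by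
    have ht : ∀ i, app (wL 2) (un i) = un (![2, 3, 0, 1, 4, 5, 6, 7] i) := by decide +kernel
    rw [hF, h2, ht, hF]
  have G3 : F.L (gen 3) = wL 3 := F.L_eq fun i => by
    have ht : ∀ i, app (wL 3) (un i) = un (![0, 1, 4, 5, 2, 3, 6, 7] i) := by decide +kernel
    rw [hF, h3, ht, hF]
  have e64 : app (F.L (gen 4)) 64 = 64 := F.e.injective (by
    rw [F.e_L, show (64 : V8) = un 6 from rfl, hF]; exact A.fixed_all hA _ hfix.1)
  have e128 : app (F.L (gen 4)) 128 = 128 := F.e.injective (by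
    rw [F.e_L, show (128 : V8) = un 7 from rfl, hF]; exact A.fixed_all hA _ hfix.2)
  have G4' : F.L (gen 4) = wL 4 := by
    generalize hY : F.L (gen 4) = Y at e64 e128 ⊢
    refine candB_unique (F.mdl (G := withY wL Y) fun k => ?_) e64 e128
    fin_cases k
    exacts [G0, G1, G2, G3, hY]
  refine ⟨F, fun k => ?_⟩
  fin_cases k
  exacts [G0, G1, G2, G3, G4']

/-- The two representations. -/
theorem classify : ∃ F : A.Frame, (∀ k, F.L (gen k) = gL k) ∨ (∀ k, F.L (gen k) = wL k) := by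
  rcases A.cases with h | h
  · obtain ⟨F, hF⟩ := A.natural h
    exact ⟨F, Or.inl hF⟩
  · obtain ⟨F, hF⟩ := A.wedge h
    exact ⟨F, Or.inr hF⟩

end Act

end CfsgLib.USixType
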