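import Cfsg.Agent.Lib.USixType.Component

/-!
The group is generated by the component of `z`: the centralisers of all involutions lie in the subgroup
it generates.
-/

set_option autoImplicit false
set_option linter.unusedSectionVars false
set_option linter.style.haveILetI false
set_option maxRecDepth 100000

open Cfsg CfsgLib.Extraspecial

namespace CfsgLib.USixType

theorem fibre_split : (AList false).all (fun x =>
    memX (AList false) ⟨0, false, x.L⟩ && decide (xmul x ⟨0, false, x.L⟩ = ⟨x.v, x.b, idL⟩)) = true := by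
  decide +kernel

theorem xmul_one (x : X) : xmul x xone = x := by
  obtain ⟨v, b, L⟩ := x
  simp [xmul, xone, app_zero, xr_zero, bA_bil.zero_right, comp_id]

/-- Products of two commuting members of the component. -/
def Pair {G : Type*} [Group G] (z u : G) : Prop :=
  ∃ d ∈ Comp z, ∃ e ∈ Comp z, d ≠ e ∧ Commute d e ∧ d * e = u

section Basic

variable {G : Type*} [Group G] [Finite G]

/-- Two involutions are conjugate or have an involution centralising both. -/
theorem two_invol {x y : G} (hx : x * x = 1) (hy : y * y = 1) :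
    (∃ h ∈ Subgroup.closure {x, y}, h * x * h⁻¹ = y) ∨
      ∃ w, w ∈ Subgroup.closure {x, y} ∧ w ≠ 1 ∧ w * w = 1 ∧ Commute x w ∧ Commute y w ∧
        ∃ h ∈ Subgroup.closure {x, y}, h * x * h⁻¹ = y * w ∨ h * y * h⁻¹ = y * w := by
  set r := x * y with hr
  set C := Subgroup.closure {x, y}
  have xC : x ∈ C := Subgroup.subset_closure (Or.inl rfl)
  have yC : y ∈ C := Subgroup.subset_closure (Or.inr rfl)
  have rC : r ∈ C := C.mul_mem xC yC
  have xi : x⁻¹ = x := inv_eq_of_mul_eq_one_right hx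
  have yi : y⁻¹ = y := inv_eq_of_mul_eq_one_right hy
  have hxr : ∀ m : ℕ, x * r ^ m = (r ^ m)⁻¹ * x := fun m => by
    have : SemiconjBy x r r⁻¹ := by
      show x * r = r⁻¹ * x
      rw [hr, mul_inv_rev, xi, yi, ← mul_assoc, hx, one_mul, mul_assoc, hx, mul_one]
    rw [← inv_pow]
    exact (this.pow_right m).eq
  have hyr : ∀ m : ℕ, y * r ^ m = (r ^ m)⁻¹ * y := fun m => by
    have : SemiconjBy y r r⁻¹ := by
      show y * r = r⁻¹ * y
      rw [hr, mul_inv_rev, xi, yi, mul_assoc]
    rw [← inv_pow]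
    exact (this.pow_right m).eq
  rcases Nat.even_or_odd (orderOf r) with ⟨k, hk⟩ | ⟨m, hm⟩
  · right
    have hpos := orderOf_pos r
    have hw2 : r ^ k * r ^ k = 1 := by rw [← pow_add, ← hk]; exact pow_orderOf_eq_one r
    have hwi : (r ^ k)⁻¹ = r ^ k := inv_eq_of_mul_eq_one_right hw2
    refine ⟨r ^ k, C.pow_mem rC k, fun e => ?_, hw2, ?_, ?_, ?_⟩
    · have := Nat.le_of_dvd (by omega) (orderOf_dvd_of_pow_eq_one e)
      omega
    · show x * r ^ k = r ^ k * x
      rw [hxr, hwi]
    · show y * r ^ k = r ^ k * y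
      rw [hyr, hwi]
    · rcases Nat.even_or_odd k with ⟨m, rfl⟩ | ⟨m, rfl⟩
      · refine ⟨(r ^ m)⁻¹, C.inv_mem (C.pow_mem rC m), Or.inr ?_⟩
        rw [inv_inv, ← hyr, pow_add]
        group
      · refine ⟨(r ^ m)⁻¹ * y, C.mul_mem (C.inv_mem (C.pow_mem rC m)) yC, Or.inl ?_⟩
        calc (r ^ m)⁻¹ * y * x * ((r ^ m)⁻¹ * y)⁻¹ = (r ^ m)⁻¹ * y * (x * y⁻¹ * r ^ m) := by group
          _ = (r ^ m)⁻¹ * y * (r ^ (m + 1)) := by rw [yi, ← hr, ← pow_succ']
          _ = y * r ^ m * r ^ (m + 1) := by rw [← hyr]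
          _ = _ := by rw [mul_assoc, ← pow_add]; congr 2; omega
  · left
    refine ⟨r ^ m, C.pow_mem rC m, ?_⟩
    calc r ^ m * x * (r ^ m)⁻¹ = r ^ m * (r ^ m * (x * r ^ m)) * (r ^ m)⁻¹ := by
          rw [hxr]; group
      _ = r ^ (2 * m) * x := by rw [two_mul, pow_add]; group
      _ = r⁻¹ * x := by
          rw [show r ^ (2 * m) = r⁻¹ from eq_inv_of_mul_eq_one_left (by
            rw [← pow_succ, ← hm]; exact pow_orderOf_eq_one r)]
      _ = y := by rw [hr, mul_inv_rev, xi, yi, mul_assoc, hx, mul_one]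

/-- A braid conjugates one involution to the other. -/
theorem braid_conj {x y : G} (hx : x * x = 1) (hy : y * y = 1) (h : (x * y) ^ 3 = 1) :
    x * y * x * (x * y)⁻¹ = y := by
  have xi : x⁻¹ = x := inv_eq_of_mul_eq_one_right hx
  have yi : y⁻¹ = y := inv_eq_of_mul_eq_one_right hy
  have h' : x * y * (x * y) * (x * y) = 1 := by rw [← h, pow_succ, pow_two]
  rw [mul_inv_rev, xi, yi]
  calc x * y * x * (y * x) = x * y * (x * y) * x := by group
    _ = x * y * (x * y) * (x * y) * y⁻¹ := by group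
    _ = y := by rw [h', one_mul, yi]

end Basic

namespace Sp

variable {G : Type*} [Group G] [Finite G] {z : G} {Q : Subgroup G} {π : ↥(Cz z) →* G4} (T : Sp z Q π)
  (H : Pre z Q π) (hni : ∃ g : G, g * z * g⁻¹ ∈ Cz z ∧ g * z * g⁻¹ ≠ z)
include T H hni

theorem adj_comp {a : G} (h : Adj z a) : a ∈ Comp z := comp_of_commute h.2.1 (commute_z.2 h.1)

theorem comp_sq {x : G} (h : x ∈ Comp z) : x * x = 1 := T.conj_sq H h.1

/-- The subgroup generated by the component stabilises it. -/
theorem gen_stab {h : G} (hh : h ∈ Subgroup.closure (Comp z)) {x : G} (hx : x ∈ Comp z) :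
    h * x * h⁻¹ ∈ Comp z := by
  refine T.comp_conj H hni ?_ hx
  rw [← Subgroup.mem_toSubmonoid, Subgroup.closure_toSubmonoid_of_finite] at hh
  induction hh using Submonoid.closure_induction with
  | mem d hd =>
    obtain ⟨hdK, a, haK, hza, had⟩ := id hd
    refine T.comp_step H hni (y := d * a * d⁻¹) ?_ (isK_self.conj d) (commute_cj.2 hza.symm)
    rw [← had.eq, mul_inv_cancel_right]
    exact comp_of_commute haK hza
  | one => rw [one_mul, inv_one, mul_one]; exact z_comp
  | mul a b _ _ ha hb =>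
    have := T.comp_conj H hni ha hb
    rwa [show a * (b * z * b⁻¹) * a⁻¹ = a * b * z * (a * b)⁻¹ by group] at this

theorem cz_le : Cz z ≤ Subgroup.closure (Comp z) := by
  set G0 := Subgroup.closure (Comp z)
  have hA : ∀ {x : X}, x ∈ AList false → ∃ a ∈ G0, T.Den x a := fun hx => by
    obtain ⟨a, ha, haA⟩ := T.alist_den H hni hx
    exact ⟨a, Subgroup.subset_closure (T.adj_comp H hni haA), ha⟩
  have hzG : z ∈ G0 := Subgroup.subset_closure z_comp
  have hbit : ∀ v b, T.C.j v b ∈ G0 → ∀ b', T.C.j v b' ∈ G0 := by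
    intro v b h b'
    have := G0.mul_mem hzG h
    rw [T.C.z_mul] at this
    cases b <;> cases b' <;> assumption
  have hv : ∀ x ∈ AList false, ∀ b, T.C.j x.v b ∈ G0 := by
    intro x hx
    have h := List.all_eq_true.1 fibre_split x hx
    simp only [Bool.and_eq_true, decide_eq_true_eq, memX, List.any_eq_true] at h
    obtain ⟨⟨y, hy, -, rfl⟩, hm⟩ := h
    obtain ⟨a, ha, had⟩ := hA hx
    obtain ⟨c, hc, hcd⟩ := hA hy
    have hd : T.Den ⟨x.v, x.b, idL⟩ (T.C.j x.v x.b) := T.den_j x.v x.b
    have := T.den_fun (hm ▸ T.den_mul had hcd) hd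
    exact hbit _ x.b (this ▸ G0.mul_mem ha hc)
  have hadd : ∀ v w, (∀ b, T.C.j v b ∈ G0) → (∀ b, T.C.j w b ∈ G0) → ∀ b, T.C.j (xr v w) b ∈ G0 := by
    intro v w h1 h2
    have := G0.mul_mem (h1 false) (h2 false)
    rw [T.C.mul] at this
    exact hbit _ _ this
  have hj : ∀ v b, T.C.j v b ∈ G0 := by
    have key : ∀ l : List (Fin 8), ∀ b, T.C.j ((l.map un).foldr xr 0) b ∈ G0 := by
      intro l
      induction l with
      | nil => exact hbit _ false (by rw [List.map_nil, List.foldr_nil, T.C.j_one]; exact G0.one_mem)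
      | cons i l ih =>
        obtain ⟨x, hx, y, hy, e⟩ := span_pairs i
        refine hadd _ _ ?_ ih
        rw [e]
        exact hadd _ _ (hv x hx) (hv y hy)
    intro v
    have := key ((List.finRange 8).filter fun i => cb v i.1)
    rwa [unit_span] at this
  have hgen : ∀ k, T.s (gen k) ∈ G0 := by
    intro k
    have key : ∀ l : List ℕ, ∃ a ∈ G0, T.Den (xprod (l.map fun i => (AList false).getD i xone)) a := by
      intro l
      induction l with
      | nil => exact ⟨1, G0.one_mem, T.den_one⟩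
      | cons i l ih =>
        obtain ⟨a, ha, had⟩ := ih
        obtain ⟨c, hc, hcd⟩ : ∃ c ∈ G0, T.Den ((AList false).getD i xone) c := by
          rw [List.getD_eq_getElem?_getD]
          cases hg : (AList false)[i]? with
          | none => exact ⟨1, G0.one_mem, T.den_one⟩
          | some y => exact hA (List.mem_of_getElem? hg)
        exact ⟨c * a, G0.mul_mem hc ha, T.den_mul hcd had⟩
    obtain ⟨a, ha, had⟩ := key (genT k)
    rw [gen_flips, ] at had
    rw [← evalW_single k, T.den_fun (T.den_s [k]) had]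
    exact ha
  have hs : ∀ g, T.s g ∈ G0 := by
    intro g
    have hg : g ∈ Subgroup.closure (Set.range gen) := by rw [gen_top]; exact Subgroup.mem_top g
    induction hg using Subgroup.closure_induction with
    | mem x hx => obtain ⟨k, rfl⟩ := hx; exact hgen k
    | one => rw [map_one]; exact G0.one_mem
    | mul x y _ _ hx hy => rw [map_mul]; exact G0.mul_mem hx hy
    | inv x _ hx => rw [map_inv]; exact G0.inv_mem hx
  intro c hc
  obtain ⟨v, b, g, rfl⟩ := T.el_surj H hc
  exact G0.mul_mem (hj v b) (hs g)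

theorem braid_move {x y : G} (hx : x ∈ Comp z) (hy : y ∈ Comp z) (h : ¬ Commute x y) :
    ∃ k ∈ Subgroup.closure (Comp z), k * x * k⁻¹ = y :=
  ⟨x * y, mul_mem (Subgroup.subset_closure hx) (Subgroup.subset_closure hy),
    braid_conj (T.comp_sq H hni hx) (T.comp_sq H hni hy) ((T.comp_three H hni hx hy).resolve_left h)⟩

/-- The subgroup generated by the component is transitive on it. -/
theorem gen_trans {x : G} (hx : x ∈ Comp z) :
    ∃ h ∈ Subgroup.closure (Comp z), h * z * h⁻¹ = x := by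
  have step : ∀ {u w : G}, (∃ h ∈ Subgroup.closure (Comp z), h * z * h⁻¹ = u) → u ∈ Comp z → w ∈ Comp z →
      ¬ Commute u w → ∃ h ∈ Subgroup.closure (Comp z), h * z * h⁻¹ = w := by
    rintro u w ⟨h, hh, rfl⟩ hu hw hne
    obtain ⟨k, hk, hkw⟩ := T.braid_move H hni hu hw hne
    exact ⟨k * h, mul_mem hk hh, by rw [← hkw]; group⟩
  have hz1 : ∃ h ∈ Subgroup.closure (Comp z), h * z * h⁻¹ = z := ⟨1, one_mem _, by group⟩
  by_cases hzx : Commute z x
  swap
  · exact step hz1 z_comp hx hzx
  by_cases hxz : x = z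
  · subst hxz; exact hz1
  have hxA : Adj z x := ⟨commute_z.1 hzx, hx.1, hxz⟩
  -- some neighbour of `z` is reached
  obtain ⟨b, hbA, hb⟩ : ∃ b, Adj z b ∧ ∃ h ∈ Subgroup.closure (Comp z), h * z * h⁻¹ = b := by
    obtain ⟨g, hg⟩ := hxA.2.1
    subst hg
    have hza : Adj z (g⁻¹ * z * g) := T.adj_at H hni isK_self hzx.symm (fun e => hxz e.symm)
    obtain ⟨e, he, hne, -⟩ := T.noncomm_adj H hni hza hza (Commute.refl _)
    obtain ⟨b, hb, hbne, hzb, heb⟩ := T.apart_adj H hni hza he hne
    have cz : ∀ u, Commute (g⁻¹ * z * g) u ↔ Commute z (g * u * g⁻¹) := fun u => by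
      rw [← commute_cj (g := g), show g * (g⁻¹ * z * g) * g⁻¹ = z by group]
    have hyC : g * e * g⁻¹ ∈ Comp z :=
      ⟨he.2.1.conj g, g * z * g⁻¹, ⟨g, rfl⟩, hzx, commute_cj.2 (commute_z.2 he.1)⟩
    have hbA : Adj z (g * b * g⁻¹) := ⟨commute_z.1 ((cz b).1 hzb), hb.2.1.conj g, fun e' => hbne (by
      conv_rhs => rw [← e']
      group)⟩
    refine ⟨_, hbA, step (step hz1 z_comp hyC fun h => hne ((cz e).2 h)) hyC (T.adj_comp H hni hbA) ?_⟩
    exact fun h => heb (commute_cj.1 h)
  by_cases hbx : Commute b x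
  swap
  · exact step hb (T.adj_comp H hni hbA) hx hbx
  obtain ⟨e, he, heb, hex⟩ := T.noncomm_adj H hni hbA hxA hbx
  exact step (step hb (T.adj_comp H hni hbA) (T.adj_comp H hni he) heb) (T.adj_comp H hni he) hx
    fun h => hex h.symm

theorem adj_card : Nat.card {a : G // Adj z a} = 180 := by
  classical
  have hf : ∀ a : {a : G // Adj z a}, ∃ x : {x : X // x ∈ (AList false).toFinset}, T.Den x.1 a.1 := fun a => by
    obtain ⟨x, hx, hd⟩ := (T.adj_den H hni).1 a.2
    exact ⟨⟨x, List.mem_toFinset.2 hx⟩, hd⟩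
  choose f hf using hf
  have hb : Function.Bijective f := by
    refine ⟨fun a b e => Subtype.ext (T.den_fun (hf a) (e ▸ hf b)), fun x => ?_⟩
    obtain ⟨a, ha, haA⟩ := T.alist_den H hni (List.mem_toFinset.1 x.2)
    exact ⟨⟨a, haA⟩, Subtype.ext (T.den_inj H (hf ⟨a, haA⟩) ha)⟩
  rw [Nat.card_eq_of_bijective f hb, Nat.card_eq_fintype_card, Fintype.card_coe,
    List.toFinset_card_of_nodup alist_len.2, alist_len.1]

/-- An involution of the generated subgroup commutes with a member. -/
theorem exists_fixed {t : G} (ht : t ∈ Subgroup.closure (Comp z)) (ht2 : t * t = 1) :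
    ∃ y ∈ Comp z, Commute t y := by
  classical
  haveI : Fact (Nat.Prime 2) := ⟨Nat.prime_two⟩
  haveI : Fintype G := Fintype.ofFinite G
  let perm : ∀ u : G, u ∈ Subgroup.closure (Comp z) → u * u = 1 → Equiv.Perm (Comp z) := fun u hu hu2 =>
    Function.Involutive.toPerm (fun x => ⟨u * x.1 * u⁻¹, T.gen_stab H hni hu x.2⟩) fun x => Subtype.ext (by
      show u * (u * x.1 * u⁻¹) * u⁻¹ = x.1
      rw [show u * (u * x.1 * u⁻¹) * u⁻¹ = u * u * x.1 * (u * u)⁻¹ by group, hu2]
      group)
  have hperm : ∀ u hu hu2, perm u hu hu2 ^ 2 ^ 1 = 1 := fun u hu hu2 => by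
    rw [pow_one, pow_two]
    ext x
    exact congrArg Subtype.val ((perm u hu hu2).symm_apply_apply x)
  have hfix : ∀ u hu hu2 (x : Comp z), perm u hu hu2 x = x ↔ Commute u x.1 := fun u hu hu2 x => by
    rw [Subtype.ext_iff]
    exact ⟨fun h => mul_inv_eq_iff_eq_mul.1 h, fun h => mul_inv_eq_iff_eq_mul.2 h⟩
  have hodd : ¬ 2 ∣ Fintype.card (Comp z) := by
    set σ : Function.End (Comp z) := ⇑(perm z (Subgroup.subset_closure z_comp) H.z2) with hσ
    have h2 : σ ^ 2 ^ 1 = 1 := by
      funext x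
      exact Equiv.ext_iff.1 (hperm z (Subgroup.subset_closure z_comp) H.z2) x
    have hm := Equiv.Perm.card_fixedPoints_modEq h2
    have hfz : ∀ x : Comp z, Function.IsFixedPt σ x ↔ Commute z x.1 := fun x =>
      hfix z (Subgroup.subset_closure z_comp) H.z2 x
    have hcard : Fintype.card (Function.fixedPoints σ) = 181 := by
      rw [← Nat.card_eq_fintype_card]
      let e : Function.fixedPoints σ ≃ Option {a : G // Adj z a} :=
        { toFun := fun x => if h : x.1.1 = z then none else some ⟨x.1.1,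
            commute_z.1 ((hfz x.1).1 x.2), x.1.2.1, h⟩
          invFun := fun o => match o with
            | none => ⟨⟨z, z_comp⟩, (hfz _).2 (Commute.refl z)⟩
            | some a => ⟨⟨a.1, T.adj_comp H hni a.2⟩, (hfz _).2 (commute_z.2 a.2.1)⟩
          left_inv := fun x => by
            by_cases h : x.1.1 = z
            · simp only [h, dite_true]
              exact Subtype.ext (Subtype.ext h.symm)
            · simp only [h, dite_false]
          right_inv := fun o => by
            rcases o with - | a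
            · simp
            · simp [a.2.2.2] }
      rw [Nat.card_congr e, Finite.card_option, T.adj_card H hni]
    rw [hcard] at hm
    intro hd
    have := hm.symm.trans ((Nat.modEq_zero_iff_dvd).2 hd)
    exact absurd this (by decide)
  obtain ⟨x, hx⟩ := Equiv.Perm.exists_fixed_point_of_prime hodd (hperm t ht ht2)
  exact ⟨x.1, x.2, (hfix t ht ht2 x).1 hx⟩

/-- A conjugate in the generated subgroup lies in the component. -/
theorem comp_of_mem {x : G} (hx : IsK z x) (hm : x ∈ Subgroup.closure (Comp z)) : x ∈ Comp z := by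
  obtain ⟨y, hy, hc⟩ := T.exists_fixed H hni hm (T.conj_sq H hx)
  exact T.comp_step H hni hy hx hc.symm

/-- An element moving a member into the generated subgroup lies in it. -/
theorem mem_of_move {d g : G} (hd : d ∈ Comp z) (hg : g * d * g⁻¹ ∈ Subgroup.closure (Comp z)) :
    g ∈ Subgroup.closure (Comp z) := by
  obtain ⟨h, hh, rfl⟩ := T.gen_trans H hni hd
  obtain ⟨k, hk, e⟩ := T.gen_trans H hni (T.comp_of_mem H hni (hd.1.conj g) hg)
  have hc : k⁻¹ * g * h ∈ Cz z := by
    refine mem_Cz.2 ?_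
    calc k⁻¹ * g * h * z = k⁻¹ * (g * (h * z * h⁻¹) * g⁻¹) * g * h := by group
      _ = k⁻¹ * (k * z * k⁻¹) * g * h := by rw [e]
      _ = _ := by group
  have := mul_mem (mul_mem hk (T.cz_le H hni hc)) (inv_mem hh)
  rwa [show k * (k⁻¹ * g * h) * h⁻¹ = g by group] at this

theorem commute_mem {x d : G} (hd : d ∈ Comp z) (h : Commute x d) : x ∈ Subgroup.closure (Comp z) :=
  T.mem_of_move H hni hd (by rw [h.eq, mul_inv_cancel_right]; exact Subgroup.subset_closure hd)

theorem pair_commute {p d e : G} (hp : p ∈ Comp z) (hd : d ∈ Comp z) (he : e ∈ Comp z) (hne : d ≠ e)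
    (hde : Commute d e) (h : Commute p (d * e)) : Commute p d ∧ Commute p e := by
  have sq := fun {x : G} (hx : x ∈ Comp z) => T.comp_sq H hni hx
  by_cases h1 : Commute p d
  · refine ⟨h1, ?_⟩
    have : Commute p (d⁻¹ * (d * e)) := h1.inv_right.mul_right h
    rwa [inv_mul_cancel_left] at this
  by_cases h2 : Commute p e
  · refine absurd ?_ h1
    have : Commute p (d * e * e⁻¹) := h.mul_right h2.inv_right
    rwa [mul_inv_cancel_right] at this
  exfalso
  have br : ∀ {u : G}, u ∈ Comp z → ¬ Commute p u → p * u * p = u * p * u := fun {u} hu hnc => by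
    have := braid_conj (sq hp) (sq hu) ((T.comp_three H hni hp hu).resolve_left hnc)
    have pi : p⁻¹ = p := inv_eq_of_mul_eq_one_right (sq hp)
    have ui : u⁻¹ = u := inv_eq_of_mul_eq_one_right (sq hu)
    rw [mul_inv_rev, pi, ui] at this
    calc p * u * p = p * u * p * (u * p) * (p * u) := by
          rw [show p * u * p * (u * p) * (p * u) = p * u * p * u * (p * p) * u by group, sq hp, mul_one,
            mul_assoc (p * u * p), sq hu, mul_one]
      _ = u * p * u := by rw [this]; group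
  have e1 : p * (d * e) * p = d * e := by rw [h.eq, mul_assoc, sq hp, mul_one]
  have e2 : d * e = d * (p * (d * e) * p) * e := by
    conv_lhs => rw [← e1, show p * (d * e) * p = (p * d * p) * (p * e * p) by
      rw [show (p * d * p) * (p * e * p) = p * d * (p * p) * e * p by group, sq hp]; group]
    rw [br hd h1, br he h2]
    group
  have e3 : p * (d * e) * p = 1 := by
    have e4 := mul_left_cancel (e2.trans (mul_assoc _ _ _))
    exact mul_eq_right.1 e4.symm
  rw [e1] at e3
  exact hne ((eq_inv_of_mul_eq_one_left e3).trans (inv_eq_of_mul_eq_one_right (sq he)))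

theorem pair_conj {u h : G} (hu : Pair z u) (hh : h ∈ Subgroup.closure (Comp z)) : Pair z (h * u * h⁻¹) := by
  obtain ⟨d, hd, e, he, hne, hde, rfl⟩ := hu
  exact ⟨_, T.gen_stab H hni hh hd, _, T.gen_stab H hni hh he,
    fun q => hne (mul_left_cancel (mul_right_cancel q)), commute_cj.2 hde, by group⟩

theorem not_pair {u : G} {x : X} (hx : T.Den x u) (h : noDec x = true) : ¬ Pair z u := by
  rintro ⟨d, hd, e, he, hne, hde, rfl⟩
  have mem : ∀ {y : X} {a : G}, T.Den y a → Adj z a → memX (AList false) y = true := fun hy ha => by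
    obtain ⟨y', hy', hd'⟩ := (T.adj_den H hni).1 ha
    rw [T.den_inj H hy hd']
    exact List.any_eq_true.2 ⟨y', hy', by simp⟩
  simp only [noDec, Bool.and_eq_true, Bool.not_eq_true', List.all_eq_true] at h
  obtain ⟨hzd, hze⟩ := T.pair_commute H hni z_comp hd he hne hde (commute_z.2 (T.den_mem H hx))
  by_cases h1 : d = z
  · subst h1
    have h' : T.Den (xmul xz x) e := by
      have := T.den_mul T.den_z hx
      rwa [← mul_assoc, H.z2, one_mul] at this
    exact Bool.eq_false_iff.1 h.1 (mem h' ⟨commute_z.1 hze, he.1, hne.symm⟩)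
  by_cases h2 : e = z
  · subst h2
    have h' : T.Den (xmul xz x) d := by
      have := T.den_mul T.den_z hx
      rwa [hde.eq, ← mul_assoc, H.z2, one_mul] at this
    exact Bool.eq_false_iff.1 h.1 (mem h' ⟨commute_z.1 hzd, hd.1, h1⟩)
  obtain ⟨y, hy, hyd⟩ := (T.adj_den H hni).1 (⟨commute_z.1 hzd, hd.1, h1⟩ : Adj z d)
  have h' : T.Den (xmul y x) e := by
    have := T.den_mul hyd hx
    rwa [← mul_assoc, T.comp_sq H hni hd, one_mul] at this
  exact Bool.eq_false_iff.1 (h.2 y hy) (mem h' ⟨commute_z.1 hze, he.1, h2⟩)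

/-- The decomposition of the base pair is unique. -/
theorem pair_base_unique {d e : G} (hd : d ∈ Comp z) (he : e ∈ Comp z) (hde : Commute d e)
    (h : d * e = z * T.rp false false) : d = z ∨ d = T.rp false false := by
  set a := T.rp false false with ha
  have haA : Adj z a := T.adj_base H hni
  have hza : Commute z a := commute_z.2 haA.1
  by_contra hcon
  obtain ⟨h1, h2⟩ := not_or.1 hcon
  have hne : d ≠ e := fun q => haA.2.2 (by
    rw [q, T.comp_sq H hni he] at h
    exact ((eq_inv_of_mul_eq_one_right h.symm).trans H.st.inv_z))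
  obtain ⟨hzd, hze⟩ := T.pair_commute H hni z_comp hd he hne hde (by rw [h]; exact (Commute.refl z).mul_right hza)
  obtain ⟨had, -⟩ := T.pair_commute H hni (T.adj_comp H hni haA) hd he hne hde
    (by rw [h]; exact hza.symm.mul_right (Commute.refl a))
  have hee : e = d * z * a := by
    rw [mul_assoc, ← h, ← mul_assoc, T.comp_sq H hni hd, one_mul]
  have he2 : e ≠ z := fun q => h2 (by
    have : d * z = z * a := q ▸ h
    rw [← hzd.eq] at this
    exact mul_left_cancel this)
  obtain ⟨x, hx, hxd⟩ := T.den_setF H hni ⟨commute_z.1 hzd, hd.1, h1⟩ had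
  obtain ⟨y, hy, hyd⟩ := (T.adj_den H hni).1 (⟨commute_z.1 hze, he.1, he2⟩ : Adj z e)
  have h3 := List.all_eq_true.1 pair_unique x hx
  rw [Bool.or_eq_true, beq_iff_eq, Bool.not_eq_true'] at h3
  rcases h3 with h3 | h3
  · exact h2 (T.den_fun hxd (h3 ▸ T.den_rp false false))
  refine Bool.eq_false_iff.1 h3 ?_
  have hX : T.Den (xprod [x, xz, xbase]) e := by
    have := T.den_prod H hni (.cons hxd (.cons T.den_z (.cons (T.den_rp false false) .nil)))
    rwa [List.prod_cons, List.prod_cons, List.prod_singleton, ← mul_assoc, ← hee] at this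
  rw [T.den_inj H hX hyd]
  exact List.any_eq_true.2 ⟨y, hy, by simp⟩

/-- The centraliser of a commuting pair's product lies in the generated subgroup. -/
theorem cent_pair_base : Cz (z * T.rp false false) ≤ Subgroup.closure (Comp z) := by
  set G0 := Subgroup.closure (Comp z) with hG0
  set a := T.rp false false with ha
  set t := z * a with ht
  intro g hg
  by_contra hgG
  have haA : Adj z a := T.adj_base H hni
  have hza : Commute z a := commute_z.2 haA.1
  have haC := T.adj_comp H hni haA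
  set x := g * z * g⁻¹ with hx
  have hxG : ∀ d ∈ Comp z, ¬ Commute x d := fun d hd h =>
    hgG (T.mem_of_move H hni z_comp (T.commute_mem H hni hd h))
  have hxt : Commute x t := by
    have : Commute (g * z * g⁻¹) (g * t * g⁻¹) := commute_cj.2 ((Commute.refl z).mul_right hza)
    rwa [mem_Cz.1 hg, mul_inv_cancel_right] at this
  obtain ⟨hlF, hlN, hlP⟩ := lineF_facts
  obtain ⟨y1, hy1⟩ : ∃ a, T.Den ⟨5, true, gL 1⟩ a ∧ Adj z a ∧ Commute (T.rp false false) a :=
    T.setF_den H hni (List.contains_iff_mem.1 (Bool.and_eq_true_iff.1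
      (Bool.and_eq_true_iff.1 (List.all_eq_true.1 hlF _ (List.mem_cons_self ..))).1).1)
  obtain ⟨y2, hy2⟩ : ∃ a, T.Den ⟨10, true, gL 1⟩ a ∧ Adj z a ∧ Commute (T.rp false false) a :=
    T.setF_den H hni (List.contains_iff_mem.1 (Bool.and_eq_true_iff.1
      (Bool.and_eq_true_iff.1 (List.all_eq_true.1 hlF _ (by simp [lineF]))).1).1)
  obtain ⟨y3, hy3⟩ : ∃ a, T.Den ⟨15, true, gL 1⟩ a ∧ Adj z a ∧ Commute (T.rp false false) a :=
    T.setF_den H hni (List.contains_iff_mem.1 (Bool.and_eq_true_iff.1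
      (Bool.and_eq_true_iff.1 (List.all_eq_true.1 hlF _ (by simp [lineF]))).1).1)
  have hr : T.Den xbase a := T.den_rp false false
  -- the line
  let L3 : G → Prop := fun u => Adj z u ∧ u ≠ a ∧ ∀ c, Adj z c → Commute a c → Commute u c
  have mem3 : ∀ {u : G} {X0 : X}, T.Den X0 u → X0 ∈ lineF → L3 u := by
    intro u X0 hu hX0
    have hf := List.all_eq_true.1 hlF X0 hX0
    simp only [Bool.and_eq_true, bne_iff_ne, beq_iff_eq] at hf
    obtain ⟨⟨hS, hne⟩, hL⟩ := hf
    have hS' := List.contains_iff_mem.1 hS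
    obtain ⟨u', hu', huA, -⟩ := T.setF_den H hni hS'
    obtain rfl := T.den_fun hu hu'
    refine ⟨huA, fun e => hne (T.den_inj H hu (e ▸ hr)), fun c hc hac => ?_⟩
    obtain ⟨xc, hxc, hcd⟩ := T.den_setF H hni hc hac
    have h2 := List.all_eq_true.1 fibre_perp X0 hS'
    rw [Bool.or_eq_true, bne_iff_ne, List.all_eq_true] at h2
    exact (T.den_com H hu hcd).1 ((h2.resolve_left (not_not.2 hL)) xc hxc)
  have only3 : ∀ {u : G}, L3 u → u = y1 ∨ u = y2 ∨ u = y3 := by
    rintro u ⟨huA, hua, hall⟩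
    obtain ⟨xu, hxu, hud⟩ := (T.adj_den H hni).1 huA
    have h := List.all_eq_true.1 line_perp xu hxu
    simp only [Bool.or_eq_true, Bool.not_eq_true', beq_iff_eq, List.contains_iff_mem] at h
    rcases h with (h | h) | h
    · refine absurd ?_ (Bool.eq_false_iff.1 h)
      rw [List.all_eq_true]
      intro y hy
      obtain ⟨c, hc, hcA, hac⟩ := T.setF_den H hni hy
      exact (T.den_com H hud hc).2 (hall c hcA hac).eq
    · exact absurd (T.den_fun hud (h ▸ hr)) hua
    · simp only [lineF, List.mem_cons, List.not_mem_nil, or_false] at h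
      rcases h with rfl | rfl | rfl
      exacts [Or.inl (T.den_fun hud hy1.1), Or.inr (Or.inl (T.den_fun hud hy2.1)),
        Or.inr (Or.inr (T.den_fun hud hy3.1))]
  have L1 : L3 y1 := mem3 hy1.1 (by simp [lineF])
  have L2 : L3 y2 := mem3 hy2.1 (by simp [lineF])
  have L3' : L3 y3 := mem3 hy3.1 (by simp [lineF])
  have five : z * a * y1 * y2 * y3 = 1 := by
    have := T.den_fun (hlP ▸ T.den_prod H hni (.cons T.den_z (.cons hr (.cons hy1.1 (.cons hy2.1
      (.cons hy3.1 .nil)))))) T.den_one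
    simpa [mul_assoc] using this
  have sq : ∀ {u : G}, L3 u → u * u = 1 := fun h => T.conj_sq H h.1.2.1
  have c12 : Commute y1 y2 := L1.2.2 y2 L2.1 hy2.2.2
  have c13 : Commute y1 y3 := L1.2.2 y3 L3'.1 hy3.2.2
  have c23 : Commute y2 y3 := L2.2.2 y3 L3'.1 hy3.2.2
  have p123 : y1 * y2 * y3 = t := by
    have h : y1 * y2 * y3 = (z * a)⁻¹ := eq_inv_of_mul_eq_one_right (by rw [← five]; group)
    rw [h, mul_inv_rev, H.st.inv_z, inv_eq_of_mul_eq_one_right (T.conj_sq H haA.2.1)]
    exact hza.eq.symm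
  -- the product of two line points and `t` is the third
  have tw : t * (y1 * y2) = y3 ∧ t * (y1 * y3) = y2 ∧ t * (y2 * y3) = y1 := by
    refine ⟨?_, ?_, ?_⟩ <;> rw [← p123]
    · calc y1 * y2 * y3 * (y1 * y2) = y1 * (y2 * y3) * y1 * y2 := by group
        _ = (y1 * y1) * (y2 * y3) * y2 := by
          rw [mul_assoc y1 (y2 * y3) y1, ← (c12.mul_right c13).eq]; group
        _ = y3 := by rw [sq L1, one_mul, mul_assoc, ← c23.eq, ← mul_assoc, sq L2, one_mul]
    · calc y1 * y2 * y3 * (y1 * y3) = y1 * (y2 * y3) * y1 * y3 := by group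
        _ = (y1 * y1) * (y2 * y3) * y3 := by
          rw [mul_assoc y1 (y2 * y3) y1, ← (c12.mul_right c13).eq]; group
        _ = y2 := by rw [sq L1, one_mul, mul_assoc, sq L3', mul_one]
    · calc y1 * y2 * y3 * (y2 * y3) = y1 * (y2 * (y3 * y2)) * y3 := by group
        _ = y1 * ((y2 * y2) * y3) * y3 := by rw [← c23.eq]; group
        _ = y1 := by rw [sq L2, one_mul, mul_assoc, sq L3', mul_one]
  have third : ∀ {u v : G}, L3 u → L3 v → u ≠ v → L3 (t * (u * v)) := by
    intro u v hu hv hne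
    rcases only3 hu with rfl | rfl | rfl <;> rcases only3 hv with rfl | rfl | rfl
    · exact absurd rfl hne
    · rw [tw.1]; exact L3'
    · rw [tw.2.1]; exact L2
    · rw [← c12.eq, tw.1]; exact L3'
    · exact absurd rfl hne
    · rw [tw.2.2]; exact L1
    · rw [← c13.eq, tw.2.1]; exact L2
    · rw [← c23.eq, tw.2.2]; exact L1
    · exact absurd rfl hne
  -- an element of the generated subgroup fixing `t` permutes `z`, `a`
  have stab : ∀ {q : G}, q ∈ Cz t → q ∈ G0 →
      (q * z * q⁻¹ = z ∧ q * a * q⁻¹ = a) ∨ (q * z * q⁻¹ = a ∧ q * a * q⁻¹ = z) := by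
    intro q hq hqG
    have hp : q * z * q⁻¹ * (q * a * q⁻¹) = t := by
      rw [show q * z * q⁻¹ * (q * a * q⁻¹) = q * t * q⁻¹ by rw [ht]; group, mem_Cz.1 hq,
        mul_inv_cancel_right]
    rcases T.pair_base_unique H hni (T.gen_stab H hni hqG z_comp) (T.gen_stab H hni hqG haC)
        (commute_cj.2 hza) hp with e | e
    · rw [e] at hp
      exact Or.inl ⟨e, mul_left_cancel hp⟩
    · refine Or.inr ⟨e, ?_⟩
      rw [e, ht, hza.eq] at hp
      exact mul_left_cancel hp
  have hstab3 : ∀ {q u : G}, q ∈ Cz t → q ∈ G0 → L3 u → L3 (q * u * q⁻¹) := by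
    rintro q u hq hqG ⟨huA, hua, hall⟩
    have hau : Commute a u := (hall a haA (Commute.refl a)).symm
    have hcomm : Commute z (q * u * q⁻¹) ∧ Commute a (q * u * q⁻¹) ∧ q * u * q⁻¹ ≠ z ∧ q * u * q⁻¹ ≠ a := by
      have hzu := commute_z.2 huA.1
      have inj : ∀ {v w : G}, q * v * q⁻¹ = q * w * q⁻¹ → v = w := fun h => mul_left_cancel (mul_right_cancel h)
      rcases stab hq hqG with ⟨e1, e2⟩ | ⟨e1, e2⟩
      · exact ⟨e1 ▸ commute_cj.2 hzu, e2 ▸ commute_cj.2 hau, fun e => huA.2.2 (inj (e.trans e1.symm)),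
          fun e => hua (inj (e.trans e2.symm))⟩
      · exact ⟨e2 ▸ commute_cj.2 hau, e1 ▸ commute_cj.2 hzu, fun e => hua (inj (e.trans e2.symm)),
          fun e => huA.2.2 (inj (e.trans e1.symm))⟩
    refine ⟨⟨commute_z.1 hcomm.1, huA.2.1.conj q, hcomm.2.2.1⟩, hcomm.2.2.2, fun c hc hac => ?_⟩
    set c' := q⁻¹ * c * q with hc'
    have hcq : q * c' * q⁻¹ = c := by rw [hc']; group
    rw [← hcq, commute_cj]
    have h1 : Commute z c' ∧ Commute a c' := by
      rcases stab hq hqG with ⟨e1, e2⟩ | ⟨e1, e2⟩ <;> constructor <;> rw [← commute_cj (g := q), hcq]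
      · rw [e1]; exact commute_z.2 hc.1
      · rw [e2]; exact hac
      · rw [e1]; exact hac
      · rw [e2]; exact commute_z.2 hc.1
    by_cases hz' : c' = z
    · rw [hz']; exact (commute_z.2 huA.1).symm
    · refine hall c' ⟨commute_z.1 h1.1, ?_, hz'⟩ h1.2
      have := hc.2.1.conj q⁻¹
      rwa [inv_inv] at this
  -- the mate of a line point
  have mate : ∀ {y : G}, L3 y → ∃ m, (m = z ∨ m = a) ∧ Commute x (y * m) := by
    intro y hy
    have hyt : Commute y t := (commute_z.2 hy.1.1).symm.mul_right (hy.2.2 a haA (Commute.refl a))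
    have hcl : Subgroup.closure {x, y} ≤ Cz t := by
      rw [Subgroup.closure_le]
      rintro u (rfl | rfl)
      exacts [mem_Cz.2 hxt.eq, mem_Cz.2 hyt.eq]
    have hyC := T.adj_comp H hni hy.1
    rcases two_invol (T.conj_sq H ⟨g, rfl⟩ : x * x = 1) (sq hy) with ⟨h, hh, e⟩ |
        ⟨w, -, hw1, -, hxw, hyw, h, hh, e⟩
    · have hm : h * g * z * (h * g)⁻¹ = y := by rw [← e, hx]; group
      have hG : h * g ∈ G0 := T.mem_of_move H hni z_comp (hm.symm ▸ Subgroup.subset_closure hyC)
      rcases stab ((Cz t).mul_mem (hcl hh) hg) hG with ⟨e1, -⟩ | ⟨e1, -⟩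
      · exact absurd (hm.symm.trans e1) hy.1.2.2
      · exact absurd (hm.symm.trans e1) hy.2.1
    have hK : IsK z (y * w) := by
      rcases e with e | e <;> rw [← e]
      · exact IsK.conj (z := z) ⟨g, rfl⟩ h
      · exact hy.1.2.1.conj h
    have hyw' : y * w ∈ Comp z := T.comp_step H hni hyC hK ((Commute.refl y).mul_right hyw)
    have hwy : y * (y * w) = w := by rw [← mul_assoc, sq hy, one_mul]
    rcases e with e | e
    · have hm : h * g * z * (h * g)⁻¹ = y * w := by rw [← e, hx]; group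
      have hG : h * g ∈ G0 := T.mem_of_move H hni z_comp (hm.symm ▸ Subgroup.subset_closure hyw')
      rcases stab ((Cz t).mul_mem (hcl hh) hg) hG with ⟨e1, -⟩ | ⟨e1, -⟩
      · exact ⟨z, Or.inl rfl, by rw [← hm.symm.trans e1, hwy]; exact hxw⟩
      · exact ⟨a, Or.inr rfl, by rw [← hm.symm.trans e1, hwy]; exact hxw⟩
    · exfalso
      have hG : h ∈ G0 := T.mem_of_move H hni hyC (e.symm ▸ Subgroup.subset_closure hyw')
      have h3 : L3 (y * w) := e ▸ hstab3 (hcl hh) hG hy
      have h4 := third hy h3 fun q => hw1 (by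
        have := congrArg (y * ·) q
        simpa [← mul_assoc, sq hy] using this.symm)
      rw [hwy] at h4
      exact hxG _ (T.adj_comp H hni h4.1) (hxt.mul_right hxw)
  have swap : ∀ {u v : G}, L3 u → L3 v → u ≠ v → Commute x (u * z) → Commute x (v * a) → False := by
    intro u v hu hv hne h1 h2
    refine hxG _ (T.adj_comp H hni (third hu hv hne).1) ?_
    have e : t * (u * v) = (u * z) * (v * a) := by
      have czu := commute_z.2 hu.1.1
      have czv := commute_z.2 hv.1.1
      have cau : Commute u a := hu.2.2 a haA (Commute.refl a)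
      have cav : Commute v a := hv.2.2 a haA (Commute.refl a)
      calc t * (u * v) = z * (a * (u * v)) := by rw [ht]; group
        _ = z * (u * v * a) := by rw [((cau.mul_left cav)).symm.eq]
        _ = (z * u) * v * a := by group
        _ = u * (z * v) * a := by rw [czu.eq]; group
        _ = _ := by group
    rw [e]
    exact h1.mul_right h2
  obtain ⟨m1, hm1, h1⟩ := mate L1
  obtain ⟨m2, hm2, h2⟩ := mate L2
  obtain ⟨m3, hm3, h3⟩ := mate L3'
  have n12 : y1 ≠ y2 := fun e => absurd (T.den_inj H hy1.1 (e ▸ hy2.1)) (by decide)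
  have n13 : y1 ≠ y3 := fun e => absurd (T.den_inj H hy1.1 (e ▸ hy3.1)) (by decide)
  have n23 : y2 ≠ y3 := fun e => absurd (T.den_inj H hy2.1 (e ▸ hy3.1)) (by decide)
  have same : ∀ m, (m = z ∨ m = a) → Commute x (y1 * m) → Commute x (y2 * m) → Commute x (y3 * m) → False := by
    intro m hm k1 k2 k3
    have hc : ∀ {u : G}, L3 u → Commute m u := fun hu => by
      rcases hm with rfl | rfl
      exacts [commute_z.2 hu.1.1, (hu.2.2 _ haA (Commute.refl _)).symm]
    have hmm : m * m = 1 := by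
      rcases hm with rfl | rfl
      exacts [H.z2, T.conj_sq H haA.2.1]
    have e : y1 * m * (y2 * m) * (y3 * m) = t * m := by
      calc y1 * m * (y2 * m) * (y3 * m) = y1 * (m * y2) * (m * y3) * m := by group
        _ = y1 * (y2 * m) * (m * y3) * m := by rw [(hc L2).eq]
        _ = y1 * y2 * (m * m) * y3 * m := by group
        _ = t * m := by rw [hmm, mul_one, p123]
    have h := (k1.mul_right k2).mul_right k3
    rw [e] at h
    rcases hm with rfl | rfl
    · refine hxG a haC ?_
      rwa [show m * a * m = a by rw [hza.eq, mul_assoc, H.z2, mul_one]] at h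
    · refine hxG z z_comp ?_
      rwa [ht, mul_assoc, hmm, mul_one] at h
  rcases hm1 with rfl | rfl <;> rcases hm2 with rfl | rfl <;> rcases hm3 with rfl | rfl
  exacts [same _ (Or.inl rfl) h1 h2 h3, swap L1 L3' n13 h1 h3, swap L1 L2 n12 h1 h2, swap L1 L2 n12 h1 h2,
    swap L2 L1 n12.symm h2 h1, swap L2 L1 n12.symm h2 h1, swap L3' L1 n13.symm h3 h1,
    same _ (Or.inr rfl) h1 h2 h3]

/-- The centraliser of a pair product lies in the generated subgroup. -/
theorem cent_pair {u : G} (hu : Pair z u) : Cz u ≤ Subgroup.closure (Comp z) := by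
  obtain ⟨d, hd, e, he, hne, hde, rfl⟩ := hu
  obtain ⟨h, hh, rfl⟩ := T.gen_trans H hni hd
  obtain ⟨c, hc, hca⟩ := T.adj_norm H hni (T.adj_at H hni he.1 hde (fun q => hne q.symm))
  intro g hg
  set k := h * c⁻¹ with hk
  have hkG : k ∈ Subgroup.closure (Comp z) := mul_mem hh (inv_mem (T.cz_le H hni hc))
  have hu' : k⁻¹ * (h * z * h⁻¹ * e) * k = z * T.rp false false := by
    rw [← hca, hk]
    calc (h * c⁻¹)⁻¹ * (h * z * h⁻¹ * e) * (h * c⁻¹) = (c * z) * (h⁻¹ * e * h) * c⁻¹ := by group
      _ = (z * c) * (h⁻¹ * e * h) * c⁻¹ := by rw [mem_Cz.1 hc]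
      _ = _ := by group
  have := T.cent_pair_base H hni (show k⁻¹ * g * k ∈ Cz (z * T.rp false false) from mem_Cz.2 (by
    rw [← hu']
    calc k⁻¹ * g * k * (k⁻¹ * (h * z * h⁻¹ * e) * k) = k⁻¹ * (g * (h * z * h⁻¹ * e)) * k := by group
      _ = _ := by rw [mem_Cz.1 hg]; group))
  have h2 := mul_mem (mul_mem hkG this) (inv_mem hkG)
  rwa [show k * (k⁻¹ * g * k) * k⁻¹ = g by group] at h2

/-- An involution with two kinds of neighbours. -/
theorem cent_second {t y : G} (ht : Commute z t) (hy : Adj z y) (hyt : Commute y t)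
    (hP : (Pair z (t * z) ∧ ¬ Pair z (t * y)) ∨ (¬ Pair z (t * z) ∧ Pair z (t * y))) :
    Cz t ≤ Subgroup.closure (Comp z) := by
  intro g hg
  by_contra hgG
  set x := g * z * g⁻¹ with hx
  have hxG : x ∉ Subgroup.closure (Comp z) := fun h => hgG (T.mem_of_move H hni z_comp h)
  have hxt : Commute x t := by
    have : Commute (g * z * g⁻¹) (g * t * g⁻¹) := commute_cj.2 ht
    rwa [mem_Cz.1 hg, mul_inv_cancel_right] at this
  have hcl : Subgroup.closure {x, y} ≤ Cz t := by
    rw [Subgroup.closure_le]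
    rintro u (rfl | rfl)
    exacts [mem_Cz.2 hxt.eq, mem_Cz.2 hyt.eq]
  have hyC := T.adj_comp H hni hy
  rcases two_invol (T.conj_sq H ⟨g, rfl⟩ : x * x = 1) (T.conj_sq H hy.2.1) with ⟨h, hh, e⟩ |
      ⟨w, -, hw1, -, hxw, hyw, h, -, e⟩
  · have hm : h * g * z * (h * g)⁻¹ = y := by rw [← e, hx]; group
    have hG : h * g ∈ Subgroup.closure (Comp z) :=
      T.mem_of_move H hni z_comp (hm.symm ▸ Subgroup.subset_closure hyC)
    have hconj : h * g * (t * z) * (h * g)⁻¹ = t * y := by
      calc h * g * (t * z) * (h * g)⁻¹ = (h * g * t) * z * (h * g)⁻¹ := by group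
        _ = t * (h * g * z * (h * g)⁻¹) := by rw [mem_Cz.1 ((Cz t).mul_mem (hcl hh) hg)]; group
        _ = _ := by rw [hm]
    have hback : (h * g)⁻¹ * (t * y) * (h * g)⁻¹⁻¹ = t * z := by rw [← hconj]; group
    rcases hP with ⟨h1, h2⟩ | ⟨h1, h2⟩
    · exact h2 (hconj ▸ T.pair_conj H hni h1 hG)
    · exact h1 (hback ▸ T.pair_conj H hni h2 (inv_mem hG))
  · have hK : IsK z (y * w) := by
      rcases e with e | e <;> rw [← e]
      · exact IsK.conj (z := z) ⟨g, rfl⟩ h
      · exact hy.2.1.conj h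
    have hcom : Commute y (y * w) := (Commute.refl y).mul_right hyw
    have hw : Pair z w := ⟨y, hyC, y * w, T.comp_step H hni hyC hK hcom,
      fun q => hw1 (mul_eq_left.1 q.symm), hcom, by rw [← mul_assoc, T.conj_sq H hy.2.1, one_mul]⟩
    exact hxG (T.cent_pair H hni hw (mem_Cz.2 hxw.eq))

theorem cent_sim {t e : G} (h : Sim z t e) (he : Cz e ≤ Subgroup.closure (Comp z)) :
    Cz t ≤ Subgroup.closure (Comp z) := by
  obtain ⟨c, hc, rfl⟩ := h
  intro g hg
  have hcG := T.cz_le H hni hc
  have := he (show c * g * c⁻¹ ∈ Cz (c * t * c⁻¹) from mem_Cz.2 (by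
    calc c * g * c⁻¹ * (c * t * c⁻¹) = c * (g * t) * c⁻¹ := by group
      _ = _ := by rw [mem_Cz.1 hg]; group))
  have h2 := mul_mem (mul_mem (inv_mem hcG) this) hcG
  rwa [show c⁻¹ * (c * g * c⁻¹) * c = g by group] at h2

/-- Involutions commuting with `z`. -/
theorem cent_invol_z {t : G} (ht : t ∈ Cz z) (ht2 : t * t = 1) (ht1 : t ≠ 1) :
    Cz t ≤ Subgroup.closure (Comp z) := by
  set G0 := Subgroup.closure (Comp z)
  have hr := T.den_rp false false
  have hcomp : ∀ {d : G}, d ∈ Comp z → Cz d ≤ G0 := fun hd x hx =>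
    T.commute_mem H hni hd (mem_Cz.1 hx)
  -- pairs of the model
  have pairX : ∀ {p q : X} {u : G}, p ∈ AList false → q ∈ AList false → p ≠ q → xcom p q = true →
      T.Den (xmul p q) u → Pair z u := by
    intro p q u hp hq hne hcom hu
    obtain ⟨d, hd, hdA⟩ := T.alist_den H hni hp
    obtain ⟨e, he, heA⟩ := T.alist_den H hni hq
    exact ⟨d, T.adj_comp H hni hdA, e, T.adj_comp H hni heA, fun q' => hne (T.den_inj H hd (q' ▸ he)),
      (T.den_com H hd he).1 hcom, T.den_fun (T.den_mul hd he) hu⟩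
  have base_mem : xbase ∈ AList false := List.contains_iff_mem.1 (alist_base false).1
  have getmem : ∀ n, n < 180 → (AList false).getD n xz ∈ AList false := fun n hn => by
    rw [List.getD_eq_getElem _ _ (by rw [alist_len.1]; exact hn)]
    exact List.getElem_mem _
  have hj5 : Cz (T.C.j 5 true) ≤ G0 := by
    obtain ⟨e, hne, hcom, -⟩ := j_kinds
    refine T.cent_pair H hni (pairX base_mem (getmem 1 (by norm_num)) hne.symm hcom ?_)
    have hd := T.den_j 5 true
    rw [← e] at hd
    simpa [xprod, xmul_one] using hd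
  have hA : ∀ b, Cz (T.rp false b) ≤ G0 := by
    intro b
    cases b
    · exact hcomp (T.adj_comp H hni (T.adj_base H hni))
    · refine T.cent_pair H hni ⟨z, z_comp, T.rp false false, T.adj_comp H hni (T.adj_base H hni),
        (T.adj_base H hni).2.2.symm, commute_z.2 (T.adj_base H hni).1, T.z_rp false false⟩
  have hT : ∀ b, Cz (T.rp true b) ≤ G0 := by
    intro b
    obtain ⟨hno, hc1, heq, h3, hc3, hne3⟩ := second_kind
    have hm3 := List.contains_iff_mem.1 h3
    have hP0 : ∀ {u : G}, T.Den (xprod [xbase, xw 0 false [3]]) u → Pair z u := fun hu =>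
      pairX base_mem hm3 hne3 hc3 (by simpa [xprod, xmul_one] using hu)
    have h2 : T.Den (xprod [repX true true, xz]) (T.rp true true * z) := by
      simpa [xprod, xmul_one] using T.den_mul (T.den_rp true true) T.den_z
    cases b
    · refine T.cent_pair H hni (hP0 ?_)
      rw [← heq]
      have e : T.rp true true * z = T.rp true false := by
        rw [mem_Cz.1 (T.rp_mem H true true), T.z_rp]; rfl
      exact e ▸ h2
    · obtain ⟨y, hy, hyA⟩ := T.alist_den H hni (getmem 1 (by norm_num))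
      refine T.cent_second H hni (commute_z.2 (T.rp_mem H true true)) hyA
        ((T.den_com H (T.den_rp true true) hy).1 hc1).symm (Or.inl ⟨hP0 (heq ▸ h2), ?_⟩)
      exact T.not_pair H hni (by simpa [xprod, xmul_one] using T.den_mul (T.den_rp true true) hy) hno
  have hS : ∀ b, Cz (T.sg b) ≤ G0 := by
    intro b
    obtain ⟨hno, hc, hdec⟩ := sing_kind b
    simp only [Bool.and_eq_true, decide_eq_true_eq, bne_iff_ne] at hdec
    obtain ⟨⟨heq, hde⟩, hne⟩ := hdec
    have hd : T.Den (xw 80 b [1]) (T.sg b) := T.den_word 80 b (repW false)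
    refine T.cent_second H hni (commute_z.2 (T.el_mem H _ _ _)) (T.adj_base H hni)
      ((T.den_com H hd hr).1 hc).symm (Or.inr ⟨?_, ?_⟩)
    · exact T.not_pair H hni (by simpa [xprod, xmul_one] using T.den_mul hd T.den_z) hno
    · refine pairX (getmem _ (by cases b <;> norm_num)) (getmem _ (by cases b <;> norm_num)) hne hde ?_
      have := T.den_mul hd hr
      rw [show xmul (xw 80 b [1]) (repX false false) = xprod [xw 80 b [1], xbase] by
        simp [xprod, xmul_one, xbase], heq] at this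
      simpa [xprod, xmul_one] using this
  obtain ⟨v, b, g, rfl⟩ := T.el_surj H ht
  rw [T.el_mul, ← T.C.j_one, T.j_el] at ht2
  obtain ⟨hv0, hb0, hg2⟩ := T.el_inj H ht2
  have hfix : app (natL g) v = v := (xr_eq_zero.1 hv0).symm
  have hq : qq bA v = false := by
    rw [hfix, Bool.xor_self, Bool.false_xor] at hb0
    exact hb0
  by_cases hg1 : g = 1
  · subst hg1
    by_cases hv : v = 0
    · subst hv
      rw [← T.j_el] at ht1 ⊢
      cases b
      · exact absurd T.C.j_one ht1
      · exact (congrArg (fun u => Cz u) T.C.j_z).le.trans (T.cz_le H hni)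
    obtain ⟨p, -, hp⟩ := sing_points v hv hq
    refine T.cent_sim H hni (e := T.C.j 5 b) (Sim.symm ⟨T.s (evalW p.2), T.mem _, ?_⟩) ?_
    · rw [T.j_el, T.s_conj, natL_evalW, hp, mul_one, mul_inv_cancel]
    cases b
    · obtain ⟨u, hu⟩ := j_kinds.2.2.2
      refine T.cent_sim H hni (e := T.C.j 5 true) ⟨T.el 0 false (evalW []) * T.C.j u false, ?_, ?_⟩ hj5
      · exact (Cz z).mul_mem (T.el_mem H 0 false (evalW [])) (H.QC (T.C.mem u false))
      · exact T.den_fun (hu ▸ T.den_cjX [] u (T.den_j 5 false)) (T.den_j 5 true)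
    · exact hj5
  have ho : orderOf g = 2 := orderOf_eq_prime_iff.2 ⟨by rw [pow_two]; exact hg2, hg1⟩
  obtain ⟨k, h, hh⟩ := inv_class ho
  have base : Sim z (T.el v b g) (T.el (app (natL h⁻¹) v) b (evalW (repW k))) :=
    ⟨T.s h⁻¹, T.mem _, by rw [T.s_conj, hh]; congr 1; group⟩
  set v' := app (natL h⁻¹) v with hv'
  have hq' : qq bA v' = false := by rw [hv', qq_natL]; exact hq
  have hfix' : app (linW gL (repW k)) v' = v' := by
    rw [hv', ← natL_evalW, ← app_comp, ← natL_mul]
    conv_rhs => rw [← hfix, hh, ← app_comp, ← natL_mul]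
    congr 2
    group
  have move : ∀ u, ∃ d, Sim z (T.el v b g) (T.el (xr (xr u v') (app (linW gL (repW k)) u)) d (evalW (repW k))) := by
    intro u
    obtain ⟨d, hd⟩ := T.j_conj u v' b (evalW (repW k))
    rw [natL_evalW] at hd
    exact ⟨d, base.trans ⟨_, H.QC (T.C.mem _ _), hd⟩⟩
  cases k
  · have e1 : ∀ u, app (linW gL (repW false)) u = app (gL 1) u := sing_facts.2.2.2.2.2
    rw [e1] at hfix'
    rcases norm_trans v' hfix' hq' with ⟨u, hu⟩ | hv
    · obtain ⟨d, hd⟩ := move u
      rw [e1, hu] at hd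
      exact T.cent_sim H hni hd (hA d)
    · obtain ⟨w, hw, u, hu⟩ := sing_base v' hv
      obtain ⟨d, hd⟩ := move u
      rw [e1, ← hu] at hd
      refine T.cent_sim H hni (hd.trans (Sim.symm ⟨T.s (evalW w), T.mem _, ?_⟩)) (hS d)
      rw [Sp.sg, T.s_conj, natL_evalW, ← invW_eval, ← evalW_append, ← evalW_append]
      congr 1
      refine evalW_eq ?_
      show linW gL (w ++ [1] ++ invW w) = linW gL [1]
      rw [singW_cent w hw]
      exact (comp_id _).symm
  · obtain ⟨u, hu⟩ := norm_pair v' hfix'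
    obtain ⟨d, hd⟩ := move u
    rw [show repW true = [1, 3] from rfl, hu] at hd
    exact T.cent_sim H hni hd (hT d)

theorem cent_invol {t : G} (ht : t ∈ Subgroup.closure (Comp z)) (ht2 : t * t = 1) (ht1 : t ≠ 1) :
    Cz t ≤ Subgroup.closure (Comp z) := by
  obtain ⟨y, hy, hty⟩ := T.exists_fixed H hni ht ht2
  obtain ⟨h, hh, rfl⟩ := T.gen_trans H hni hy
  have hm : h⁻¹ * t * h ∈ Cz z := commute_z.1 (by
    have := (commute_cj (g := h⁻¹)).2 hty.symm
    rwa [show h⁻¹ * (h * z * h⁻¹) * h⁻¹⁻¹ = z by group, inv_inv] at this)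
  have h2 := T.cent_invol_z H hni hm
    (by rw [show h⁻¹ * t * h * (h⁻¹ * t * h) = h⁻¹ * (t * t) * h by group, ht2]; group)
    (fun e => ht1 (by
      calc t = h * (h⁻¹ * t * h) * h⁻¹ := by group
        _ = 1 := by rw [e]; group))
  intro g hg
  have h3 := h2 (show h⁻¹ * g * h ∈ Cz (h⁻¹ * t * h) from mem_Cz.2 (by
    calc h⁻¹ * g * h * (h⁻¹ * t * h) = h⁻¹ * (g * t) * h := by group
      _ = _ := by rw [mem_Cz.1 hg]; group))
  have h4 := mul_mem (mul_mem hh h3) (inv_mem hh)
  rwa [show h * (h⁻¹ * g * h) * h⁻¹ = g by group] at h4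

/-- The component generates. -/
theorem gen_comp_top : Subgroup.closure (Comp z) = ⊤ := by
  rw [eq_top_iff]
  intro g _
  by_contra hgG
  set x := g * z * g⁻¹ with hx
  have hxG : x ∉ Subgroup.closure (Comp z) := fun h => hgG (T.mem_of_move H hni z_comp h)
  set y := T.rp false true with hy
  have hA := T.adj_base H hni
  have hPy : Pair z y :=
    ⟨z, z_comp, T.rp false false, T.adj_comp H hni hA, hA.2.2.symm, commute_z.2 hA.1, T.z_rp false false⟩
  have hy2 : y * y = 1 := by
    rw [← (show z * T.rp false false = y from T.z_rp false false),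
      show z * T.rp false false * (z * T.rp false false) = z * (T.rp false false * z) * T.rp false false by group,
      mem_Cz.1 hA.1, ← mul_assoc z z, H.z2, one_mul, T.conj_sq H hA.2.1]
  rcases two_invol (T.conj_sq H ⟨g, rfl⟩ : x * x = 1) hy2 with ⟨h, -, e⟩ | ⟨w, -, hw1, hw2, hxw, hyw, -⟩
  · have hk : IsK z (h * x * h⁻¹) := IsK.conj (z := z) ⟨g, rfl⟩ h
    rw [e] at hk
    exact T.not_true H hk
  · exact hxG (T.cent_invol H hni (T.cent_pair H hni hPy (mem_Cz.2 hyw.eq.symm)) hw2 hw1 (mem_Cz.2 hxw.eq))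

/-- The component is the whole class. -/
theorem comp_eq {x : G} (hx : IsK z x) : x ∈ Comp z :=
  T.comp_of_mem H hni hx (by rw [T.gen_comp_top H hni]; exact Subgroup.mem_top x)

end Sp

end CfsgLib.USixType
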