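import Cfsg.Agent.Lib.USixType.RepB

/-!
Singular vectors for the three models: orbits, Sylow `2`-subgroups of stabilisers, invariant subspaces.
-/

set_option autoImplicit false
set_option maxRecDepth 100000

namespace CfsgLib.USixType

/-- The data of an orbit. -/
structure Dat where
  v : V8
  orb : List (V8 × List (Fin 5))
  pg : List (List (Fin 5))
  sg : List (List (Fin 5))
  ws : List (List V8)

/-- The image of a vector under a word. -/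
def appW (S : Fin 5 → Lin) : List (Fin 5) → V8 → V8
  | [], v => v
  | k :: w, v => app (S k) (appW S w v)

/-- The matrices of a polycyclic group. -/
def plist (S : Fin 5 → Lin) : List (List (Fin 5)) → List Lin
  | [] => [idL]
  | w :: rest => plist S rest ++ (plist S rest).map (comp (linW S w))

/-- An admissible further vector of a totally singular subspace. -/
def okAdd (β : V8 → V8 → Bool) (T : List V8) (y : V8) : Bool := !qq β y && T.all fun t => !bb β t y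

/-- The invariant closure of a subspace, if totally singular. -/
def closeW (β : V8 → V8 → Bool) (Ls : List Lin) : ℕ → List V8 → Option (List V8)
  | 0, T => some T
  | n + 1, T =>
    match (T.flatMap fun t => Ls.map fun L => app L t).find? fun y => !T.contains y with
    | none => some T
    | some y => if okAdd β T y then closeW β Ls n (T ++ T.map (xr y)) else none

/-- Equality as sets of duplicate-free lists. -/
def sameSet (T W : List V8) : Bool := T.all W.contains && W.all T.contains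

/-- The closure lies in a list. -/
def closeIn (β : V8 → V8 → Bool) (Ls : List Lin) (ws : List (List V8)) (T : List V8) : Bool :=
  match closeW β Ls 3 T with
  | none => true
  | some T' => ws.any (sameSet T')

/-- Vectors orthogonal to a given one. -/
def testPts (β : V8 → V8 → Bool) (v : V8) : List V8 :=
  (((List.finRange 8).map un) ++
    (List.finRange 8).flatMap fun i => (List.finRange 8).map fun j => xr (un i) (un j)).filter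
    fun x => !bb β x v

/-- The necessary conditions on an element of the image of the second centraliser. -/
def inU (β : V8 → V8 → Bool) (v : V8) (W : List V8) (L : Lin) : Bool :=
  decide (comp L L = idL) && W.all (fun w => app L w == w || app L w == xr w v) &&
    (testPts β v).all (fun x => W.contains (xr (app L x) x))

/-- The orbit and the group. -/
def okOrb (S : Fin 5 → Lin) (d : Dat) : Bool :=
  d.v != 0 &&
  decide (d.orb.map Prod.fst).Nodup &&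
  d.orb.all (fun p => appW S p.2 d.v == p.1) &&
  (d.orb.map Prod.fst).contains d.v &&
  d.orb.all (fun p => (List.finRange 5).all fun k => (d.orb.map Prod.fst).contains (app (S k) p.1)) &&
  decide (0 < d.orb.length) &&
  decide (25920 / d.orb.length % 2 ^ (d.pg.length + 1) ≠ 0) &&
  decide (25920 % d.orb.length = 0)

/-- The group is a group of the given order fixing the vector. -/
def okGrp (S : Fin 5 → Lin) (d : Dat) : Bool :=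
  decide (plist S d.pg).Nodup && (d.pg.all fun w => appW S w d.v == d.v) &&
  d.pg.all (fun w => (plist S d.pg).all fun L => (plist S d.pg).contains (comp (linW S w) L))

/-- The list of invariant subspaces is complete. -/
def okW (β : V8 → V8 → Bool) (S : Fin 5 → Lin) (d : Dat) : Bool :=
  (d.sg.all fun w => appW S w d.v == d.v) &&
  closeIn β (d.sg.map (linW S)) d.ws [0, d.v] &&
  d.ws.all (fun W => decide W.Nodup && (List.finRange 256).all fun x =>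
    W.contains x || !okAdd β W x || closeIn β (d.sg.map (linW S)) d.ws (W ++ W.map (xr x)))

/-- The group is too small for every invariant subspace. -/
def okU (β : V8 → V8 → Bool) (S : Fin 5 → Lin) (d : Dat) : Bool :=
  d.ws.all fun W =>
    let U := (plist S d.pg).filter (inU β d.v W)
    decide (U.length * W.length < 128) ||
      W.any fun w => w != 0 && w != d.v && U.all fun L => app L w == w

/-- All singular vectors occur. -/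
def okCover (β : V8 → V8 → Bool) (ds : List Dat) : Bool :=
  (List.finRange 256).all fun x => x == 0 || qq β x || ds.any fun d => (d.orb.map Prod.fst).contains x

/-- The orbits of singular vectors in the natural representation. -/
def datA : List Dat := [
  { v := 5
    orb := [
      (5, []), (14, [0]), (17, [2]), (11, [0, 0]), (50, [2, 0]), (91, [4, 0]), (18, [0, 2]),
      (20, [1, 2]), (65, [3, 2]), (35, [2, 0, 0]), (94, [4, 0, 0]), (51, [0, 2, 0]),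
      (56, [1, 2, 0]), (194, [3, 2, 0]), (103, [4, 2, 0]), (85, [0, 4, 0]), (19, [0, 0, 2]),
      (24, [1, 0, 2]), (6, [2, 0, 2]), (66, [3, 0, 2]), (237, [4, 0, 2]), (28, [0, 1, 2]),
      (68, [3, 1, 2]), (33, [0, 2, 0, 0]), (44, [1, 2, 0, 0]), (131, [3, 2, 0, 0]),
      (118, [4, 2, 0, 0]), (49, [0, 0, 2, 0]), (60, [1, 0, 2, 0]), (15, [2, 0, 2, 0]),
      (195, [3, 0, 2, 0]), (52, [0, 1, 2, 0]), (200, [3, 1, 2, 0]), (109, [4, 1, 2, 0]),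
      (151, [4, 3, 2, 0]), (7, [2, 0, 0, 2]), (67, [3, 0, 0, 2]), (185, [4, 0, 0, 2]),
      (36, [2, 1, 0, 2]), (72, [3, 1, 0, 2]), (231, [4, 1, 0, 2]), (9, [1, 2, 0, 2]),
      (249, [4, 2, 0, 2]), (189, [4, 3, 0, 2]), (234, [0, 4, 0, 2]), (76, [3, 0, 1, 2]),
      (182, [4, 0, 1, 2]), (80, [2, 3, 1, 2]), (34, [0, 0, 2, 0, 0]), (129, [3, 0, 2, 0, 0]),
      (222, [4, 0, 2, 0, 0]), (40, [0, 1, 2, 0, 0]), (140, [3, 1, 2, 0, 0]),
      (121, [4, 1, 2, 0, 0]), (214, [4, 3, 2, 0, 0]), (127, [0, 4, 2, 0, 0]),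
      (13, [2, 0, 0, 2, 0]), (193, [3, 0, 0, 2, 0]), (155, [4, 0, 0, 2, 0]),
      (204, [3, 1, 0, 2, 0]), (196, [3, 0, 1, 2, 0]), (158, [4, 0, 1, 2, 0]),
      (224, [2, 3, 1, 2, 0]), (157, [4, 3, 1, 2, 0]), (106, [0, 4, 1, 2, 0]),
      (173, [4, 2, 0, 0, 2]), (233, [4, 3, 0, 0, 2]), (132, [3, 2, 1, 0, 2]),
      (219, [4, 2, 1, 0, 2]), (96, [2, 3, 1, 0, 2]), (183, [4, 3, 1, 0, 2]),
      (246, [4, 1, 2, 0, 2]), (186, [0, 4, 3, 0, 2]), (191, [4, 0, 4, 0, 2]),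
      (112, [2, 3, 0, 1, 2]), (230, [4, 3, 0, 1, 2]), (10, [2, 0, 0, 2, 0, 0]),
      (130, [3, 0, 0, 2, 0, 0]), (126, [4, 3, 0, 2, 0, 0]), (136, [3, 0, 1, 2, 0, 0]),
      (176, [2, 3, 1, 2, 0, 0]), (217, [4, 3, 1, 2, 0, 0]), (223, [0, 4, 3, 2, 0, 0]),
      (213, [4, 0, 4, 2, 0, 0]), (167, [4, 2, 0, 0, 2, 0]), (107, [4, 3, 0, 0, 2, 0]),
      (149, [0, 4, 0, 0, 2, 0]), (240, [2, 3, 1, 0, 2, 0]), (208, [2, 3, 0, 1, 2, 0]),
      (110, [4, 3, 0, 1, 2, 0]), (181, [4, 2, 3, 1, 2, 0]), (154, [0, 4, 3, 1, 2, 0]),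
      (170, [0, 4, 2, 0, 0, 2]), (144, [2, 3, 2, 1, 0, 2]), (123, [4, 3, 2, 1, 0, 2]),
      (159, [4, 2, 3, 1, 0, 2]), (255, [0, 4, 1, 2, 0, 2]), (174, [2, 0, 4, 3, 0, 2]),
      (239, [4, 0, 4, 3, 0, 2]), (218, [4, 2, 3, 0, 1, 2]), (160, [2, 3, 0, 1, 2, 0, 0]),
      (229, [4, 2, 3, 1, 2, 0, 0]), (247, [2, 0, 4, 3, 2, 0, 0]), (117, [4, 0, 4, 3, 2, 0, 0]),
      (101, [0, 4, 3, 0, 0, 2, 0]), (122, [4, 2, 3, 0, 1, 2, 0]), (190, [0, 4, 2, 3, 1, 2, 0]),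
      (166, [2, 0, 4, 3, 1, 2, 0]), (111, [4, 2, 3, 2, 1, 0, 2]), (153, [0, 4, 2, 3, 1, 0, 2]),
      (171, [0, 2, 0, 4, 3, 0, 2]), (251, [4, 2, 0, 4, 3, 0, 2]), (215, [0, 4, 2, 3, 0, 1, 2]),
      (238, [0, 4, 2, 3, 1, 2, 0, 0]), (253, [0, 2, 0, 4, 3, 2, 0, 0]),
      (93, [4, 2, 0, 4, 3, 2, 0, 0]), (89, [2, 0, 4, 3, 0, 0, 2, 0]),
      (119, [0, 4, 2, 3, 0, 1, 2, 0]), (187, [0, 0, 4, 2, 3, 1, 2, 0]),
      (175, [0, 2, 0, 4, 3, 1, 2, 0]), (169, [1, 2, 0, 4, 3, 1, 2, 0]),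
      (105, [0, 4, 2, 3, 2, 1, 0, 2]), (150, [0, 0, 4, 2, 3, 1, 0, 2]),
      (165, [2, 0, 4, 2, 3, 1, 0, 2]), (254, [4, 0, 2, 0, 4, 3, 0, 2]),
      (245, [0, 4, 2, 0, 4, 3, 0, 2]), (221, [0, 0, 4, 2, 3, 0, 1, 2]),
      (235, [0, 0, 4, 2, 3, 1, 2, 0, 0]), (250, [2, 0, 4, 2, 3, 1, 2, 0, 0]),
      (87, [4, 0, 2, 0, 4, 3, 2, 0, 0]), (90, [0, 4, 2, 0, 4, 3, 2, 0, 0]),
      (86, [0, 2, 0, 4, 3, 0, 0, 2, 0]), (125, [0, 0, 4, 2, 3, 0, 1, 2, 0]),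
      (95, [2, 0, 4, 2, 3, 0, 1, 2, 0]), (102, [0, 0, 4, 2, 3, 2, 1, 0, 2])]
    pg := [
      [0, 2, 0, 4, 2, 3, 2, 0, 0, 2, 0, 0], [2, 0, 4, 2, 3, 0, 0, 2, 0, 4, 3, 2, 0, 0, 2],
      [0, 4, 0, 2, 3, 1, 2, 0, 4, 0], [4], [3], [1]]
    sg := [
      [3, 0, 2, 0, 4, 0, 2, 3, 1, 2, 0, 4, 2, 3], [1, 0, 4, 0, 2, 3, 1, 2, 0, 4, 0]]
    ws := [
      [0, 5], [0, 5, 10, 15],
      [0, 5, 10, 15, 80, 85, 90, 95, 176, 181, 186, 191, 224, 229, 234, 239],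
      [0, 5, 10, 15, 96, 101, 106, 111, 144, 149, 154, 159, 240, 245, 250, 255],
      [0, 5, 10, 15, 112, 117, 122, 127, 160, 165, 170, 175, 208, 213, 218, 223]] }]

/-- The orbits of singular vectors in the wedge representation and an elliptic plane. -/
def datQ : List Dat := [
  { v := 5
    orb := [
      (5, []), (9, [0]), (17, [1]), (13, [0, 0]), (49, [1, 0]), (6, [2, 0]), (33, [3, 0]),
      (24, [4, 0]), (20, [2, 1]), (7, [2, 0, 0]), (28, [4, 0, 0]), (52, [2, 1, 0]),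
      (10, [0, 2, 0]), (18, [1, 2, 0]), (36, [2, 3, 0]), (44, [0, 4, 0]), (40, [0, 2, 1]),
      (11, [0, 2, 0, 0]), (19, [1, 2, 0, 0]), (14, [0, 0, 2, 0]), (50, [1, 0, 2, 0]),
      (34, [3, 0, 2, 0]), (15, [4, 0, 2, 0]), (56, [0, 2, 3, 0]), (35, [2, 0, 4, 0]),
      (60, [0, 0, 2, 1]), (51, [1, 0, 2, 0, 0])]
    pg := [
      [0, 4, 2, 3, 1, 2, 0, 4, 2, 3, 0, 2, 0, 0], [0, 4, 2, 3, 0, 2, 0, 0, 4, 3, 2, 0, 0], [3, 1],
      [1, 2, 3, 2, 1], [4], [2]]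
    sg := [
      [4, 3, 0, 2, 0, 4, 2, 0, 2, 3, 0, 2, 1], [1, 2, 3, 0, 2, 0, 0, 4, 2, 0, 0]]
    ws := [
      [0, 5]] },
  { v := 65
    orb := [
      (65, []), (68, [2]), (72, [0, 2]), (80, [1, 2]), (76, [0, 0, 2]), (112, [1, 0, 2]),
      (66, [2, 0, 2]), (96, [3, 0, 2]), (89, [4, 0, 2]), (67, [2, 0, 0, 2]), (93, [4, 0, 0, 2]),
      (117, [4, 1, 0, 2]), (86, [4, 2, 0, 2]), (101, [4, 3, 0, 2]), (109, [0, 4, 0, 2]),
      (87, [4, 2, 0, 0, 2]), (106, [0, 4, 2, 0, 2]), (121, [0, 4, 3, 0, 2]),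
      (103, [2, 0, 4, 0, 2]), (107, [0, 4, 2, 0, 0, 2]), (126, [0, 0, 4, 2, 0, 2]),
      (118, [2, 0, 4, 3, 0, 2]), (123, [0, 2, 0, 4, 0, 2]), (95, [1, 2, 0, 4, 0, 2]),
      (91, [3, 2, 0, 4, 0, 2]), (127, [0, 0, 4, 2, 0, 0, 2]), (110, [2, 0, 4, 2, 0, 0, 2]),
      (90, [0, 2, 0, 4, 3, 0, 2]), (94, [3, 2, 0, 4, 3, 0, 2]), (111, [3, 0, 2, 0, 4, 0, 2]),
      (119, [3, 1, 2, 0, 4, 0, 2]), (122, [3, 2, 0, 4, 2, 0, 0, 2]),
      (102, [3, 0, 2, 0, 4, 3, 0, 2]), (125, [2, 3, 1, 2, 0, 4, 0, 2]),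
      (105, [2, 3, 0, 2, 0, 4, 3, 0, 2]), (85, [0, 2, 3, 1, 2, 0, 4, 0, 2])]
    pg := [
      [0, 4, 0], [4], [3], [1]]
    sg := [
      [0, 4, 2, 0, 2, 3, 1, 2, 0, 0, 4, 2, 0, 0], [2, 0, 2, 3, 2, 0, 0, 2, 1, 0],
      [2, 3, 0, 2, 0, 0, 4, 2, 3, 2, 0], [4, 0, 4, 2, 3, 0, 2, 0, 0, 4, 2, 3, 2, 1, 0]]
    ws := [
      [0, 65]] },
  { v := 129
    orb := [
      (129, []), (132, [2]), (136, [0, 2]), (144, [1, 2]), (140, [0, 0, 2]), (176, [1, 0, 2]),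
      (130, [2, 0, 2]), (160, [3, 0, 2]), (153, [4, 0, 2]), (131, [2, 0, 0, 2]),
      (157, [4, 0, 0, 2]), (181, [4, 1, 0, 2]), (150, [4, 2, 0, 2]), (165, [4, 3, 0, 2]),
      (173, [0, 4, 0, 2]), (151, [4, 2, 0, 0, 2]), (170, [0, 4, 2, 0, 2]), (185, [0, 4, 3, 0, 2]),
      (167, [2, 0, 4, 0, 2]), (171, [0, 4, 2, 0, 0, 2]), (190, [0, 0, 4, 2, 0, 2]),
      (182, [2, 0, 4, 3, 0, 2]), (187, [0, 2, 0, 4, 0, 2]), (159, [1, 2, 0, 4, 0, 2]),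
      (155, [3, 2, 0, 4, 0, 2]), (191, [0, 0, 4, 2, 0, 0, 2]), (174, [2, 0, 4, 2, 0, 0, 2]),
      (154, [0, 2, 0, 4, 3, 0, 2]), (158, [3, 2, 0, 4, 3, 0, 2]), (175, [3, 0, 2, 0, 4, 0, 2]),
      (183, [3, 1, 2, 0, 4, 0, 2]), (186, [3, 2, 0, 4, 2, 0, 0, 2]),
      (166, [3, 0, 2, 0, 4, 3, 0, 2]), (189, [2, 3, 1, 2, 0, 4, 0, 2]),
      (169, [2, 3, 0, 2, 0, 4, 3, 0, 2]), (149, [0, 2, 3, 1, 2, 0, 4, 0, 2])]
    pg := [
      [0, 4, 0], [4], [3], [1]]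
    sg := [
      [0, 4, 2, 0, 2, 3, 1, 2, 0, 0, 4, 2, 0, 0], [2, 0, 2, 3, 2, 0, 0, 2, 1, 0],
      [2, 3, 0, 2, 0, 0, 4, 2, 3, 2, 0], [4, 0, 4, 2, 3, 0, 2, 0, 0, 4, 2, 3, 2, 1, 0]]
    ws := [
      [0, 129]] },
  { v := 193
    orb := [
      (193, []), (196, [2]), (200, [0, 2]), (208, [1, 2]), (204, [0, 0, 2]), (240, [1, 0, 2]),
      (194, [2, 0, 2]), (224, [3, 0, 2]), (217, [4, 0, 2]), (195, [2, 0, 0, 2]),
      (221, [4, 0, 0, 2]), (245, [4, 1, 0, 2]), (214, [4, 2, 0, 2]), (229, [4, 3, 0, 2]),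
      (237, [0, 4, 0, 2]), (215, [4, 2, 0, 0, 2]), (234, [0, 4, 2, 0, 2]), (249, [0, 4, 3, 0, 2]),
      (231, [2, 0, 4, 0, 2]), (235, [0, 4, 2, 0, 0, 2]), (254, [0, 0, 4, 2, 0, 2]),
      (246, [2, 0, 4, 3, 0, 2]), (251, [0, 2, 0, 4, 0, 2]), (223, [1, 2, 0, 4, 0, 2]),
      (219, [3, 2, 0, 4, 0, 2]), (255, [0, 0, 4, 2, 0, 0, 2]), (238, [2, 0, 4, 2, 0, 0, 2]),
      (218, [0, 2, 0, 4, 3, 0, 2]), (222, [3, 2, 0, 4, 3, 0, 2]), (239, [3, 0, 2, 0, 4, 0, 2]),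
      (247, [3, 1, 2, 0, 4, 0, 2]), (250, [3, 2, 0, 4, 2, 0, 0, 2]),
      (230, [3, 0, 2, 0, 4, 3, 0, 2]), (253, [2, 3, 1, 2, 0, 4, 0, 2]),
      (233, [2, 3, 0, 2, 0, 4, 3, 0, 2]), (213, [0, 2, 3, 1, 2, 0, 4, 0, 2])]
    pg := [
      [0, 4, 0], [4], [3], [1]]
    sg := [
      [0, 4, 2, 0, 2, 3, 1, 2, 0, 0, 4, 2, 0, 0], [2, 0, 2, 3, 2, 0, 0, 2, 1, 0],
      [2, 3, 0, 2, 0, 0, 4, 2, 3, 2, 0], [4, 0, 4, 2, 3, 0, 2, 0, 0, 4, 2, 3, 2, 1, 0]]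
    ws := [
      [0, 193]] }]

/-- The orbits of singular vectors in the wedge representation and a hyperbolic plane. -/
def datD : List Dat := [
  { v := 5
    orb := [
      (5, []), (9, [0]), (17, [1]), (13, [0, 0]), (49, [1, 0]), (6, [2, 0]), (33, [3, 0]),
      (24, [4, 0]), (20, [2, 1]), (7, [2, 0, 0]), (28, [4, 0, 0]), (52, [2, 1, 0]),
      (10, [0, 2, 0]), (18, [1, 2, 0]), (36, [2, 3, 0]), (44, [0, 4, 0]), (40, [0, 2, 1]),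
      (11, [0, 2, 0, 0]), (19, [1, 2, 0, 0]), (14, [0, 0, 2, 0]), (50, [1, 0, 2, 0]),
      (34, [3, 0, 2, 0]), (15, [4, 0, 2, 0]), (56, [0, 2, 3, 0]), (35, [2, 0, 4, 0]),
      (60, [0, 0, 2, 1]), (51, [1, 0, 2, 0, 0])]
    pg := [
      [0, 4, 2, 3, 1, 2, 0, 4, 2, 3, 0, 2, 0, 0], [0, 4, 2, 3, 0, 2, 0, 0, 4, 3, 2, 0, 0], [3, 1],
      [1, 2, 3, 2, 1], [4], [2]]
    sg := [
      [4, 3, 0, 2, 0, 4, 2, 0, 2, 3, 0, 2, 1], [1, 2, 3, 0, 2, 0, 0, 4, 2, 0, 0]]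
    ws := [
      [0, 5], [0, 5, 64, 69], [0, 5, 128, 133]] },
  { v := 64
    orb := [
      (64, [])]
    pg := [
      [2, 1, 0, 4, 3, 0, 2, 0, 4, 3, 0, 2, 0, 0], [2, 1, 0, 4, 2, 3, 0, 2, 0, 4, 3, 0, 2, 0],
      [0, 4, 0], [4], [3], [1]]
    sg := [
      [2, 0, 4, 2, 3, 0, 0, 2, 0, 4, 3, 2, 1, 0], [0, 0, 2, 0, 0, 4, 3, 2, 0, 2, 1]]
    ws := [
      [0, 64]] },
  { v := 69
    orb := [
      (69, []), (73, [0]), (81, [1]), (77, [0, 0]), (113, [1, 0]), (70, [2, 0]), (97, [3, 0]),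
      (88, [4, 0]), (84, [2, 1]), (71, [2, 0, 0]), (92, [4, 0, 0]), (116, [2, 1, 0]),
      (74, [0, 2, 0]), (82, [1, 2, 0]), (100, [2, 3, 0]), (108, [0, 4, 0]), (104, [0, 2, 1]),
      (75, [0, 2, 0, 0]), (83, [1, 2, 0, 0]), (78, [0, 0, 2, 0]), (114, [1, 0, 2, 0]),
      (98, [3, 0, 2, 0]), (79, [4, 0, 2, 0]), (120, [0, 2, 3, 0]), (99, [2, 0, 4, 0]),
      (124, [0, 0, 2, 1]), (115, [1, 0, 2, 0, 0])]
    pg := [
      [0, 4, 2, 3, 1, 2, 0, 4, 2, 3, 0, 2, 0, 0], [0, 4, 2, 3, 0, 2, 0, 0, 4, 3, 2, 0, 0], [3, 1],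
      [1, 2, 3, 2, 1], [4], [2]]
    sg := [
      [4, 3, 0, 2, 0, 4, 2, 0, 2, 3, 0, 2, 1], [1, 2, 3, 0, 2, 0, 0, 4, 2, 0, 0]]
    ws := [
      [0, 69], [0, 5, 64, 69]] },
  { v := 128
    orb := [
      (128, [])]
    pg := [
      [2, 1, 0, 4, 3, 0, 2, 0, 4, 3, 0, 2, 0, 0], [2, 1, 0, 4, 2, 3, 0, 2, 0, 4, 3, 0, 2, 0],
      [0, 4, 0], [4], [3], [1]]
    sg := [
      [2, 0, 4, 2, 3, 0, 0, 2, 0, 4, 3, 2, 1, 0], [0, 0, 2, 0, 0, 4, 3, 2, 0, 2, 1]]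
    ws := [
      [0, 128]] },
  { v := 133
    orb := [
      (133, []), (137, [0]), (145, [1]), (141, [0, 0]), (177, [1, 0]), (134, [2, 0]),
      (161, [3, 0]), (152, [4, 0]), (148, [2, 1]), (135, [2, 0, 0]), (156, [4, 0, 0]),
      (180, [2, 1, 0]), (138, [0, 2, 0]), (146, [1, 2, 0]), (164, [2, 3, 0]), (172, [0, 4, 0]),
      (168, [0, 2, 1]), (139, [0, 2, 0, 0]), (147, [1, 2, 0, 0]), (142, [0, 0, 2, 0]),
      (178, [1, 0, 2, 0]), (162, [3, 0, 2, 0]), (143, [4, 0, 2, 0]), (184, [0, 2, 3, 0]),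
      (163, [2, 0, 4, 0]), (188, [0, 0, 2, 1]), (179, [1, 0, 2, 0, 0])]
    pg := [
      [0, 4, 2, 3, 1, 2, 0, 4, 2, 3, 0, 2, 0, 0], [0, 4, 2, 3, 0, 2, 0, 0, 4, 3, 2, 0, 0], [3, 1],
      [1, 2, 3, 2, 1], [4], [2]]
    sg := [
      [4, 3, 0, 2, 0, 4, 2, 0, 2, 3, 0, 2, 1], [1, 2, 3, 0, 2, 0, 0, 4, 2, 0, 0]]
    ws := [
      [0, 133], [0, 5, 128, 133]] },
  { v := 193
    orb := [
      (193, []), (196, [2]), (200, [0, 2]), (208, [1, 2]), (204, [0, 0, 2]), (240, [1, 0, 2]),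
      (194, [2, 0, 2]), (224, [3, 0, 2]), (217, [4, 0, 2]), (195, [2, 0, 0, 2]),
      (221, [4, 0, 0, 2]), (245, [4, 1, 0, 2]), (214, [4, 2, 0, 2]), (229, [4, 3, 0, 2]),
      (237, [0, 4, 0, 2]), (215, [4, 2, 0, 0, 2]), (234, [0, 4, 2, 0, 2]), (249, [0, 4, 3, 0, 2]),
      (231, [2, 0, 4, 0, 2]), (235, [0, 4, 2, 0, 0, 2]), (254, [0, 0, 4, 2, 0, 2]),
      (246, [2, 0, 4, 3, 0, 2]), (251, [0, 2, 0, 4, 0, 2]), (223, [1, 2, 0, 4, 0, 2]),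
      (219, [3, 2, 0, 4, 0, 2]), (255, [0, 0, 4, 2, 0, 0, 2]), (238, [2, 0, 4, 2, 0, 0, 2]),
      (218, [0, 2, 0, 4, 3, 0, 2]), (222, [3, 2, 0, 4, 3, 0, 2]), (239, [3, 0, 2, 0, 4, 0, 2]),
      (247, [3, 1, 2, 0, 4, 0, 2]), (250, [3, 2, 0, 4, 2, 0, 0, 2]),
      (230, [3, 0, 2, 0, 4, 3, 0, 2]), (253, [2, 3, 1, 2, 0, 4, 0, 2]),
      (233, [2, 3, 0, 2, 0, 4, 3, 0, 2]), (213, [0, 2, 3, 1, 2, 0, 4, 0, 2])]
    pg := [
      [0, 4, 0], [4], [3], [1]]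
    sg := [
      [0, 4, 2, 0, 2, 3, 1, 2, 0, 0, 4, 2, 0, 0], [2, 0, 2, 3, 2, 0, 0, 2, 1, 0],
      [2, 3, 0, 2, 0, 0, 4, 2, 3, 2, 0], [4, 0, 4, 2, 3, 0, 2, 0, 0, 4, 2, 3, 2, 1, 0]]
    ws := [
      [0, 193]] }]

theorem weak_orb : datA.all (okOrb gL) = true ∧ datQ.all (okOrb wL) = true ∧ datD.all (okOrb wL) = true := by
  decide +kernel

theorem weak_grp : datA.all (okGrp gL) = true ∧ datQ.all (okGrp wL) = true ∧ datD.all (okGrp wL) = true := by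
  decide +kernel

theorem weak_W : datA.all (okW bA gL) = true ∧ datQ.all (okW bA wL) = true ∧ datD.all (okW bD wL) = true := by
  decide +kernel

theorem weak_U : datA.all (okU bA gL) = true ∧ datQ.all (okU bA wL) = true ∧ datD.all (okU bD wL) = true := by
  decide +kernel

theorem weak_cover : okCover bA datA = true ∧ okCover bA datQ = true ∧ okCover bD datD = true := by
  decide +kernel

end CfsgLib.USixType
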