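import Cfsg.Agent.Lib.USixType.CoBasic
import Cfsg.Agent.Lib.USixType.Pair
import Cfsg.Agent.Lib.USixType.WeakData
import Cfsg.Agent.Lib.Classical.UnitaryOrder

/-!
The central involution is the only one of its conjugates in the extraspecial subgroup.
-/

set_option autoImplicit false
set_option linter.unusedSectionVars false
set_option linter.style.haveILetI false
set_option maxRecDepth 100000

open Cfsg CfsgLib.Extraspecial

namespace CfsgLib.USixType

/-- The order of `SU₄(2)`. -/
theorem card_G4 : Nat.card G4 = 25920 := by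
  obtain ⟨C⟩ := CfsgLib.Classical.Herm.exists_conj_of_card (F := HePres.K4) (q := 2)
    (by rw [HePres.K4.card_eq]; norm_num)
  have h := CfsgLib.Classical.Herm.card_SU (n := 4) C (by norm_num)
  rw [CfsgLib.Classical.Herm.card_GU C] at h
  norm_num [Finset.prod_range_succ, show ¬ Even 1 by decide, show Even 2 by decide, show ¬ Even 3 by decide] at h
  show Nat.card (Cfsg.SU 4 HePres.K4 2) = 25920
  omega

namespace Mdl

variable {S : Fin 5 → Lin} (M : Mdl S)
include M

theorem appW_L (v : V8) : ∀ w, appW S w v = app (M.L (evalW w)) v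
  | [] => by rw [appW, evalW, M.one, id_app]
  | k :: w => by rw [appW, evalW, M.mul, app_comp, M.gen_eq, appW_L v w]

theorem app_inv (g : G4) (v : V8) : app (M.L g⁻¹) (app (M.L g) v) = v := by
  rw [← app_comp, ← M.mul, inv_mul_cancel, M.one, id_app]

theorem app_inv' (g : G4) (v : V8) : app (M.L g) (app (M.L g⁻¹) v) = v := by
  rw [← app_comp, ← M.mul, mul_inv_cancel, M.one, id_app]

/-- The action on vectors. -/
abbrev action : MulAction G4 V8 where
  smul g v := app (M.L g) v
  one_smul v := by show app (M.L 1) v = v; rw [M.one, id_app]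
  mul_smul g h v := by show app (M.L (g * h)) v = _; rw [M.mul, app_comp]; rfl

/-- The stabiliser. -/
def stab (v : V8) : Subgroup G4 where
  carrier := {g | app (M.L g) v = v}
  one_mem' := by show app (M.L 1) v = v; rw [M.one, id_app]
  mul_mem' {a b} ha hb := by
    show app (M.L (a * b)) v = v
    rw [M.mul, app_comp, show app (M.L b) v = v from hb, show app (M.L a) v = v from ha]
  inv_mem' {a} ha := by
    show app (M.L a⁻¹) v = v
    conv_lhs => rw [← show app (M.L a) v = v from ha]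
    exact M.app_inv a v

theorem card_stab {d : Dat} (h : okOrb S d = true) :
    Nat.card (M.stab d.v) * d.orb.length = 25920 := by
  classical
  simp only [okOrb, Bool.and_eq_true, decide_eq_true_eq, List.all_eq_true, beq_iff_eq,
    List.contains_iff_mem] at h
  obtain ⟨⟨⟨⟨⟨⟨⟨-, hnd⟩, hw⟩, hv⟩, hcl⟩, -⟩, -⟩, -⟩ := h
  letI := M.action
  have hstab : MulAction.stabilizer G4 d.v = M.stab d.v := by
    ext g; rfl
  have horb : MulAction.orbit G4 d.v = ((d.orb.map Prod.fst).toFinset : Set V8) := by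
    ext x
    simp only [Finset.mem_coe, List.mem_toFinset]
    constructor
    · rintro ⟨g, rfl⟩
      have key : ∀ g : G4, ∀ x ∈ d.orb.map Prod.fst, app (M.L g) x ∈ d.orb.map Prod.fst := by
        intro g
        have hg : g ∈ Subgroup.closure (Set.range gen) := by rw [gen_top]; exact Subgroup.mem_top g
        rw [← Subgroup.mem_toSubmonoid, Subgroup.closure_toSubmonoid_of_finite] at hg
        induction hg using Submonoid.closure_induction with
        | mem a ha =>
          obtain ⟨k, rfl⟩ := ha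
          intro x hx
          obtain ⟨p, hp, rfl⟩ := List.mem_map.1 hx
          rw [M.gen_eq]
          exact hcl p hp k (List.mem_finRange k)
        | one => intro x hx; rwa [M.one, id_app]
        | mul a b _ _ ha hb => intro x hx; rw [M.mul, app_comp]; exact ha _ (hb x hx)
      exact key g _ hv
    · intro hx
      obtain ⟨p, hp, rfl⟩ := List.mem_map.1 hx
      exact ⟨evalW p.2, (M.appW_L d.v p.2).symm.trans (hw p hp)⟩
  have h1 := MulAction.card_orbit_mul_card_stabilizer_eq_card_group G4 d.v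
  simp only [← Nat.card_eq_fintype_card] at h1
  rw [hstab, horb] at h1
  rw [← card_G4, ← h1, mul_comm]
  congr 1
  rw [Nat.card_coe_set_eq, Set.ncard_coe_finset,
    List.toFinset_card_of_nodup hnd, List.length_map]

/-- The group of a list of matrices. -/
theorem exists_pgrp {pg : List (List (Fin 5))} (hnd : (plist S pg).Nodup)
    (hmul : ∀ w ∈ pg, ∀ L ∈ plist S pg, comp (linW S w) L ∈ plist S pg) :
    ∃ P : Subgroup G4, Nat.card P = 2 ^ pg.length ∧ (∀ x ∈ P, M.L x ∈ plist S pg) ∧
      ∀ K : Subgroup G4, (∀ w ∈ pg, evalW w ∈ K) → P ≤ K := by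
  classical
  set P := Subgroup.closure ((fun w => evalW w) '' {w | w ∈ pg}) with hP
  have hone : idL ∈ plist S pg := by
    generalize pg = l
    induction l with
    | nil => exact List.mem_singleton.2 rfl
    | cons w l ih => exact List.mem_append_left _ ih
  have hlist : ∀ x ∈ P, M.L x ∈ plist S pg := by
    intro x hx
    rw [hP, ← Subgroup.mem_toSubmonoid, Subgroup.closure_toSubmonoid_of_finite] at hx
    have : ∀ L ∈ plist S pg, comp (M.L x) L ∈ plist S pg := by
      induction hx using Submonoid.closure_induction with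
      | mem a ha =>
        obtain ⟨w, hw, rfl⟩ := ha
        intro L hL
        rw [M.evalW_L]
        exact hmul w hw L hL
      | one => intro L hL; rwa [M.one, id_comp]
      | mul a b _ _ ha hb => intro L hL; rw [M.mul, comp_assoc]; exact ha _ (hb L hL)
    have := this _ hone
    rwa [comp_id] at this
  have hsurj : ∀ L ∈ plist S pg, ∃ x ∈ P, M.L x = L := by
    have key : ∀ l : List (List (Fin 5)), (∀ w ∈ l, evalW w ∈ P) →
        ∀ L ∈ plist S l, ∃ x ∈ P, M.L x = L := by
      intro l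
      induction l with
      | nil => intro _ L hL; exact ⟨1, P.one_mem, (List.mem_singleton.1 hL ▸ M.one)⟩
      | cons w l ih =>
        intro hl L hL
        have ih' := ih fun x hx => hl x (List.mem_cons_of_mem _ hx)
        rcases List.mem_append.1 hL with h | h
        · exact ih' L h
        · obtain ⟨L', hL', rfl⟩ := List.mem_map.1 h
          obtain ⟨x, hx, rfl⟩ := ih' L' hL'
          exact ⟨evalW w * x, P.mul_mem (hl w (List.mem_cons_self ..)) hx, by rw [M.mul, M.evalW_L]⟩
    exact key pg fun w hw => Subgroup.subset_closure ⟨w, hw, rfl⟩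
  have hlen : (plist S pg).length = 2 ^ pg.length := by
    generalize pg = l
    induction l with
    | nil => rfl
    | cons w l ih => simp [plist, ih, pow_succ, mul_two]
  have hcardP : Nat.card P = 2 ^ pg.length := by
    rw [← hlen, ← List.toFinset_card_of_nodup hnd, ← Nat.card_eq_finsetCard]
    refine Nat.card_congr (Equiv.ofBijective (fun x : P => (⟨M.L x, List.mem_toFinset.2 (hlist x x.2)⟩ :
      (plist S pg).toFinset)) ⟨fun a b e => Subtype.ext (M.inj (congrArg Subtype.val e)), ?_⟩)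
    rintro ⟨L, hL⟩
    obtain ⟨x, hx, rfl⟩ := hsurj L (List.mem_toFinset.1 hL)
    exact ⟨⟨x, hx⟩, rfl⟩
  exact ⟨P, hcardP, hlist, fun K hK => by
    rw [hP, Subgroup.closure_le]
    rintro _ ⟨w, hw, rfl⟩
    exact hK w hw⟩

/-- A normal `2`-subgroup of a stabiliser lies in the given group. -/
theorem two_le_list {d : Dat} (ho : okOrb S d = true) (hg : okGrp S d = true) {U : Subgroup G4}
    (hU : U ≤ M.stab d.v) (h2 : IsPGroup 2 U) (hn : M.stab d.v ≤ Subgroup.normalizer (U : Set G4))
    {g : G4} (hgU : g ∈ U) : M.L g ∈ plist S d.pg := by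
  classical
  simp only [okGrp, Bool.and_eq_true, decide_eq_true_eq, List.all_eq_true, beq_iff_eq,
    List.contains_iff_mem] at hg
  obtain ⟨⟨hnd, hfix⟩, hmul⟩ := hg
  obtain ⟨P, hcardP, hlist, hleast⟩ := M.exists_pgrp hnd hmul
  have hPle : P ≤ M.stab d.v :=
    hleast _ fun w hw => (M.appW_L d.v w).symm.trans (hfix w hw)
  haveI : Fact (Nat.Prime 2) := ⟨Nat.prime_two⟩
  have hsup : IsPGroup 2 ↥(P ⊔ U) :=
    (IsPGroup.of_card hcardP).to_sup_of_normal_right' h2 (hPle.trans hn)
  obtain ⟨m, hm⟩ := IsPGroup.iff_card.1 hsup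
  have hdvd : 2 ^ m ∣ Nat.card (M.stab d.v) := hm ▸ Subgroup.card_dvd_of_le (sup_le hPle hU)
  have hst := M.card_stab ho
  simp only [okOrb, Bool.and_eq_true, decide_eq_true_eq] at ho
  obtain ⟨⟨⟨-, hpos⟩, hnot⟩, -⟩ := ho
  rw [← hst, Nat.mul_div_cancel _ hpos] at hnot
  have hmle : m ≤ d.pg.length := by
    by_contra h
    exact hnot (Nat.mod_eq_zero_of_dvd ((Nat.pow_dvd_pow 2 (by omega)).trans hdvd))
  have : P = P ⊔ U := Subgroup.eq_of_le_of_card_ge le_sup_left (by
    rw [hcardP, hm]; exact Nat.pow_le_pow_right (by norm_num) hmle)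
  exact hlist g (this.symm ▸ Subgroup.mem_sup_right hgU)

end Mdl

/-- The closure stays inside an invariant totally singular subspace. -/
theorem close_sound {β : V8 → V8 → Bool} {W : V8 → Prop} (hadd : ∀ a b, W a → W b → W (xr a b))
    (hsing : ∀ a, W a → qq β a = false) (horth : ∀ a b, W a → W b → bb β a b = false) {Ls : List Lin}
    (hinv : ∀ L ∈ Ls, ∀ a, W a → W (app L a)) :
    ∀ n T, (∀ t ∈ T, W t) → ∃ T', closeW β Ls n T = some T' ∧ (∀ t ∈ T', W t) ∧ ∀ t ∈ T, t ∈ T' := by
  intro n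
  induction n with
  | zero => exact fun T hT => ⟨T, rfl, hT, fun _ h => h⟩
  | succ n ih =>
    intro T hT
    rw [closeW]
    cases e : (T.flatMap fun t => Ls.map fun L => app L t).find? fun y => !T.contains y with
    | none => exact ⟨T, rfl, hT, fun _ h => h⟩
    | some y =>
      have hy : W y := by
        obtain ⟨t, ht, hyt⟩ := List.mem_flatMap.1 (List.mem_of_find?_eq_some e)
        obtain ⟨L, hL, rfl⟩ := List.mem_map.1 hyt
        exact hinv L hL t (hT t ht)
      have hok : okAdd β T y = true := by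
        simp only [okAdd, Bool.and_eq_true, List.all_eq_true, Bool.not_eq_true']
        exact ⟨hsing y hy, fun t ht => horth t y (hT t ht) hy⟩
      simp only [hok, if_true]
      obtain ⟨T', h1, h2, h3⟩ := ih (T ++ T.map (xr y)) fun t ht => by
        rcases List.mem_append.1 ht with h | h
        · exact hT t h
        · obtain ⟨a, ha, rfl⟩ := List.mem_map.1 h
          exact hadd y a hy (hT a ha)
      exact ⟨T', h1, h2, fun t ht => h3 t (List.mem_append_left _ ht)⟩

/-- Invariant totally singular subspaces are in the list. -/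
theorem list_complete {β : V8 → V8 → Bool} {S : Fin 5 → Lin} {d : Dat} (h : okW β S d = true)
    {W : V8 → Prop} (h0 : W 0) (hv : W d.v) (hadd : ∀ a b, W a → W b → W (xr a b))
    (hsing : ∀ a, W a → qq β a = false) (horth : ∀ a b, W a → W b → bb β a b = false)
    (hinv : ∀ w, appW S w d.v = d.v → ∀ a, W a → W (app (linW S w) a)) :
    ∃ T ∈ d.ws, T.Nodup ∧ ∀ x, W x ↔ x ∈ T := by
  simp only [okW, Bool.and_eq_true, List.all_eq_true, beq_iff_eq, decide_eq_true_eq, Bool.or_eq_true,
    Bool.not_eq_true', List.contains_iff_mem] at h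
  obtain ⟨⟨hfix, hstart⟩, hstep⟩ := h
  set Ls := d.sg.map (linW S) with hLs
  have hinv' : ∀ L ∈ Ls, ∀ a, W a → W (app L a) := by
    intro L hL
    obtain ⟨w, hw, rfl⟩ := List.mem_map.1 hL
    exact hinv w (hfix w hw)
  have hin : ∀ T, (∀ t ∈ T, W t) → True → closeIn β Ls d.ws T = true →
      ∃ T0 ∈ d.ws, (∀ t ∈ T0, W t) ∧ ∀ t ∈ T, t ∈ T0 := by
    intro T hT _ h
    obtain ⟨T', h1, h2, h3⟩ := close_sound hadd hsing horth hinv' 3 T hT
    simp only [closeIn, h1, List.any_eq_true, sameSet, Bool.and_eq_true, List.all_eq_true,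
      List.contains_iff_mem] at h
    obtain ⟨T0, hT0, h01, h10⟩ := h
    exact ⟨T0, hT0, fun t ht => h2 t (h10 t ht), fun t ht => h01 t (h3 t ht)⟩
  have key : ∀ n, ∀ T ∈ d.ws, (∀ t ∈ T, W t) → (0 : V8) ∈ T → 256 ≤ T.length + n →
      ∃ T ∈ d.ws, T.Nodup ∧ ∀ x, W x ↔ x ∈ T := by
    intro n
    induction n with
    | zero =>
      intro T hT hTW hz hlen
      obtain ⟨hnd, -⟩ := hstep T hT
      refine ⟨T, hT, hnd, fun x => ⟨fun _ => ?_, hTW x⟩⟩
      have he : T.toFinset = Finset.univ := Finset.eq_univ_of_card _ (le_antisymm (Finset.card_le_univ _) (by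
        rw [List.toFinset_card_of_nodup hnd, Fintype.card_fin]; omega))
      exact List.mem_toFinset.1 (he.symm ▸ Finset.mem_univ x)
    | succ n ih =>
      intro T hT hTW hz hlen
      obtain ⟨hnd, hx⟩ := hstep T hT
      by_cases hall : ∀ x, W x → x ∈ T
      · exact ⟨T, hT, hnd, fun x => ⟨hall x, hTW x⟩⟩
      push Not at hall
      obtain ⟨x, hxW, hxT⟩ := hall
      rcases hx x (List.mem_finRange x) with (h | h) | h
      · exact absurd h hxT
      · exfalso
        have : okAdd β T x = true := by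
          simp only [okAdd, Bool.and_eq_true, List.all_eq_true, Bool.not_eq_true']
          exact ⟨hsing x hxW, fun t ht => horth t x (hTW t ht) hxW⟩
        rw [this] at h
        exact Bool.noConfusion h
      have hsub : ∀ t ∈ T ++ T.map (xr x), W t := fun t ht => by
        rcases List.mem_append.1 ht with h | h
        · exact hTW t h
        · obtain ⟨a, ha, rfl⟩ := List.mem_map.1 h
          exact hadd x a hxW (hTW a ha)
      obtain ⟨T', h1, h2, h3⟩ := close_sound hadd hsing horth hinv' 3 _ hsub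
      simp only [closeIn, h1, List.any_eq_true, sameSet, Bool.and_eq_true, List.all_eq_true,
        List.contains_iff_mem] at h
      obtain ⟨T1, hT1, h11, h12⟩ := h
      have hsub1 : T ⊆ T1 := fun t ht => h11 t (h3 t (List.mem_append_left _ ht))
      refine ih T1 hT1 (fun t ht => h2 t (h12 t ht)) (hsub1 hz) ?_
      have hx1 : x ∈ T1 := h11 _ (h3 _ (List.mem_append_right _ (List.mem_map.2 ⟨0, hz, xr_zero x⟩)))
      have := ((List.nodup_cons.2 ⟨hxT, hnd⟩).subperm (List.cons_subset.2 ⟨hx1, hsub1⟩)).length_le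
      simp only [List.length_cons] at this
      omega
  obtain ⟨T0, hT0, hT0W, hsub⟩ := hin [0, d.v] (fun t ht => by
    rcases List.mem_cons.1 ht with rfl | ht
    · exact h0
    · rw [List.mem_singleton.1 ht]; exact hv) (by trivial) hstart
  exact key 256 T0 hT0 hT0W (hsub 0 (List.mem_cons_self ..)) (by omega)

theorem testPts_perp {β : V8 → V8 → Bool} {v x : V8} (h : x ∈ testPts β v) : bb β x v = false := by
  have := (List.mem_filter.1 h).2
  simpa using this

/-- The data of the three models. -/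
theorem weak_data {β : V8 → V8 → Bool} {S : Fin 5 → Lin} (h : Model β S) :
    ∃ ds : List Dat, ds.all (okOrb S) = true ∧ ds.all (okGrp S) = true ∧ ds.all (okW β S) = true ∧
      ds.all (okU β S) = true ∧ okCover β ds = true := by
  rcases h with ⟨rfl, rfl⟩ | ⟨rfl, rfl⟩ | ⟨rfl, rfl⟩
  · exact ⟨datA, weak_orb.1, weak_grp.1, weak_W.1, weak_U.1, weak_cover.1⟩
  · exact ⟨datQ, weak_orb.2.1, weak_grp.2.1, weak_W.2.1, weak_U.2.1, weak_cover.2.1⟩
  · exact ⟨datD, weak_orb.2.2, weak_grp.2.2, weak_W.2.2, weak_U.2.2, weak_cover.2.2⟩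

namespace Co

variable {G : Type*} [Group G] [Finite G] {z : G} {Q : Subgroup G} {π : ↥(Cz z) →* G4}
  {β : V8 → V8 → Bool} {S : Fin 5 → Lin} (C : Co z Q π β S) (H : Pre z Q π)
include C H

/-- The case of a representative. -/
theorem weak_rep {d : Dat} (ho : okOrb S d = true) (hgr : okGrp S d = true) (hW : okW β S d = true)
    (hU : okU β S d = true) {g : G} {b : Bool} (hja : C.j d.v b = g * z * g⁻¹)
    (hmem : g * z * g⁻¹ ∈ Q) (hne : g * z * g⁻¹ ≠ z) : False := by
  classical
  have hv0 : d.v ≠ 0 := by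
    simp only [okOrb, Bool.and_eq_true, bne_iff_ne] at ho
    exact ho.1.1.1.1.1.1.1
  have s' := H.st.conj g
  have hzE := H.z_Ep hmem hne
  have hvE := H.v_Ep hmem hne
  set a := g * z * g⁻¹ with ha
  let E := Ep Q g
  let W : V8 → Prop := fun x => ∃ e, C.j x e ∈ E
  have W0 : W 0 := ⟨true, C.j_z.symm ▸ hzE⟩
  have Wv : W d.v := ⟨b, hja.symm ▸ hvE⟩
  have Wadd : ∀ x y, W x → W y → W (xr x y) := by
    rintro x y ⟨e, he⟩ ⟨f, hf⟩
    exact ⟨_, C.mul x e y f ▸ E.mul_mem he hf⟩
  have Wq : ∀ x, W x → qq β x = false := by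
    rintro x ⟨e, he⟩
    have h := (C.sq x e).symm.trans (H.Ep_sq hmem hne he)
    exact (C.inj _ _ 0 false (h.trans C.j_one.symm)).2
  have Wb : ∀ x y, W x → W y → bb β x y = false := by
    rintro x y ⟨e, he⟩ ⟨f, hf⟩
    exact (C.comm_iff x y e f).1 (H.Ep_comm hmem hne he hf)
  have stab_lift : ∀ h ∈ C.M.stab d.v, ∃ c ∈ Cz z, img z π c = h ∧ c * a * c⁻¹ = a := by
    intro h hh
    obtain ⟨c, hc, hi, hca⟩ := C.fix_lift H hv0 hh b
    exact ⟨c, hc, hi, by rw [← hja]; exact hca⟩
  have Winv : ∀ w, appW S w d.v = d.v → ∀ x, W x → W (app (linW S w) x) := by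
    rintro w hw x ⟨e, he⟩
    obtain ⟨c, hc, hi, hca⟩ := stab_lift (evalW w) ((C.M.appW_L d.v w).symm.trans hw)
    obtain ⟨f, hf⟩ := C.conj c hc x e
    rw [hi, C.M.evalW_L] at hf
    exact ⟨f, hf ▸ H.conj_Ep hmem hne hc hca he⟩
  obtain ⟨T, hT, hTn, hTW⟩ := list_complete hW W0 Wv Wadd Wq Wb Winv
  -- the order of the intersection
  have hE : Nat.card E = T.length * 2 := by
    have hc : Nat.card ({x // x ∈ T.toFinset} × Bool) = T.length * 2 := by
      rw [Nat.card_prod, Nat.card_eq_finsetCard, List.toFinset_card_of_nodup hTn,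
        Nat.card_eq_fintype_card, Fintype.card_bool]
    rw [← hc]
    symm
    have hmem' : ∀ p : {x // x ∈ T.toFinset} × Bool, C.j p.1.1 p.2 ∈ E := fun p => by
      obtain ⟨e, he⟩ := (hTW p.1.1).2 (List.mem_toFinset.1 p.1.2)
      by_cases hp : p.2 = e
      · exact hp ▸ he
      · have : C.j p.1.1 p.2 = z * C.j p.1.1 e := by
          rw [C.z_mul]
          revert hp
          cases p.2 <;> cases e <;> simp
        exact this ▸ E.mul_mem hzE he
    refine Nat.card_congr (Equiv.ofBijective (fun p => (⟨_, hmem' p⟩ : E)) ⟨?_, ?_⟩)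
    · rintro ⟨⟨x, hx⟩, e⟩ ⟨⟨y, hy⟩, f⟩ h
      obtain ⟨rfl, rfl⟩ := C.inj _ _ _ _ (congrArg Subtype.val h)
      rfl
    · rintro ⟨e, he⟩
      obtain ⟨x, f, rfl⟩ := C.surj e he.1
      exact ⟨(⟨x, List.mem_toFinset.2 ((hTW x).1 ⟨f, he⟩)⟩, f), rfl⟩
  -- the image of the second centraliser
  set U := Apg Q π g with hUdef
  have hUfix : ∀ m ∈ U, app (C.M.L m) d.v = d.v := by
    intro m hm
    obtain ⟨c, hc, rfl⟩ := (H.mem_Ap hmem hne).1 hm
    obtain ⟨f, hf⟩ := C.conj c hc.2 d.v b
    have : c * a * c⁻¹ = a := mul_inv_eq_iff_eq_mul.2 (s'.z_comm hc.1)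
    rw [hja, this, ← hja] at hf
    exact (C.inj _ _ _ _ hf).1.symm
  have hUle : U ≤ C.M.stab d.v := hUfix
  have hUn : C.M.stab d.v ≤ Subgroup.normalizer (U : Set G4) := by
    intro h hh
    rw [Subgroup.mem_normalizer_iff]
    intro x
    have key : ∀ h ∈ C.M.stab d.v, ∀ x ∈ U, h * x * h⁻¹ ∈ U := by
      intro h hh x hx
      obtain ⟨c, hc, rfl, hca⟩ := stab_lift h hh
      exact H.conj_Ap hmem hne hc hca hx
    refine ⟨key h hh x, fun hx => ?_⟩
    have := key h⁻¹ (inv_mem hh) _ hx
    simpa [mul_assoc] using this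
  have hU2 : IsPGroup 2 U := fun m => ⟨1, Subtype.ext (by
    show (m : G4) ^ 2 = 1
    rw [pow_two]; exact H.Ap_sq hmem hne m.2)⟩
  have hin : ∀ m ∈ U, C.M.L m ∈ (plist S d.pg).filter (inU β d.v T) := by
    intro m hm
    refine List.mem_filter.2 ⟨C.M.two_le_list ho hgr hUle hU2 hUn hm, ?_⟩
    obtain ⟨c, hc, rfl⟩ := (H.mem_Ap hmem hne).1 hm
    simp only [inU, Bool.and_eq_true, List.all_eq_true, decide_eq_true_eq, Bool.or_eq_true, beq_iff_eq,
      List.contains_iff_mem]
    refine ⟨⟨?_, ?_⟩, ?_⟩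
    · rw [← C.M.mul, H.Ap_sq hmem hne hm, C.M.one]
    · intro w hw
      obtain ⟨e, he⟩ := (hTW w).2 hw
      obtain ⟨f, hf⟩ := C.conj c hc.2 w e
      rcases s'.comm_cases hc.1 he.2 with h | h
      · exact Or.inl (C.inj _ _ _ _ (hf.symm.trans h)).1
      · refine Or.inr ?_
        obtain ⟨k, hk⟩ := C.mul_mem_vec hja (rfl : C.j w e = _)
        rw [← hk] at h
        rw [(C.inj _ _ _ _ (hf.symm.trans h)).1, xr_comm]
    · intro x hx
      refine (hTW _).1 ?_
      have hcom : C.j x false * a = a * C.j x false := by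
        rw [← hja]; exact (C.comm_iff x d.v false b).2 (testPts_perp hx)
      have hmQc : c * C.j x false * c⁻¹ * (C.j x false)⁻¹ ∈ Qc Q g := by
        have h1 : C.j x false * c⁻¹ * (C.j x false)⁻¹ ∈ Qc Q g :=
          H.conj_Qc hmem hne (mul_inv_eq_iff_eq_mul.2 hcom) ((Qc Q g).inv_mem hc.1)
        have := (Qc Q g).mul_mem hc.1 h1
        rwa [← mul_assoc, ← mul_assoc] at this
      have hmQ : c * C.j x false * c⁻¹ * (C.j x false)⁻¹ ∈ Q :=
        Q.mul_mem (H.conjQ hc.2 (C.mem _ _)) (Q.inv_mem (C.mem _ _))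
      obtain ⟨f, hf⟩ := C.conj c hc.2 x false
      have hinv : (C.j x false)⁻¹ = C.j x (qq β x) := inv_eq_of_mul_eq_one_right (by
        rw [C.mul, xr_self, ← C.j_one, qq]; congr 1; cases β x x <;> rfl)
      have hmem' : c * C.j x false * c⁻¹ * (C.j x false)⁻¹ ∈ E := ⟨hmQ, hmQc⟩
      rw [hf, hinv, C.mul] at hmem'
      exact ⟨_, hmem'⟩
  set Uc := (plist S d.pg).filter (inU β d.v T) with hUc
  have hUcard : Nat.card U ≤ Uc.length := by
    calc Nat.card U ≤ Nat.card {L // L ∈ Uc.toFinset} :=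
          Nat.card_le_card_of_injective (fun m => ⟨C.M.L m, List.mem_toFinset.2 (hin m m.2)⟩)
            fun m n e => Subtype.ext (C.M.inj (congrArg Subtype.val e))
      _ = Uc.toFinset.card := Nat.card_eq_finsetCard _
      _ ≤ Uc.length := List.toFinset_card_le _
  have hmul := H.card_Ap_mul hmem hne
  change Nat.card U * Nat.card E = 256 at hmul
  rw [hE] at hmul
  simp only [okU, List.all_eq_true, Bool.or_eq_true, decide_eq_true_eq, List.any_eq_true, Bool.and_eq_true,
    bne_iff_ne, beq_iff_eq] at hU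
  rcases hU T hT with h | ⟨w, hw, ⟨hw0, hwv⟩, hfix⟩
  · have : Nat.card U * T.length ≤ Uc.length * T.length := Nat.mul_le_mul_right _ hUcard
    nlinarith
  · obtain ⟨e, he⟩ := (hTW w).2 hw
    have hfc : cl Q (C.j w e) = 1 ∨ cl Q (C.j w e) = cl Q a := H.fixed_cases hmem hne he fun c hc => by
      rw [H.ac_cl hc.2 he.1]
      obtain ⟨f, hf⟩ := C.conj c hc.2 w e
      rw [hf, hfix _ (hin _ ((H.mem_Ap hmem hne).2 ⟨c, hc, rfl⟩)), C.cl_j H]
    rcases hfc with h | h
    · rw [← C.cl_zero H false, C.cl_j H] at h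
      exact hw0 h
    · rw [← hja, C.cl_j H] at h
      exact hwv h

/-- `z` is the only one of its conjugates in `Q`. -/
theorem weakly_closed (hM : Model β S) (g : G) (hmem : g * z * g⁻¹ ∈ Q) : g * z * g⁻¹ = z := by
  by_contra hne
  obtain ⟨x, e, hx⟩ := C.surj _ hmem
  have hx0 : x ≠ 0 := by
    rintro rfl
    rcases C.eq_one_or_z e with h | h
    · exact (H.st.conj g).ne_one (hx.symm.trans h)
    · exact hne (hx.symm.trans h)
  have hq : qq β x = false := by
    have h := (C.sq x e).symm.trans (by rw [hx]; exact (H.st.conj g).zz : C.j x e * C.j x e = 1)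
    exact (C.inj _ _ 0 false (h.trans C.j_one.symm)).2
  obtain ⟨ds, ho, hgr, hW, hU, hcov⟩ := weak_data hM
  simp only [okCover, List.all_eq_true, Bool.or_eq_true, beq_iff_eq, List.any_eq_true,
    List.contains_iff_mem] at hcov
  rcases hcov x (List.mem_finRange x) with (h | h) | ⟨d, hd, hxd⟩
  · exact hx0 h
  · rw [hq] at h; exact Bool.noConfusion h
  rw [List.all_eq_true] at ho hgr hW hU
  obtain ⟨⟨y, w⟩, hp, rfl⟩ := List.mem_map.1 hxd
  have hwy : app (C.M.L (evalW w)) d.v = y := by
    have h := ho d hd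
    simp only [okOrb, Bool.and_eq_true, List.all_eq_true, beq_iff_eq] at h
    exact (C.M.appW_L d.v w).symm.trans (h.1.1.1.1.1.2 _ hp)
  obtain ⟨c, hc, hi⟩ := H.lift (evalW w)⁻¹
  obtain ⟨f, hf⟩ := C.conj c hc y e
  rw [hi, ← hwy, C.M.app_inv, hwy, hx] at hf
  have e1 : c * g * z * (c * g)⁻¹ = c * (g * z * g⁻¹) * c⁻¹ := by group
  refine weak_rep C H (ho d hd) (hgr d hd) (hW d hd) (hU d hd) (g := c * g) (e1.trans hf).symm ?_ ?_
  · rw [e1]; exact H.conjQ hc hmem
  · rw [e1]
    intro h
    apply hne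
    calc g * z * g⁻¹ = c⁻¹ * (c * (g * z * g⁻¹) * c⁻¹) * c := by group
      _ = c⁻¹ * (z * c) := by rw [h]; group
      _ = z := by rw [← mem_Cz.1 hc]; group

end Co

end CfsgLib.USixType
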