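import Cfsg.Agent.Lib.USixType.Action

/-!
With a fixed plane in `Q/⟨z⟩` the involution `z` is isolated in its centraliser.
-/

set_option autoImplicit false
set_option linter.unusedSectionVars false
set_option linter.style.haveILetI false
set_option maxRecDepth 100000

open Cfsg CfsgLib.Extraspecial

namespace CfsgLib.USixType

/-- Test vectors. -/
def ptsB : List V8 := [10, 11, 16, 17, 32, 42, 128, 192, 123, 107, 65]

/-- An involution fixes an anisotropic line pointwise. -/
def aniTest (β : V8 → V8 → Bool) (T : List V8) (L : Lin) : Bool :=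
  !decide (comp L L = idL) || T.any fun u => T.any fun v =>
    app L u == u && app L v == v && qq β u && qq β v && qq β (xr u v)

/-- An element of order four fixes no hyperplane of the fixed points of its square. -/
def fourTest (T : List V8) (L : Lin) : Bool :=
  decide (comp L L = idL) || !decide (comp (comp L L) (comp L L) = idL) ||
    T.any fun u => T.any fun v => app L (app L u) == u && app L (app L v) == v &&
      app L u != u && app L v != v && app L (xr u v) != xr u v

theorem aniB : (plist wL (sylPg wL)).all (aniTest bA ptsB) = true ∧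
    (plist wL (sylPg wL)).all (aniTest bD ptsB) = true := by
  decide +kernel

theorem fourB : (plist wL (sylPg wL)).all (fourTest ptsB) = true := by decide +kernel

theorem wL_top : ∀ k, app (wL k) 192 = 192 := by decide +kernel

theorem top_q : qq bA 192 = true ∧ qq bD 192 = true := by decide +kernel

namespace Co

variable {G : Type*} [Group G] [Finite G] {z : G} {Q : Subgroup G} {π : ↥(Cz z) →* G4}
  {β : V8 → V8 → Bool} (C : Co z Q π β wL) (H : Pre z Q π) (hM : Model β wL)
include C

theorem fix_top (g : G4) : app (C.M.L g) 192 = 192 := by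
  have hg : g ∈ Subgroup.closure (Set.range gen) := by rw [gen_top]; exact Subgroup.mem_top g
  induction hg using Subgroup.closure_induction with
  | mem x hx => obtain ⟨k, rfl⟩ := hx; rw [C.M.gen_eq]; exact wL_top k
  | one => rw [C.M.one, id_app]
  | mul x y _ _ hx hy => rw [C.M.mul, app_comp, hy, hx]
  | inv x _ hx => conv_lhs => rw [← hx, C.M.app_inv]

include H hM

theorem q_top : qq β 192 = true := by
  rcases hM with ⟨-, h⟩ | ⟨rfl, -⟩ | ⟨rfl, -⟩
  · exact absurd (congrFun h 0) (by decide +kernel)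
  · exact top_q.1
  · exact top_q.2

/-- An element of order four in the centraliser in `Q` of a conjugate in the centraliser. -/
theorem sqB {a : G} (ha : a ∈ Cz z) {g : G} (hag : g * z * g⁻¹ = a) (hne : a ≠ z) :
    ∃ x ∈ Q, x * a = a * x ∧ x * x = z := by
  obtain ⟨ho, -⟩ := C.img_conjugate H ha hag hM hne
  obtain ⟨h, hh⟩ := C.M.conj_into (Or.inr rfl) (n := 1) (g := img z π a) (by rw [pow_one]; exact ho)
  have htest : aniTest β ptsB (C.M.L (h * img z π a * h⁻¹)) = true := by
    rcases hM with ⟨-, e⟩ | ⟨rfl, -⟩ | ⟨rfl, -⟩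
    · exact absurd (congrFun e 0) (by decide +kernel)
    · exact List.all_eq_true.1 aniB.1 _ hh
    · exact List.all_eq_true.1 aniB.2 _ hh
  have hinv : comp (C.M.L (h * img z π a * h⁻¹)) (C.M.L (h * img z π a * h⁻¹)) = idL := by
    have h2 : (h * img z π a * h⁻¹) * (h * img z π a * h⁻¹) = 1 := by
      calc (h * img z π a * h⁻¹) * (h * img z π a * h⁻¹) = h * (img z π a * img z π a) * h⁻¹ := by group
        _ = 1 := by rw [← pow_two, (orderOf_eq_prime_iff.1 ho).1]; group
    rw [← C.M.mul, h2, C.M.one]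
  simp only [aniTest, hinv, decide_true, Bool.not_true, Bool.false_or, List.any_eq_true,
    Bool.and_eq_true, beq_iff_eq] at htest
  obtain ⟨u, -, v, -, ⟨⟨⟨hu, hv⟩, qu⟩, qv⟩, quv⟩ := htest
  have back : ∀ w, app (C.M.L (h * img z π a * h⁻¹)) w = w →
      app (C.M.L (img z π a)) (app (C.M.L h⁻¹) w) = app (C.M.L h⁻¹) w := fun w hw => by
    conv_rhs => rw [← hw, ← app_comp, ← C.M.mul]
    rw [← app_comp, ← C.M.mul]
    congr 2; group
  have hu' := back u hu
  have hv' := back v hv
  set u' := app (C.M.L h⁻¹) u with hu'd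
  set v' := app (C.M.L h⁻¹) v with hv'd
  have hsum : app (C.M.L (img z π a)) (xr u' v') = xr u' v' := by rw [app_xr, hu', hv']
  have hq : ∀ w, qq β w = true → ∀ w', app (C.M.L h⁻¹) w = w' → qq β w' = true := fun w hw w' e => by
    rw [← e, C.qq_L H]; exact hw
  obtain ⟨w, hwfix, hwq, hws⟩ : ∃ w, app (C.M.L (img z π a)) w = w ∧ qq β w = true ∧ C.sgn a w = false := by
    have hx := C.sgn_xr ha hu' hv'
    cases e1 : C.sgn a u'
    · exact ⟨u', hu', hq u qu _ rfl, e1⟩
    cases e2 : C.sgn a v'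
    · exact ⟨v', hv', hq v qv _ rfl, e2⟩
    rw [e1, e2] at hx
    exact ⟨xr u' v', hsum, hq (xr u v) quv _ (app_xr _ _ _), hx⟩
  exact ⟨C.j w false, C.mem _ _, (C.sgn_false ha hwfix hws false).symm, by rw [C.sq, hwq, C.j_z]⟩

/-- The mirror. -/
theorem squareB {a : G} (ha : a ∈ Cz z) {g : G} (hag : g * z * g⁻¹ = a) (hne : a ≠ z) :
    ∃ y ∈ Cz z, y * y = a := by
  set a' := g⁻¹ * z * g with ha'
  have hag' : g⁻¹ * z * g⁻¹⁻¹ = a' := by rw [inv_inv]
  have haC : a' ∈ Cz z := by
    refine mem_Cz.2 ?_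
    have h := mem_Cz.1 ha
    rw [← hag] at h
    calc g⁻¹ * z * g * z = g⁻¹ * (z * (g * z * g⁻¹)) * g := by group
      _ = g⁻¹ * (g * z * g⁻¹ * z) * g := by rw [h]
      _ = z * (g⁻¹ * z * g) := by group
  have hne' : a' ≠ z := fun h => hne (by
    rw [← hag]
    calc g * z * g⁻¹ = g * (g⁻¹ * z * g) * g⁻¹ := by rw [← ha', h]
      _ = z := by group)
  obtain ⟨x, hx, hxa, hxx⟩ := C.sqB H hM haC hag' hne'
  refine ⟨g * x * g⁻¹, mem_Cz.2 ?_, ?_⟩
  · calc g * x * g⁻¹ * z = g * (x * a') * g⁻¹ := by rw [ha']; group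
      _ = g * (a' * x) * g⁻¹ := by rw [hxa]
      _ = z * (g * x * g⁻¹) := by rw [ha']; group
  · calc g * x * g⁻¹ * (g * x * g⁻¹) = g * (x * x) * g⁻¹ := by group
      _ = a := by rw [hxx, hag]

/-- A conjugate in the centraliser centralises the preimage of the fixed vector. -/
theorem top_comm {a : G} (ha : a ∈ Cz z) {g : G} (hag : g * z * g⁻¹ = a) (hne : a ≠ z) (b : Bool) :
    a * C.j 192 b = C.j 192 b * a := by
  obtain ⟨y, hy, rfl⟩ := C.squareB H hM ha hag hne
  obtain ⟨δ, hδ⟩ := C.conj_bit hy 192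
  rw [C.fix_top] at hδ
  refine mul_inv_eq_iff_eq_mul.1 ?_
  calc y * y * C.j 192 b * (y * y)⁻¹ = y * (y * C.j 192 b * y⁻¹) * y⁻¹ := by group
    _ = C.j 192 ((b ^^ δ) ^^ δ) := by rw [hδ, hδ]
    _ = _ := by cases b <;> cases δ <;> rfl

/-- No other conjugate lies in the centraliser. -/
theorem isolatedB (g : G) (ha : g * z * g⁻¹ ∈ Cz z) : g * z * g⁻¹ = z := by
  by_contra hne
  set a := g * z * g⁻¹ with haD
  obtain ⟨ho, haQ⟩ := C.img_conjugate H ha rfl hM hne
  set q := g * C.j 192 false * g⁻¹ with hq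
  have haC' : g⁻¹ * z * g ∈ Cz z := by
    refine mem_Cz.2 ?_
    calc g⁻¹ * z * g * z = g⁻¹ * (z * a) * g := by rw [haD]; group
      _ = g⁻¹ * (a * z) * g := by rw [mem_Cz.1 ha]
      _ = z * (g⁻¹ * z * g) := by rw [haD]; group
  have hne' : g⁻¹ * z * g ≠ z := fun h => hne (by
    calc g * z * g⁻¹ = g * (g⁻¹ * z * g) * g⁻¹ := by rw [h]
      _ = z := by group)
  have hqC : q ∈ Cz z := by
    refine mem_Cz.2 ?_
    have h := C.top_comm H hM haC' (g := g⁻¹) (by rw [inv_inv]) hne' false
    calc q * z = g * (C.j 192 false * (g⁻¹ * z * g)) * g⁻¹ := by rw [hq]; group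
      _ = g * (g⁻¹ * z * g * C.j 192 false) * g⁻¹ := by rw [h]
      _ = z * q := by rw [hq]; group
  have hqq : q * q = a := by
    calc q * q = g * (C.j 192 false * C.j 192 false) * g⁻¹ := by rw [hq]; group
      _ = a := by rw [C.sq, q_top C H hM, C.j_z]
  have himg : img z π q * img z π q = img z π a := by rw [← H.img_mul hqC hqC, hqq]
  have ho4 : orderOf (img z π q) = 2 ^ 2 := by
    refine orderOf_eq_prime_pow (p := 2) (n := 1) ?_ ?_
    · rw [pow_one, pow_two, himg]
      intro h; rw [h, orderOf_one] at ho; exact absurd ho (by norm_num)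
    · rw [show (2 : ℕ) ^ (1 + 1) = 2 * 2 from rfl, pow_mul, pow_two (img z π q), himg, (orderOf_eq_prime_iff.1 ho).1]
  have hfix : ∀ w, app (C.M.L (img z π a)) w = w → C.sgn a w = false → app (C.M.L (img z π q)) w = w := by
    intro w hw hs
    set c := C.j w false with hc
    have hcC : c ∈ Cz z := H.QC (C.mem _ _)
    have hca : c * a = a * c := (C.sgn_false ha hw hs false).symm
    set d := g⁻¹ * c * g with hd
    have hdC : d ∈ Cz z := by
      refine mem_Cz.2 ?_
      calc d * z = g⁻¹ * (c * a) * g := by rw [hd, haD]; group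
        _ = g⁻¹ * (a * c) * g := by rw [hca]
        _ = z * d := by rw [hd, haD]; group
    obtain ⟨δ, hδ⟩ := C.conj_bit hdC 192
    have h1 := hδ false
    rw [C.fix_top, Bool.false_xor] at h1
    have h2 : c * q * c⁻¹ = g * C.j 192 δ * g⁻¹ := by rw [← h1, hd, hq]; group
    cases δ
    · obtain ⟨δ', hδ'⟩ := C.conj_bit hqC w
      have h3 : q * c * q⁻¹ = c := by
        rw [mul_inv_eq_iff_eq_mul, ← mul_inv_eq_iff_eq_mul.1 (show c * q * c⁻¹ = q from h2)]
      rw [hc, hδ' false] at h3
      exact (C.inj _ _ _ _ h3).1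
    · exfalso
      refine haQ ?_
      have hz : C.j 192 true = z * C.j 192 false := (C.z_mul 192 false).symm
      have h4 : c * q * c⁻¹ = a * q := by rw [h2, hz, haD, hq]; group
      have h5 : a = c * (q * c⁻¹ * q⁻¹) := by
        calc a = a * q * q⁻¹ := by group
          _ = c * q * c⁻¹ * q⁻¹ := by rw [h4]
          _ = _ := by group
      rw [h5]
      exact Q.mul_mem (C.mem _ _) (H.conjQ hqC (Q.inv_mem (C.mem _ _)))
  obtain ⟨h, hh⟩ := C.M.conj_into (Or.inr rfl) (n := 2) ho4
  have ht := List.all_eq_true.1 fourB _ hh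
  set k := h * img z π q * h⁻¹ with hk
  have hk2 : k * k = h * img z π a * h⁻¹ := by rw [hk, ← himg]; group
  have hne2 : ¬ comp (C.M.L k) (C.M.L k) = idL := by
    rw [← C.M.mul, ← C.M.one]
    intro e
    have h1 := C.M.inj e
    rw [hk2] at h1
    have : img z π a = 1 := conj_eq_one_iff.1 h1
    rw [this, orderOf_one] at ho
    exact absurd ho (by norm_num)
  have h4 : comp (comp (C.M.L k) (C.M.L k)) (comp (C.M.L k) (C.M.L k)) = idL := by
    rw [← C.M.mul, ← C.M.mul, hk2, show h * img z π a * h⁻¹ * (h * img z π a * h⁻¹) =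
      h * (img z π a * img z π a) * h⁻¹ by group, ← pow_two, (orderOf_eq_prime_iff.1 ho).1, mul_one,
      mul_inv_cancel, C.M.one]
  simp only [fourTest, hne2, h4, decide_false, decide_true, Bool.not_true, Bool.false_or, List.any_eq_true,
    Bool.and_eq_true, beq_iff_eq, bne_iff_ne] at ht
  obtain ⟨u, -, v, -, ⟨⟨⟨hu, hv⟩, mu⟩, mv⟩, muv⟩ := ht
  have back : ∀ w, app (C.M.L k) (app (C.M.L k) w) = w → app (C.M.L k) w ≠ w →
      app (C.M.L (img z π a)) (app (C.M.L h⁻¹) w) = app (C.M.L h⁻¹) w ∧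
        C.sgn a (app (C.M.L h⁻¹) w) = true := by
    intro w h2 h1
    have hfa : app (C.M.L (img z π a)) (app (C.M.L h⁻¹) w) = app (C.M.L h⁻¹) w := by
      conv_rhs => rw [← h2]
      simp only [← app_comp, ← C.M.mul]
      congr 2
      calc img z π a * h⁻¹ = h⁻¹ * (k * k) := by rw [hk2]; group
        _ = h⁻¹ * (k * k) := rfl
    refine ⟨hfa, ?_⟩
    by_contra hs
    rw [Bool.not_eq_true] at hs
    have h3 := hfix _ hfa hs
    apply h1
    calc app (C.M.L k) w = app (C.M.L h) (app (C.M.L (img z π q)) (app (C.M.L h⁻¹) w)) := by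
          rw [hk, C.M.mul, C.M.mul, app_comp, app_comp]
      _ = w := by rw [h3, C.M.app_inv']
  obtain ⟨fu, su⟩ := back u hu mu
  obtain ⟨fv, sv⟩ := back v hv mv
  obtain ⟨-, suv⟩ := back (xr u v) (by rw [app_xr, app_xr, hu, hv]) muv
  have := C.sgn_xr ha fu fv
  rw [← app_xr, suv, su, sv] at this
  exact Bool.noConfusion this

end Co

end CfsgLib.USixType
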