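import Cfsg.Agent.Lib.USixType.Weak

/-!
Conjugation by elements fixing a vector, invariance of the forms, and reduction to a Sylow `2`-subgroup.
-/

set_option autoImplicit false
set_option linter.unusedSectionVars false
set_option linter.style.haveILetI false
set_option maxRecDepth 100000

open Cfsg CfsgLib.Extraspecial

namespace CfsgLib.USixType

/-- The polycyclic generators of a Sylow `2`-subgroup. -/
def sylPg (S : Fin 5 → Lin) : List (List (Fin 5)) :=
  if S 0 = gL 0 then (datA.map Dat.pg).headD [] else (datQ.map Dat.pg).headD []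

theorem sylPg_len : (sylPg gL).length = 6 ∧ (sylPg wL).length = 6 := by decide +kernel

theorem sylPg_ok :
    (decide (plist gL (sylPg gL)).Nodup && (sylPg gL).all fun w => (plist gL (sylPg gL)).all fun L =>
      (plist gL (sylPg gL)).contains (comp (linW gL w) L)) = true ∧
    (decide (plist wL (sylPg wL)).Nodup && (sylPg wL).all fun w => (plist wL (sylPg wL)).all fun L =>
      (plist wL (sylPg wL)).contains (comp (linW wL w) L)) = true := by
  decide +kernel

theorem Mdl.conj_into {S : Fin 5 → Lin} (M : Mdl S) (hS : S = gL ∨ S = wL) {g : G4} {n : ℕ}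
    (hg : orderOf g = 2 ^ n) : ∃ h : G4, M.L (h * g * h⁻¹) ∈ plist S (sylPg S) := by
  classical
  haveI : Fact (Nat.Prime 2) := ⟨Nat.prime_two⟩
  obtain ⟨hl, hok⟩ : (sylPg S).length = 6 ∧
      (decide (plist S (sylPg S)).Nodup && (sylPg S).all fun w => (plist S (sylPg S)).all fun L =>
        (plist S (sylPg S)).contains (comp (linW S w) L)) = true := by
    rcases hS with rfl | rfl
    exacts [⟨sylPg_len.1, sylPg_ok.1⟩, ⟨sylPg_len.2, sylPg_ok.2⟩]
  simp only [Bool.and_eq_true, decide_eq_true_eq, List.all_eq_true, List.contains_iff_mem] at hok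
  obtain ⟨P, hcard, hlist, -⟩ := M.exists_pgrp hok.1 hok.2
  have hf : Nat.card P = 2 ^ (Nat.card G4).factorization 2 := by
    rw [hcard, hl, card_G4, show Nat.factorization 25920 2 = 6 from by
      rw [show (25920 : ℕ) = 2 ^ 6 * 405 from rfl, Nat.factorization_mul (by norm_num) (by norm_num),
        Finsupp.add_apply, Nat.Prime.factorization_pow Nat.prime_two, Finsupp.single_eq_same,
        Nat.factorization_eq_zero_of_not_dvd (by norm_num : ¬(2 ∣ 405))]]
  let SP : Sylow 2 G4 := Sylow.ofCard P hf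
  have hC : IsPGroup 2 ↥(Subgroup.zpowers g) := IsPGroup.of_card (by rw [Nat.card_zpowers, hg])
  obtain ⟨T, hT⟩ := hC.exists_le_sylow
  obtain ⟨h, hh⟩ := MulAction.exists_smul_eq G4 T SP
  refine ⟨h, hlist _ ?_⟩
  have h1 : MulAut.conj h g ∈ (h • T : Sylow 2 G4) := ⟨g, hT (Subgroup.mem_zpowers g), rfl⟩
  rw [hh] at h1
  exact h1

namespace Co

variable {G : Type*} [Group G] {z : G} {Q : Subgroup G} {π : ↥(Cz z) →* G4}
  {β : V8 → V8 → Bool} {S : Fin 5 → Lin} (C : Co z Q π β S)
include C

theorem conj_bit {c : G} (hc : c ∈ Cz z) (v : V8) :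
    ∃ δ : Bool, ∀ b, c * C.j v b * c⁻¹ = C.j (app (C.M.L (img z π c)) v) (b ^^ δ) := by
  obtain ⟨d, hd⟩ := C.conj c hc v false
  refine ⟨d, fun b => ?_⟩
  cases b
  · rw [hd, Bool.false_xor]
  · rw [show C.j v true = z * C.j v false from (C.z_mul v false).symm, Bool.true_xor,
      show C.j (app (C.M.L (img z π c)) v) (!d) = z * C.j (app (C.M.L (img z π c)) v) d from (C.z_mul _ d).symm,
      ← hd]
    calc c * (z * C.j v false) * c⁻¹ = c * z * C.j v false * c⁻¹ := by group
      _ = z * c * C.j v false * c⁻¹ := by rw [mem_Cz.1 hc]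
      _ = _ := by group

open scoped _root_.Classical in
/-- The sign of an element on the lift of a vector. -/
noncomputable def sgn (c : G) (v : V8) : Bool := decide (c * C.j v false * c⁻¹ ≠ C.j v false)

theorem sgn_fix {c : G} (hc : c ∈ Cz z) {v : V8} (hv : app (C.M.L (img z π c)) v = v) (b : Bool) :
    c * C.j v b * c⁻¹ = C.j v (b ^^ C.sgn c v) := by
  obtain ⟨δ, hδ⟩ := C.conj_bit hc v
  have h0 := hδ false
  rw [hv] at h0
  have : C.sgn c v = δ := by
    cases δ
    · simpa [sgn] using h0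
    · simp only [sgn, decide_eq_true_eq]
      intro e
      exact Bool.noConfusion (C.inj _ _ _ _ (h0.symm.trans e)).2
  rw [hδ, hv, this]

theorem sgn_xr {c : G} (hc : c ∈ Cz z) {v w : V8} (hv : app (C.M.L (img z π c)) v = v)
    (hw : app (C.M.L (img z π c)) w = w) : C.sgn c (xr v w) = (C.sgn c v ^^ C.sgn c w) := by
  have hvw : app (C.M.L (img z π c)) (xr v w) = xr v w := by rw [app_xr, hv, hw]
  have h : c * (C.j v false * C.j w false) * c⁻¹ = c * C.j v false * c⁻¹ * (c * C.j w false * c⁻¹) := by group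
  rw [C.sgn_fix hc hv, C.sgn_fix hc hw, C.mul, C.mul, C.sgn_fix hc hvw] at h
  have h2 := (C.inj _ _ _ _ h).2
  revert h2
  cases C.sgn c (xr v w) <;> cases C.sgn c v <;> cases C.sgn c w <;> cases β v w <;> decide

theorem sgn_false {c : G} (hc : c ∈ Cz z) {v : V8} (hv : app (C.M.L (img z π c)) v = v)
    (h : C.sgn c v = false) (b : Bool) : c * C.j v b = C.j v b * c := by
  have := C.sgn_fix hc hv b
  rw [h, Bool.xor_false] at this
  exact mul_inv_eq_iff_eq_mul.1 this

variable [Finite G] (H : Pre z Q π)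
include H

theorem qq_L (g : G4) (v : V8) : qq β (app (C.M.L g) v) = qq β v := by
  obtain ⟨c, hc, rfl⟩ := H.lift g
  obtain ⟨δ, hδ⟩ := C.conj_bit hc v
  have h : c * (C.j v false * C.j v false) * c⁻¹ = c * C.j v false * c⁻¹ * (c * C.j v false * c⁻¹) := by group
  rw [hδ, C.sq, C.sq] at h
  have : c * C.j 0 (qq β v) * c⁻¹ = C.j 0 (qq β v) := by
    rcases C.eq_one_or_z (qq β v) with e | e <;> rw [e]
    · group
    · exact mul_inv_eq_iff_eq_mul.2 (mem_Cz.1 hc)
  rw [this] at h
  exact (C.inj _ _ _ _ h).2.symm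

theorem bb_L (g : G4) (v w : V8) : bb β (app (C.M.L g) v) (app (C.M.L g) w) = bb β v w := by
  have h := C.qq_L H g (xr v w)
  rw [app_xr, C.bil.qq_xr, C.bil.qq_xr, C.qq_L H, C.qq_L H] at h
  revert h
  cases qq β v <;> cases qq β w <;> cases bb β (app (C.M.L g) v) (app (C.M.L g) w) <;> cases bb β v w <;> decide

theorem img_conjugate {a : G} (ha : a ∈ Cz z) {g : G} (hag : g * z * g⁻¹ = a) (hM : Model β S) (hne : a ≠ z) :
    orderOf (img z π a) = 2 ∧ a ∉ Q := by
  have haQ : a ∉ Q := fun h => hne (hag ▸ C.weakly_closed H hM g (hag ▸ h))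
  refine ⟨orderOf_eq_prime_iff.2 ⟨?_, fun h => haQ ((H.img_eq_one ha).1 h)⟩, haQ⟩
  rw [← H.img_pow ha, pow_two, ← hag, (H.st.conj g).zz]
  exact H.img_one

end Co

end CfsgLib.USixType
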