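import Cfsg.Agent.Lib.USixType.ClassData

/-!
Involutions of `J ⋊ SU₄(2)` that may be conjugate to the central involution.
-/

set_option autoImplicit false
set_option linter.unusedSectionVars false
set_option linter.style.haveILetI false
set_option maxRecDepth 100000

open Cfsg CfsgLib.Extraspecial

namespace CfsgLib.USixType

theorem len_filter {n : ℕ} (p : Fin n → Bool) :
    ((List.finRange n).filter p).length = Nat.card {u : Fin n // p u = true} := by
  rw [Nat.card_eq_fintype_card, Fintype.card_subtype,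
    ← List.toFinset_card_of_nodup ((List.nodup_finRange n).filter p)]
  congr 1
  ext u
  simp

theorem unit_span : ∀ v : V8, (((List.finRange 8).filter fun i => cb v i.1).map un).foldr xr 0 = v := by
  decide +kernel

theorem rep_sq (k : Bool) : evalW (repW k) * evalW (repW k) = 1 := by
  rw [← evalW_append]
  have : ∀ k, linW gL (repW k ++ repW k) = linW gL [] := by decide +kernel
  exact (evalW_eq (this k)).trans rfl

theorem sing_facts : app (gL 1) 80 = 80 ∧ qq bA 80 = false ∧ (∀ u, xr u (app (gL 1) u) ≠ 80) ∧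
    gL 1 ≠ idL ∧ linW gL [1, 3] ≠ idL ∧ ∀ v, app (linW gL (repW false)) v = app (gL 1) v := by
  decide +kernel

theorem qq_natL (g : G4) (v : V8) : qq bA (app (natL g) v) = qq bA v := bA_natL g v v

/-- A square root in the centraliser. -/
def HasRoot {G : Type*} [Group G] (z a : G) : Prop := ∃ y ∈ Cz z, y * y = a

/-- A square root of `z` centralising the element. -/
def HasPerp {G : Type*} [Group G] (z a : G) : Prop := ∃ y ∈ Cz z, y * a = a * y ∧ y * y = z

/-- Conjugacy in the centraliser. -/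
def Sim {G : Type*} [Group G] (z a e : G) : Prop := ∃ c ∈ Cz z, c * a * c⁻¹ = e

section Basic

variable {G : Type*} [Group G] {z a e g : G}

theorem Sim.symm (h : Sim z a e) : Sim z e a := by
  obtain ⟨c, hc, rfl⟩ := h
  exact ⟨c⁻¹, (Cz z).inv_mem hc, by group⟩

theorem Sim.trans {f : G} (h : Sim z a e) (h' : Sim z e f) : Sim z a f := by
  obtain ⟨c, hc, rfl⟩ := h
  obtain ⟨d, hd, rfl⟩ := h'
  exact ⟨d * c, (Cz z).mul_mem hd hc, by group⟩

theorem Sim.root (h : Sim z a e) (h' : HasRoot z a) : HasRoot z e := by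
  obtain ⟨c, hc, rfl⟩ := h
  obtain ⟨y, hy, rfl⟩ := h'
  exact ⟨c * y * c⁻¹, (Cz z).mul_mem ((Cz z).mul_mem hc hy) ((Cz z).inv_mem hc), by group⟩

theorem Sim.perp (h : Sim z a e) (h' : HasPerp z a) : HasPerp z e := by
  obtain ⟨c, hc, rfl⟩ := h
  obtain ⟨y, hy, hya, hyy⟩ := h'
  refine ⟨c * y * c⁻¹, (Cz z).mul_mem ((Cz z).mul_mem hc hy) ((Cz z).inv_mem hc), ?_, ?_⟩
  · calc c * y * c⁻¹ * (c * a * c⁻¹) = c * (y * a) * c⁻¹ := by group
      _ = _ := by rw [hya]; group
  · calc c * y * c⁻¹ * (c * y * c⁻¹) = c * (y * y) * c⁻¹ := by group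
      _ = z := by rw [hyy, mem_Cz.1 hc]; group

theorem Sim.isK (h : Sim z a e) (h' : IsK z a) : IsK z e := by
  obtain ⟨c, -, rfl⟩ := h
  exact h'.conj c

theorem Sim.mul_z (h : Sim z a e) : Sim z (z * a) (z * e) := by
  obtain ⟨c, hc, rfl⟩ := h
  refine ⟨c, hc, ?_⟩
  calc c * (z * a) * c⁻¹ = c * z * a * c⁻¹ := by group
    _ = _ := by rw [mem_Cz.1 hc]; group

/-- The mirror of a conjugate. -/
theorem mirror (hg : g * z * g⁻¹ ∈ Cz z) (hne : g * z * g⁻¹ ≠ z) :
    g⁻¹ * z * g ∈ Cz z ∧ g⁻¹ * z * g ≠ z ∧ IsK z (g⁻¹ * z * g) := by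
  refine ⟨mem_Cz.2 ?_, fun h => hne ?_, g⁻¹, by group⟩
  · calc g⁻¹ * z * g * z = g⁻¹ * (z * (g * z * g⁻¹)) * g := by group
      _ = g⁻¹ * (g * z * g⁻¹ * z) * g := by rw [mem_Cz.1 hg]
      _ = z * (g⁻¹ * z * g) := by group
  · calc g * z * g⁻¹ = g * (g⁻¹ * z * g) * g⁻¹ := by rw [h]
      _ = z := by group

theorem root_of_perp (h : HasPerp z (g⁻¹ * z * g)) : HasRoot z (g * z * g⁻¹) := by
  obtain ⟨y, hy, hya, hyy⟩ := h
  refine ⟨g * y * g⁻¹, mem_Cz.2 ?_, ?_⟩
  · calc g * y * g⁻¹ * z = g * (y * (g⁻¹ * z * g)) * g⁻¹ := by group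
      _ = g * (g⁻¹ * z * g * y) * g⁻¹ := by rw [hya]
      _ = _ := by group
  · calc g * y * g⁻¹ * (g * y * g⁻¹) = g * (y * y) * g⁻¹ := by group
      _ = _ := by rw [hyy]

theorem perp_of_root (h : HasRoot z (g⁻¹ * z * g)) : HasPerp z (g * z * g⁻¹) := by
  obtain ⟨y, hy, hyy⟩ := h
  have e : g * (y * y) * g⁻¹ = z := by rw [hyy]; group
  refine ⟨g * y * g⁻¹, mem_Cz.2 ?_, ?_, ?_⟩
  · rw [← e]; group
  · calc g * y * g⁻¹ * (g * z * g⁻¹) = g * (y * z) * g⁻¹ := by group
      _ = _ := by rw [mem_Cz.1 hy]; group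
  · rw [← e]; group

/-- A conjugate whose mirror is similar gives a swapping element. -/
theorem exists_swap (h : Sim z (g * z * g⁻¹) e) (h' : Sim z (g⁻¹ * z * g) e) :
    ∃ k : G, k * z * k⁻¹ = e ∧ k * e * k⁻¹ = z := by
  obtain ⟨c, hc, hce⟩ := h
  obtain ⟨d, hd, hde⟩ := h'
  refine ⟨c * g * d⁻¹, ?_, ?_⟩
  · calc c * g * d⁻¹ * z * (c * g * d⁻¹)⁻¹ = c * g * (d⁻¹ * z) * d * g⁻¹ * c⁻¹ := by group
      _ = c * g * (z * d⁻¹) * d * g⁻¹ * c⁻¹ := by rw [mem_Cz.1 ((Cz z).inv_mem hd)]
      _ = c * (g * z * g⁻¹) * c⁻¹ := by group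
      _ = e := hce
  · calc c * g * d⁻¹ * e * (c * g * d⁻¹)⁻¹ = c * g * (d⁻¹ * e * d) * g⁻¹ * c⁻¹ := by group
      _ = c * g * (g⁻¹ * z * g) * g⁻¹ * c⁻¹ := by rw [← hde]; group
      _ = c * z * c⁻¹ := by group
      _ = z := by rw [mem_Cz.1 hc]; group

theorem card_map_conj (g x y : G) :
    Nat.card ↥(Cz (g * x * g⁻¹) ⊓ Cz (g * y * g⁻¹) : Subgroup G) = Nat.card ↥(Cz x ⊓ Cz y : Subgroup G) := by
  refine Eq.trans ?_ (Subgroup.card_map_of_injective (f := (MulAut.conj g).toMonoidHom) (MulAut.conj g).injective)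
  have key : ∀ u w, w ∈ Cz (g * u * g⁻¹) ↔ g⁻¹ * w * g ∈ Cz u := by
    intro u w
    rw [mem_Cz, mem_Cz]
    constructor
    · intro h
      calc g⁻¹ * w * g * u = g⁻¹ * (w * (g * u * g⁻¹)) * g := by group
        _ = _ := by rw [h]; group
    · intro h
      calc w * (g * u * g⁻¹) = g * (g⁻¹ * w * g * u) * g⁻¹ := by group
        _ = _ := by rw [h]; group
  refine congrArg (fun S : Subgroup G => Nat.card S) ?_
  ext w
  simp only [Subgroup.mem_map, Subgroup.mem_inf, key, MulEquiv.coe_toMonoidHom,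
    MulAut.conj_apply]
  constructor
  · exact fun h => ⟨g⁻¹ * w * g, h, by group⟩
  · rintro ⟨u, hu, rfl⟩
    simpa [mul_assoc] using hu

end Basic

theorem not_dvd_cent : ¬ 64 ∣ Nat.card ↥(Cz (evalW (repW true))) := by
  classical
  intro hdvd
  haveI : Fact (Nat.Prime 2) := ⟨Nat.prime_two⟩
  set t := evalW (repW true) with ht
  obtain ⟨K, hK⟩ := Sylow.exists_subgroup_card_pow_prime 2 (n := 6)
    (G := ↥(Cz t)) (show 2 ^ 6 ∣ _ from hdvd)
  set R : Subgroup G4 := K.map (Cz t).subtype with hR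
  have hRc : Nat.card R = 2 ^ (Nat.card G4).factorization 2 := by
    rw [hR, Subgroup.card_map_of_injective (Cz t).subtype_injective, hK, card_G4,
      show Nat.factorization 25920 2 = 6 from by
        rw [show (25920 : ℕ) = 2 ^ 6 * 405 from rfl, Nat.factorization_mul (by norm_num) (by norm_num),
          Finsupp.add_apply, Nat.Prime.factorization_pow Nat.prime_two, Finsupp.single_eq_same,
          Nat.factorization_eq_zero_of_not_dvd (by norm_num : ¬(2 ∣ 405))]]
  have hcomm : ∀ r ∈ R, r * t = t * r := by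
    rintro _ ⟨r, -, rfl⟩
    exact mem_Cz.1 r.2
  have htR : t ∈ R := by
    have hC : IsPGroup 2 ↥(Subgroup.zpowers t) := by
      refine IsPGroup.of_card (n := 1) ?_
      rw [Nat.card_zpowers, pow_one, orderOf_eq_prime_iff]
      refine ⟨by rw [pow_two]; exact rep_sq true, fun e => sing_facts.2.2.2.2.1 ?_⟩
      rw [← natL_evalW, ← natL_one, ← e]
      rfl
    have hn : Subgroup.zpowers t ≤ Subgroup.normalizer (R : Set G4) := by
      rw [Subgroup.zpowers_le, Subgroup.mem_normalizer_iff]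
      intro h
      constructor
      · intro hh
        rwa [← hcomm h hh, mul_inv_cancel_right]
      · intro hh
        have := hcomm _ hh
        have e : t * h * t⁻¹ = h := by
          rw [inv_mul_cancel_right] at this
          calc t * h * t⁻¹ = t * h * t⁻¹ * t * t⁻¹ := by group
            _ = t * h * t⁻¹ := by group
            _ = t⁻¹ * (t * (t * h * t⁻¹)) := by group
            _ = t⁻¹ * (t * h) := by rw [← this]
            _ = h := by group
        rwa [e] at hh
    have hsup : IsPGroup 2 ↥(Subgroup.zpowers t ⊔ R) :=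
      hC.to_sup_of_normal_right' (IsPGroup.of_card hRc) hn
    have := (Sylow.ofCard R hRc).is_maximal' hsup le_sup_right
    have h2 : Subgroup.zpowers t ⊔ R = R := this
    exact h2 ▸ Subgroup.mem_sup_left (Subgroup.mem_zpowers t)
  obtain ⟨hnd, hmul⟩ : (plist gL (sylPg gL)).Nodup ∧
      ∀ w ∈ sylPg gL, ∀ L ∈ plist gL (sylPg gL), comp (linW gL w) L ∈ plist gL (sylPg gL) := by
    have h := sylPg_ok.1
    simp only [Bool.and_eq_true, decide_eq_true_eq, List.all_eq_true, List.contains_iff_mem] at h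
    exact h
  obtain ⟨P, hP, hlist, -⟩ := natM.exists_pgrp hnd hmul
  have hPc : Nat.card P = 2 ^ (Nat.card G4).factorization 2 := by
    rw [← hRc, hP, sylPg_len.1, hR, Subgroup.card_map_of_injective (Cz t).subtype_injective, hK]
  obtain ⟨h, hh⟩ := MulAction.exists_smul_eq G4 (Sylow.ofCard R hRc) (Sylow.ofCard P hPc)
  have hPR : ∀ p ∈ P, ∃ r ∈ R, p = h * r * h⁻¹ := by
    intro p hp
    have h1 : p ∈ (h • Sylow.ofCard R hRc : Sylow 2 G4) := by rw [hh]; exact hp
    obtain ⟨r, hr, rfl⟩ := h1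
    exact ⟨r, hr, rfl⟩
  have hRP : h * t * h⁻¹ ∈ P := by
    have h1 : h * t * h⁻¹ ∈ (h • Sylow.ofCard R hRc : Sylow 2 G4) := ⟨t, htR, rfl⟩
    rw [hh] at h1
    exact h1
  have hsurj : ∀ L ∈ plist gL (sylPg gL), ∃ p ∈ P, natL p = L := by
    intro L hL
    have hlen : (plist gL (sylPg gL)).length = 64 := by
      have : ∀ l : List (List (Fin 5)), (plist gL l).length = 2 ^ l.length := by
        intro l
        induction l with
        | nil => rfl
        | cons w l ih => simp only [plist, List.length_append, List.length_map, List.length_cons, ih]; ring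
      rw [this, sylPg_len.1]
      rfl
    have hinj : Function.Injective fun p : P => (⟨natL p, List.mem_toFinset.2 (hlist p p.2)⟩ :
        {L // L ∈ (plist gL (sylPg gL)).toFinset}) := fun p q e =>
      Subtype.ext (natL_inj (congrArg Subtype.val e))
    have hb := (Nat.bijective_iff_injective_and_card _).2 ⟨hinj, by
      rw [hP, sylPg_len.1, Nat.card_eq_fintype_card, Fintype.card_coe, List.toFinset_card_of_nodup hnd, hlen]
      rfl⟩
    obtain ⟨p, hp⟩ := hb.2 ⟨L, List.mem_toFinset.2 hL⟩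
    exact ⟨p, p.2, congrArg Subtype.val hp⟩
  have hl : natL (h * t * h⁻¹) ∈ plist gL (sylPg gL) := hlist _ hRP
  have htest := List.all_eq_true.1 sylow_central _ hl
  have h1 : comp (natL (h * t * h⁻¹)) (natL (h * t * h⁻¹)) = idL := by
    rw [← natL_mul, show h * t * h⁻¹ * (h * t * h⁻¹) = h * (t * t) * h⁻¹ by group, rep_sq, mul_one,
      mul_inv_cancel, natL_one]
  have h2 : (plist gL (sylPg gL)).all (fun M =>
      decide (comp (natL (h * t * h⁻¹)) M = comp M (natL (h * t * h⁻¹)))) = true := by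
    rw [List.all_eq_true]
    intro M hM
    obtain ⟨p, hp, rfl⟩ := hsurj M hM
    obtain ⟨r, hr, rfl⟩ := hPR p hp
    rw [decide_eq_true_eq, ← natL_mul, ← natL_mul]
    congr 1
    calc h * t * h⁻¹ * (h * r * h⁻¹) = h * (t * r) * h⁻¹ := by group
      _ = h * (r * t) * h⁻¹ := by rw [hcomm r hr]
      _ = _ := by group
  have h3 : natL (h * t * h⁻¹) ≠ idL := by
    rw [← natL_one]
    intro e
    have : t = 1 := conj_eq_one_iff.1 (natL_inj e)
    apply sing_facts.2.2.2.2.1
    show linW gL (repW true) = idL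
    rw [← natL_evalW, ← ht, this, natL_one]
  change (!(decide (comp (natL (h * t * h⁻¹)) (natL (h * t * h⁻¹)) = idL) && _) ||
    decide (natL (h * t * h⁻¹) = idL) || _) = true at htest
  rw [h2, decide_eq_true h1, decide_eq_false h3] at htest
  simp only [Bool.and_self, Bool.not_true, Bool.false_or, List.any_eq_true, Bool.and_eq_true,
    beq_iff_eq] at htest
  obtain ⟨u, -, hu, hq⟩ := htest
  have hfix : app (linW gL [1, 3]) (app (natL h⁻¹) u) = app (natL h⁻¹) u := by
    show app (linW gL (repW true)) _ = _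
    rw [← natL_evalW, ← ht]
    conv_rhs => rw [← hu]
    rw [← app_comp, ← app_comp, ← natL_mul, ← natL_mul]
    congr 2
    group
  have := rep_fix_pair _ hfix
  rw [qq_natL, hq] at this
  exact Bool.noConfusion this

namespace Sp

variable {G : Type*} [Group G] {z : G} {Q : Subgroup G} {π : ↥(Cz z) →* G4} (T : Sp z Q π)
include T

/-- The representative over a class of involutions. -/
def rp (k b : Bool) : G := T.el 0 b (evalW (repW k))

/-- The representative of singular type. -/
def sg (b : Bool) : G := T.el 80 b (evalW (repW false))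

theorem den_rp (k b : Bool) : T.Den (repX k b) (T.rp k b) := T.den_word 0 b (repW k)

theorem j_el (v : V8) (b : Bool) : T.C.j v b = T.el v b 1 := by rw [el, map_one, mul_one]

theorem s_el (g : G4) : T.s g = T.el 0 false g := by rw [el, T.C.j_one, one_mul]

theorem s_conj (h g : G4) (v : V8) (b : Bool) :
    T.s h * T.el v b g * (T.s h)⁻¹ = T.el (app (natL h) v) b (h * g * h⁻¹) := by
  rw [el, el, ← T.act, map_mul, map_mul, map_inv]
  group

theorem j_conj (u v : V8) (b : Bool) (g : G4) :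
    ∃ d, T.C.j u false * T.el v b g * (T.C.j u false)⁻¹ = T.el (xr (xr u v) (app (natL g) u)) d g := by
  rw [T.C.j_inv, j_el, j_el, el_mul, el_mul]
  simp only [natL_one, id_app, one_mul, mul_one]
  exact ⟨_, rfl⟩

theorem z_el (v : V8) (b : Bool) (g : G4) : z * T.el v b g = T.el v (!b) g := by
  rw [el, el, ← mul_assoc, T.C.z_mul]

theorem z_rp (k b : Bool) : z * T.rp k b = T.rp k (!b) := T.z_el _ _ _

variable [Finite G] (H : Pre z Q π)
include H

theorem s_Lh (g : G4) : T.s g ∈ T.C.Lh H :=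
  ⟨T.mem g, fun v b => by rw [T.act, T.sec]⟩

theorem rp_mem (k b : Bool) : T.rp k b ∈ Cz z := T.el_mem H _ _ _

theorem rp_ne (k b : Bool) : T.rp k b ≠ z := by
  intro e
  have e' : T.el 0 b (evalW (repW k)) = T.el 0 true 1 := by
    rw [← T.j_el, T.C.j_z]; exact e
  have h := congrArg natL (T.el_inj H e').2.2
  rw [natL_evalW, natL_one] at h
  cases k
  · exact sing_facts.2.2.2.1 (by simpa [repW, linW, comp_id] using h)
  · exact sing_facts.2.2.2.2.1 h

/-- The lists are closed under the centraliser. -/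
theorem alist_conj {β : Bool} {c : G} (hc : c ∈ Cz z) :
    ∀ x ∈ AList β, ∀ d, T.Den x d → ∃ y ∈ AList β, T.Den y (c * d * c⁻¹) := by
  let M : Submonoid G :=
    { carrier := {c | ∀ x ∈ AList β, ∀ d, T.Den x d → ∃ y ∈ AList β, T.Den y (c * d * c⁻¹)}
      one_mem' := fun x hx d hd => ⟨x, hx, by rw [one_mul, inv_one, mul_one]; exact hd⟩
      mul_mem' := fun {a b} ha hb x hx d hd => by
        obtain ⟨y, hy, hy'⟩ := hb x hx d hd
        obtain ⟨w, hw, hw'⟩ := ha y hy _ hy'
        exact ⟨w, hw, by rwa [show a * b * d * (a * b)⁻¹ = a * (b * d * b⁻¹) * a⁻¹ by group]⟩ }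
  have hmem : ∀ l t, memX l t = true → t ∈ l := by
    intro l t h
    simp only [memX, List.any_eq_true, Bool.and_eq_true, decide_eq_true_eq] at h
    obtain ⟨y, hy, -, rfl⟩ := h
    exact hy
  have step : ∀ x ∈ AList β, (∀ k, cjX [k] 0 x ∈ AList β) ∧ ∀ i, cjX [] (un i) x ∈ AList β := by
    intro x hx
    have h := List.all_eq_true.1 (alist_closed β) x hx
    simp only [Bool.and_eq_true, List.all_eq_true, List.mem_finRange, forall_const] at h
    exact ⟨fun k => hmem _ _ (h.1 k), fun i => hmem _ _ (h.2 i)⟩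
  have hgen : ∀ k, T.s (gen k) ∈ M := fun k x hx d hd => by
    refine ⟨_, (step x hx).1 k, ?_⟩
    have h := T.den_cjX [k] 0 hd
    rwa [evalW_single, ← T.s_el, T.C.j_one, mul_one] at h
  have hun : ∀ i, T.C.j (un i) false ∈ M := fun i x hx d hd => by
    refine ⟨_, (step x hx).2 i, ?_⟩
    have h := T.den_cjX [] (un i) hd
    rwa [show evalW [] = 1 from rfl, ← T.j_el, T.C.j_one, one_mul] at h
  have hzM : z ∈ M := fun x hx d hd => ⟨x, hx, by
    rwa [← mem_Cz.1 (T.den_mem H hd), mul_inv_cancel_right]⟩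
  have hj : ∀ v b, T.C.j v b ∈ M := by
    have hbit : ∀ v b, T.C.j v b ∈ M → ∀ b', T.C.j v b' ∈ M := by
      intro v b h b'
      by_cases e : b' = b
      · exact e ▸ h
      · have := M.mul_mem hzM h
        rw [T.C.z_mul] at this
        cases b <;> cases b' <;> first | exact absurd rfl e | exact this
    have key : ∀ l : List (Fin 8), T.C.j ((l.map un).foldr xr 0) false ∈ M := by
      intro l
      induction l with
      | nil => rw [List.map_nil, List.foldr_nil, T.C.j_one]; exact M.one_mem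
      | cons i l ih =>
        have := M.mul_mem (hun i) ih
        rw [T.C.mul] at this
        exact hbit _ _ this false
    intro v b
    have := key ((List.finRange 8).filter fun i => cb v i.1)
    rw [unit_span] at this
    exact hbit _ _ this b
  have hs : ∀ g, T.s g ∈ M := by
    intro g
    have hg : g ∈ Subgroup.closure (Set.range gen) := by rw [gen_top]; exact Subgroup.mem_top g
    rw [← Subgroup.mem_toSubmonoid, Subgroup.closure_toSubmonoid_of_finite] at hg
    induction hg using Submonoid.closure_induction with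
    | mem x hx => obtain ⟨k, rfl⟩ := hx; exact hgen k
    | one => rw [map_one]; exact M.one_mem
    | mul x y _ _ hx hy => rw [map_mul]; exact M.mul_mem hx hy
  obtain ⟨v, b, g, rfl⟩ := T.el_surj H hc
  exact M.mul_mem (hj v b) (hs g)

/-- Similarity to a representative is membership in the list. -/
theorem sim_iff {a : G} {b : Bool} : Sim z a (T.rp false b) ↔ ∃ x ∈ AList b, T.Den x a := by
  constructor
  · intro h
    obtain ⟨c, hc, hca⟩ := h.symm
    obtain ⟨y, hy, hy'⟩ := T.alist_conj H hc _ (List.contains_iff_mem.1 (alist_base b).1) _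
      (T.den_rp false b)
    exact ⟨y, hy, hca ▸ hy'⟩
  · rintro ⟨x, hx, hd⟩
    simp only [alist_def, List.mem_flatMap, List.mem_map] at hx
    obtain ⟨w, -, u, -, rfl⟩ := hx
    have e := T.den_fun hd (T.den_cjX w u (T.den_rp false b))
    exact Sim.symm ⟨_, (Cz z).mul_mem (T.el_mem H _ _ _) (H.QC (T.C.mem _ _)), e.symm⟩

/-- The shapes of a conjugate. -/
theorem shapes {a : G} (ha : a ∈ Cz z) (hK : IsK z a) (hne : a ≠ z) :
    ∃ b, Sim z a (T.rp false b) ∨ Sim z a (T.rp true b) ∨ Sim z a (T.sg b) := by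
  obtain ⟨c, hc, k, v, b, he, hfix, hq⟩ := T.C.to_rep H ha hK hne (r := fun k => T.s (evalW (repW k)))
    fun k => ⟨T.s_Lh H _, T.sec _⟩
  have hq' : qq bA v = false := by
    rw [← map_mul, rep_sq, map_one, mul_one, ← T.C.j_one] at hq
    exact (T.C.inj _ _ _ _ hq).2
  have base : Sim z a (T.el v b (evalW (repW k))) := ⟨c, hc, he⟩
  have move : ∀ u, ∃ d, Sim z a (T.el (xr (xr u v) (app (linW gL (repW k)) u)) d (evalW (repW k))) := by
    intro u
    obtain ⟨d, hd⟩ := T.j_conj u v b (evalW (repW k))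
    rw [natL_evalW] at hd
    exact ⟨d, base.trans ⟨_, H.QC (T.C.mem _ _), hd⟩⟩
  cases k
  · have e1 : ∀ u, app (linW gL (repW false)) u = app (gL 1) u := sing_facts.2.2.2.2.2
    rw [e1] at hfix
    rcases norm_trans v hfix hq' with ⟨u, hu⟩ | hv
    · obtain ⟨d, hd⟩ := move u
      rw [e1, hu] at hd
      exact ⟨d, Or.inl hd⟩
    · obtain ⟨w, hw, u, hu⟩ := sing_base v hv
      obtain ⟨d, hd⟩ := move u
      rw [e1, ← hu] at hd
      refine ⟨d, Or.inr (Or.inr (hd.trans (Sim.symm ⟨T.s (evalW w), T.mem _, ?_⟩)))⟩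
      rw [Sp.sg, T.s_conj, natL_evalW, ← invW_eval, ← evalW_append, ← evalW_append]
      congr 1
      refine evalW_eq ?_
      show linW gL (w ++ [1] ++ invW w) = linW gL [1]
      rw [singW_cent w hw]
      exact (comp_id _).symm
  · obtain ⟨u, hu⟩ := norm_pair v hfix
    obtain ⟨d, hd⟩ := move u
    rw [show repW true = [1, 3] from rfl, hu] at hd
    exact ⟨d, Or.inr (Or.inl hd)⟩

theorem perp_trans {v : V8} (b : Bool) (hv : app (gL 1) v = v) :
    HasPerp z (T.el v b (evalW (repW false))) := by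
  obtain ⟨u, hu, hq, huv⟩ := fix_witness v hv
  refine ⟨T.C.j u false, H.QC (T.C.mem _ _), ?_, by rw [T.C.sq, hq, T.C.j_z]⟩
  have h1 : T.s (evalW (repW false)) * T.C.j u false = T.C.j u false * T.s (evalW (repW false)) := by
    rw [← mul_inv_eq_iff_eq_mul, T.act, natL_evalW, sing_facts.2.2.2.2.2, hu]
  calc T.C.j u false * T.el v b (evalW (repW false))
      = T.C.j u false * T.C.j v b * T.s (evalW (repW false)) := by rw [el, mul_assoc]
    _ = T.C.j v b * (T.C.j u false * T.s (evalW (repW false))) := by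
      rw [(T.C.comm_iff u v false b).2 huv, mul_assoc]
    _ = _ := by rw [← h1, el, mul_assoc]

theorem perp_rp (b : Bool) : HasPerp z (T.rp false b) := T.perp_trans H b (app_zero _)

theorem perp_sg (b : Bool) : HasPerp z (T.sg b) := T.perp_trans H b sing_facts.1

theorem no_perp_pair (b : Bool) : ¬ HasPerp z (T.rp true b) := by
  rintro ⟨y, hy, hya, hyy⟩
  obtain ⟨w, d, h, rfl⟩ := T.el_surj H hy
  rw [Sp.rp, T.el_mul, T.el_mul] at hya
  have hw := (T.el_inj H hya).1
  rw [app_zero, xr_zero, zero_xr, natL_evalW] at hw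
  rw [T.el_mul] at hyy
  replace hyy := hyy.trans (T.C.j_z.symm.trans (T.j_el 0 true))
  obtain ⟨h1, h2, -⟩ := T.el_inj H hyy
  rw [← xr_eq_zero.1 h1, Bool.xor_self, Bool.false_xor] at h2
  exact Bool.noConfusion ((rep_fix_pair w hw.symm).symm.trans h2)

theorem root_rp (b : Bool) : HasRoot z (T.rp false b) := by
  obtain ⟨h1, h2, -⟩ := root_facts
  cases b
  · exact ⟨_, T.el_mem H _ _ _, T.den_fun (h1 ▸ T.den_mul (T.den_word _ _ _) (T.den_word _ _ _))
      (T.den_rp false false)⟩
  · exact ⟨_, T.el_mem H _ _ _, T.den_fun (h2 ▸ T.den_mul (T.den_word _ _ _) (T.den_word _ _ _))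
      (T.den_rp false true)⟩

theorem root_pair : HasRoot z (T.rp true false) :=
  ⟨_, T.el_mem H _ _ _, T.den_fun (root_facts.2.2 ▸ T.den_mul (T.den_word _ _ _) (T.den_word _ _ _))
    (T.den_rp true false)⟩

theorem no_root_sing (b : Bool) : ¬ HasRoot z (T.sg b) := by
  rintro ⟨y, hy, hyy⟩
  obtain ⟨w, d, h, rfl⟩ := T.el_surj H hy
  rw [Sp.sg, T.el_mul] at hyy
  obtain ⟨hv, -, hh⟩ := T.el_inj H hyy
  have ho : orderOf h = 2 ^ 2 := by
    refine orderOf_eq_prime_pow (p := 2) (n := 1) ?_ ?_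
    · rw [pow_one, pow_two, hh]
      intro e
      have := congrArg natL e
      rw [natL_evalW, natL_one] at this
      exact sing_facts.2.2.2.1 (by simpa [repW, linW, comp_id] using this)
    · rw [show (2 : ℕ) ^ (1 + 1) = 2 * 2 from rfl, pow_mul, pow_two h, hh, pow_two, rep_sq]
  obtain ⟨k, hk⟩ := natM.conj_into (Or.inl rfl) (n := 2) ho
  change natL (k * h * k⁻¹) ∈ _ at hk
  have ht := List.all_eq_true.1 root_sing _ hk
  have hsq : comp (natL (k * h * k⁻¹)) (natL (k * h * k⁻¹)) =
      natL (k * evalW (repW false) * k⁻¹) := by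
    rw [← natL_mul, ← hh]; congr 1; group
  set S := natL (k * evalW (repW false) * k⁻¹) with hS
  have hSk : ∀ u, app S (app (natL k) u) = app (natL k) (app (gL 1) u) := by
    intro u
    rw [hS, ← app_comp, ← natL_mul, inv_mul_cancel_right, natL_mul, app_comp, natL_evalW,
      sing_facts.2.2.2.2.2]
  have hback : ∀ u, app (natL k) (app (natL k⁻¹) u) = u := fun u => by
    rw [← app_comp, ← natL_mul, mul_inv_cancel, natL_one, id_app]
  have hback' : ∀ u, app (natL k⁻¹) (app (natL k) u) = u := fun u => by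
    rw [← app_comp, ← natL_mul, inv_mul_cancel, natL_one, id_app]
  have hne : S ≠ idL := by
    intro e
    have := hSk 4
    rw [e, id_app, move_four.1] at this
    have h4 := congrArg (app (natL k⁻¹)) this
    rw [hback', hback'] at h4
    exact absurd h4 (by decide)
  have hS2 : comp S S = idL := by
    rw [hS, ← natL_mul]
    rw [show k * evalW (repW false) * k⁻¹ * (k * evalW (repW false) * k⁻¹) =
      k * (evalW (repW false) * evalW (repW false)) * k⁻¹ by group, rep_sq, mul_one, mul_inv_cancel,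
      natL_one]
  have hcnt : ((List.finRange 256).filter fun u => app S u == u).length = 64 := by
    rw [len_filter, ← trans_count, len_filter]
    refine Nat.card_congr
      { toFun := fun u => ⟨app (natL k⁻¹) u.1, ?_⟩
        invFun := fun u => ⟨app (natL k) u.1, ?_⟩
        left_inv := fun u => Subtype.ext (hback u.1)
        right_inv := fun u => Subtype.ext (hback' u.1) }
    · have := u.2
      rw [beq_iff_eq] at this ⊢
      have h1 := hSk (app (natL k⁻¹) u.1)
      rw [hback, this] at h1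
      have h2 := congrArg (app (natL k⁻¹)) h1
      rw [hback'] at h2
      exact h2.symm
    · have := u.2
      rw [beq_iff_eq] at this ⊢
      rw [hSk, this]
  simp only [hsq, hne, hS2, hcnt, decide_true, decide_false, Bool.not_true, Bool.false_or,
    Bool.or_eq_true, List.all_eq_true, List.any_eq_true, beq_iff_eq, bne_iff_ne] at ht
  rcases ht with ht | ht
  · exact absurd ht (by norm_num)
  have hx : xr (app (natL k) w) (app (natL (k * h * k⁻¹)) (app (natL k) w)) = app (natL k) 80 := by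
    rw [← hv, app_xr, ← app_comp, ← natL_mul, inv_mul_cancel_right, natL_mul, app_comp]
  have := ht (app (natL k) w) (List.mem_finRange _)
  rw [hx, hSk, sing_facts.1, qq_natL, sing_facts.2.1] at this
  rcases this with (h1 | h1) | ⟨u, -, hu⟩
  · exact h1 rfl
  · exact Bool.noConfusion h1
  · refine sing_facts.2.2.1 (app (natL k⁻¹) u) ?_
    have h1 := hSk (app (natL k⁻¹) u)
    rw [hback] at h1
    rw [← hback' 80, hu, app_xr, h1, hback']

/-- The centraliser of a pair type representative has a small Sylow subgroup. -/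
theorem card_pair (b : Bool) : ¬ 2 ^ 11 ∣ Nat.card ↥(Cz z ⊓ Cz (T.rp true b) : Subgroup G) := by
  classical
  set a := T.rp true b with ha
  set D := Cz z ⊓ Cz a with hD
  let ρ : ↥D →* G4 := π.comp (Subgroup.inclusion inf_le_left)
  have hρ : ∀ x : D, ρ x = img z π (x : G) := fun x => by
    rw [img, dif_pos (show (x : G) ∈ Cz z from x.2.1)]
    rfl
  have hker : ∀ x : ρ.ker, ((x : D) : G) ∈ Q := fun x =>
    (H.img_eq_one (x : D).2.1).1 (by rw [← hρ]; exact x.2)
  have h32 : Nat.card ρ.ker ≤ 32 := by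
    have hc : Nat.card {u : V8 // (app (linW gL [1, 3]) u == u) = true} = 16 := by
      rw [← len_filter]; exact pair_fix
    have key : ∀ x : ρ.ker, ∃ p : {u : V8 // (app (linW gL [1, 3]) u == u) = true} × Bool,
        T.C.j p.1.1 p.2 = ((x : D) : G) := by
      intro x
      obtain ⟨v, d, hvd⟩ := T.C.surj _ (hker x)
      refine ⟨(⟨v, ?_⟩, d), hvd⟩
      have hcom := mem_Cz.1 (x : D).2.2
      rw [← hvd, ha, Sp.rp, T.j_el, T.el_mul, T.el_mul] at hcom
      have h1 := (T.el_inj H hcom).1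
      rw [app_zero, xr_zero, zero_xr, natL_evalW] at h1
      exact beq_iff_eq.2 h1.symm
    choose f hf using key
    have hinj : Function.Injective f := fun x y e => by
      apply Subtype.ext; apply Subtype.ext
      rw [← hf x, ← hf y, e]
    refine (Nat.card_le_card_of_injective f hinj).trans ?_
    rw [Nat.card_prod, hc, Nat.card_eq_fintype_card, Fintype.card_bool]
  have hdvd : Nat.card ρ.ker ∣ 2 ^ 9 := by
    have h1 : (ρ.ker.map D.subtype) ≤ Q := by
      rintro _ ⟨x, hx, rfl⟩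
      exact hker ⟨x, hx⟩
    have := Subgroup.card_dvd_of_le h1
    rwa [Subgroup.card_map_of_injective D.subtype_injective, H.card,
      show 512 = 2 ^ 9 from rfl] at this
  have hk : Nat.card ρ.ker ∣ 32 := by
    obtain ⟨m, -, hm⟩ := (Nat.dvd_prime_pow Nat.prime_two).1 hdvd
    rw [hm] at h32 ⊢
    rw [show 32 = 2 ^ 5 from rfl] at h32 ⊢
    exact Nat.pow_dvd_pow 2 ((Nat.pow_le_pow_iff_right (by norm_num)).1 h32)
  intro h
  apply not_dvd_cent
  have hle : ρ.range ≤ Cz (evalW (repW true)) := by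
    rintro _ ⟨x, rfl⟩
    refine mem_Cz.2 ?_
    rw [hρ, ← T.el_img H 0 b (evalW (repW true)), ← H.img_mul x.2.1 (T.el_mem H _ _ _),
      ← H.img_mul (T.el_mem H _ _ _) x.2.1]
    exact congrArg _ (mem_Cz.1 x.2.2)
  refine Nat.dvd_trans ?_ (Subgroup.card_dvd_of_le hle)
  rw [← Subgroup.index_ker]
  rw [← Subgroup.card_mul_index ρ.ker] at h
  refine (Nat.mul_dvd_mul_iff_left (by norm_num : (0 : ℕ) < 32)).1 ?_
  exact h.trans (Nat.mul_dvd_mul_right hk _)

/-- The centraliser of a singular type representative has a large Sylow subgroup. -/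
theorem card_sing (b : Bool) : 2 ^ 12 ∣ Nat.card ↥(Cz z ⊓ Cz (T.sg b) : Subgroup G) := by
  classical
  set a := T.sg b with ha
  set D := Cz z ⊓ Cz a with hD
  let ρ : ↥D →* G4 := π.comp (Subgroup.inclusion inf_le_left)
  have hρ : ∀ x : D, ρ x = img z π (x : G) := fun x => by
    rw [img, dif_pos (show (x : G) ∈ Cz z from x.2.1)]
    rfl
  have hker : ∀ x : ρ.ker, ((x : D) : G) ∈ Q := fun x =>
    (H.img_eq_one (x : D).2.1).1 (by rw [← hρ]; exact x.2)
  have h64 : 64 ∣ Nat.card ρ.ker := by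
    have h1 : (ρ.ker.map D.subtype) ≤ Q := by
      rintro _ ⟨x, hx, rfl⟩
      exact hker ⟨x, hx⟩
    have hdvd := Subgroup.card_dvd_of_le h1
    rw [Subgroup.card_map_of_injective D.subtype_injective, H.card,
      show 512 = 2 ^ 9 from rfl] at hdvd
    obtain ⟨m, -, hm⟩ := (Nat.dvd_prime_pow Nat.prime_two).1 hdvd
    let U := {u : V8 // (app (gL 1) u == u && !bb bA u 80) = true} × Bool
    have hU : Nat.card U = 64 := by
      rw [Nat.card_prod, ← len_filter, sing_ker, Nat.card_eq_fintype_card, Fintype.card_bool]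
    have hmem : ∀ p : U, T.C.j p.1.1 p.2 ∈ D := by
      rintro ⟨⟨u, hu⟩, d⟩
      simp only [Bool.and_eq_true, beq_iff_eq, Bool.not_eq_true'] at hu
      refine ⟨H.QC (T.C.mem _ _), mem_Cz.2 ?_⟩
      rw [ha, Sp.sg, el]
      have h2 : T.s (evalW (repW false)) * T.C.j u d = T.C.j u d * T.s (evalW (repW false)) := by
        rw [← mul_inv_eq_iff_eq_mul, T.act, natL_evalW, sing_facts.2.2.2.2.2, hu.1]
      rw [← mul_assoc, (T.C.comm_iff u 80 d b).2 hu.2, mul_assoc, ← h2, mul_assoc]
    have hkm : ∀ p : U, (⟨_, hmem p⟩ : D) ∈ ρ.ker := fun p => by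
      rw [MonoidHom.mem_ker, hρ]
      exact H.img_Q (T.C.mem _ _)
    have := Nat.card_le_card_of_injective (fun p : U => (⟨_, hkm p⟩ : ρ.ker)) fun p q e => by
      have e' : T.C.j p.1.1 p.2 = T.C.j q.1.1 q.2 :=
        congrArg (fun x : ρ.ker => ((x : D) : G)) e
      obtain ⟨e1, e2⟩ := T.C.inj _ _ _ _ e'
      exact Prod.ext (Subtype.ext e1) e2
    rw [hU, hm, show 64 = 2 ^ 6 from rfl] at this
    rw [hm, show 64 = 2 ^ 6 from rfl]
    exact Nat.pow_dvd_pow 2 ((Nat.pow_le_pow_iff_right (by norm_num)).1 this)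
  have hr : 64 ∣ Nat.card ρ.range := by
    have h := sing_grp
    simp only [Bool.and_eq_true, decide_eq_true_eq, List.all_eq_true, List.contains_iff_mem] at h
    obtain ⟨P, hP, -, hleast⟩ := natM.exists_pgrp h.1 h.2
    have hle : P ≤ ρ.range := by
      refine hleast _ fun w hw => ?_
      obtain ⟨⟨u, w'⟩, hp, rfl⟩ := List.mem_map.1 hw
      have hcom := List.all_eq_true.1 (sing_gen b) _ hp
      have hd : T.Den (xw 80 b [1]) a := T.den_word 80 b (repW false)
      have hmem : T.el u false (evalW w') ∈ D :=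
        ⟨T.el_mem H _ _ _, mem_Cz.2 ((T.den_com H (T.den_word _ _ _) hd).1 hcom)⟩
      exact ⟨⟨_, hmem⟩, by rw [hρ]; exact T.el_img H _ _ _⟩
    have := Subgroup.card_dvd_of_le hle
    rw [hP] at this
    exact this
  rw [← Subgroup.card_mul_index ρ.ker, Subgroup.index_ker]
  exact Nat.dvd_trans (dvd_of_eq (show 2 ^ 12 = 64 * 64 by norm_num)) (Nat.mul_dvd_mul h64 hr)

/-- No conjugate is of singular type. -/
theorem no_sing {g : G} (hg : g * z * g⁻¹ ∈ Cz z) (hne : g * z * g⁻¹ ≠ z) (b : Bool) :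
    ¬ Sim z (g * z * g⁻¹) (T.sg b) := by
  intro hs
  obtain ⟨hm, hm', hmK⟩ := mirror hg hne
  have bad : HasPerp z (g⁻¹ * z * g) → False := fun h => T.no_root_sing H b (hs.root (root_of_perp h))
  obtain ⟨b', h | h | h⟩ := T.shapes H hm hmK hm'
  · exact bad (h.symm.perp (T.perp_rp H b'))
  · have e1 : ∀ {x y : G}, Sim z x y → Nat.card ↥(Cz z ⊓ Cz y : Subgroup G) = Nat.card ↥(Cz z ⊓ Cz x : Subgroup G) := by
      rintro x _ ⟨c, hc, rfl⟩
      have hz : c * z * c⁻¹ = z := by rw [mem_Cz.1 hc]; group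
      have := card_map_conj c z x
      rwa [hz] at this
    apply T.card_pair H b'
    have h2 := card_map_conj g (g⁻¹ * z * g) z
    rw [show g * (g⁻¹ * z * g) * g⁻¹ = z by group, inf_comm (Cz (g⁻¹ * z * g))] at h2
    rw [e1 h, ← h2, ← e1 hs]
    exact (Nat.pow_dvd_pow 2 (by norm_num)).trans (T.card_sing H b)
  · exact bad (h.symm.perp (T.perp_sg H b'))

/-- Conjugates are of transvection type or of the second pair type. -/
theorem shapes_two {g : G} (hg : g * z * g⁻¹ ∈ Cz z) (hne : g * z * g⁻¹ ≠ z) :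
    (∃ b, Sim z (g * z * g⁻¹) (T.rp false b)) ∨ Sim z (g * z * g⁻¹) (T.rp true true) := by
  obtain ⟨b, h | h | h⟩ := T.shapes H hg ⟨g, rfl⟩ hne
  · exact Or.inl ⟨b, h⟩
  · cases b
    swap
    · exact Or.inr h
    exfalso
    obtain ⟨hm, hm', hmK⟩ := mirror hg hne
    have hg' : g⁻¹ * z * g⁻¹⁻¹ = g⁻¹ * z * g := by rw [inv_inv]
    obtain ⟨b', h' | h' | h'⟩ := T.shapes H hm hmK hm'
    · exact T.no_perp_pair H false (h.perp (perp_of_root (h'.symm.root (T.root_rp H b'))))
    · have hp : HasPerp z (g⁻¹ * z * g⁻¹⁻¹) := perp_of_root (by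
        rw [inv_inv]; exact h.symm.root (T.root_pair H))
      rw [hg'] at hp
      exact T.no_perp_pair H b' (h'.perp hp)
    · exact T.no_sing H (g := g⁻¹) (by rw [hg']; exact hm) (by rw [hg']; exact hm') b' (by rw [hg']; exact h')
  · exact absurd h (T.no_sing H hg hne b)

end Sp

end CfsgLib.USixType
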