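import Cfsg.Agent.Lib.USixType.Lift
import Mathlib.GroupTheory.Transfer

/-!
The extension by the centre splits, unless `z` is isolated.
-/

set_option autoImplicit false
set_option linter.unusedSectionVars false
set_option linter.style.haveILetI false
set_option maxRecDepth 100000

open Cfsg CfsgLib.Extraspecial

namespace CfsgLib.USixType

theorem rep_fix_trans : ∀ v : V8, app (gL 1) v = v →
    bb bA 5 v = false ∧ (qq bA v = false →
      (∃ u : V8, app (gL 1) u = u ∧ bb bA u v = true) ∨ app (gL 3) v = v) := by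
  decide +kernel

theorem rep_fix_pair : ∀ v : V8, app (linW gL [1, 3]) v = v → qq bA v = false := by decide +kernel

theorem move_four : app (gL 1) 4 = 1 ∧ xr 4 1 = 5 := by decide +kernel

/-- The generators of the complement: four transvections and two Levi elements. -/
def sixW (i : Fin 6) : List (Fin 5) :=
  ![fW 0, levW 0 ++ fW 0 ++ invW (levW 0), levW 1 ++ fW 0 ++ invW (levW 1),
    levW 0 ++ levW 1 ++ fW 0 ++ invW (levW 0 ++ levW 1), levW 0, levW 1] i

theorem six_sq : ∀ i, linW gL (sixW i ++ sixW i) = idL := by decide +kernel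

theorem six_comm : ∀ i j : Fin 6, (i.1 < 4 ∧ j.1 < 4) ∨ (4 ≤ i.1 ∧ 4 ≤ j.1) →
    linW gL (sixW i ++ sixW j) = linW gL (sixW j ++ sixW i) := by
  decide +kernel

/-- Bit exponents. -/
def bit6 (e : Fin 64) (i : ℕ) : Bool := e.1.testBit i

/-- The word of an exponent vector. -/
def wordE (e : Fin 64) : List (Fin 5) :=
  (if bit6 e 0 then sixW 0 else []) ++ ((if bit6 e 1 then sixW 1 else []) ++
    ((if bit6 e 2 then sixW 2 else []) ++ ((if bit6 e 3 then sixW 3 else []) ++
      ((if bit6 e 4 then sixW 4 else []) ++ (if bit6 e 5 then sixW 5 else [])))))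

theorem wordE_inj : ∀ e : Fin 64, linW gL (wordE e) = idL → e = 0 := by decide +kernel

/-- Left multiplication on exponent vectors. -/
def stepE (k : Fin 6) (e : Fin 64) : Fin 64 :=
  let b := fun i => bit6 e i
  let f := fun (a0 a1 a2 a3 a4 a5 : Bool) =>
    Fin.ofNat 64 (a0.toNat + 2 * a1.toNat + 4 * a2.toNat + 8 * a3.toNat + 16 * a4.toNat + 32 * a5.toNat)
  ![f (!b 0) (b 1) (b 2) (b 3) (b 4) (b 5), f (b 0) (!b 1) (b 2) (b 3) (b 4) (b 5),
    f (b 0) (b 1) (!b 2) (b 3) (b 4) (b 5), f (b 0) (b 1) (b 2) (!b 3) (b 4) (b 5),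
    f (b 1) (b 0) (b 3) (b 2) (!b 4) (b 5), f (b 2) (b 3) (b 0) (b 1) (b 4) (!b 5)] k

theorem stepE_bits : ∀ e : Fin 64, ∀ i : Fin 6,
    (∀ k : Fin 4, bit6 (stepE k.castSucc.castSucc e) i.1 = (bit6 e i.1 ^^ decide (i.1 = k.1))) ∧
    bit6 (stepE 4 e) i.1 = (bit6 e (![1, 0, 3, 2, 4, 5] i) ^^ decide (i = 4)) ∧
    bit6 (stepE 5 e) i.1 = (bit6 e (![2, 3, 0, 1, 4, 5] i) ^^ decide (i = 5)) := by
  decide +kernel

/-- Being a conjugate. -/
def IsK {G : Type*} [Group G] (z x : G) : Prop := ∃ g, g * z * g⁻¹ = x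

theorem IsK.conj {G : Type*} [Group G] {z x : G} (h : IsK z x) (c : G) : IsK z (c * x * c⁻¹) := by
  obtain ⟨g, rfl⟩ := h
  exact ⟨c * g, by group⟩

namespace Co

variable {G : Type*} [Group G] [Finite G] {z : G} {Q : Subgroup G} {π : ↥(Cz z) →* G4}
  (C : Co z Q π bA gL) (H : Pre z Q π)
include C H

/-- A conjugate of the involution in the centraliser, moved over a representative. -/
theorem to_rep {a : G} (ha : a ∈ Cz z) (hK : IsK z a) (hne : a ≠ z) {r : Bool → G}
    (hr : ∀ k, r k ∈ C.Lh H ∧ img z π (r k) = evalW (repW k)) :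
    ∃ c ∈ Cz z, ∃ k v b, c * a * c⁻¹ = C.j v b * r k ∧
      app (linW gL (repW k)) v = v ∧ C.j 0 (qq bA v) * (r k * r k) = 1 := by
  obtain ⟨g, hg⟩ := hK
  obtain ⟨ho, -⟩ := C.img_conjugate H ha hg (Or.inl ⟨rfl, rfl⟩) hne
  obtain ⟨k, h, hh⟩ := inv_class ho
  obtain ⟨c, hc, hci⟩ := H.lift h⁻¹
  have hca : c * a * c⁻¹ ∈ Cz z := (Cz z).mul_mem ((Cz z).mul_mem hc ha) ((Cz z).inv_mem hc)
  have hi : img z π (c * a * c⁻¹) = evalW (repW k) := by
    rw [H.img_conj hc ha, hci, hh]; group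
  have hq : c * a * c⁻¹ * (r k)⁻¹ ∈ Q := by
    refine (H.img_eq_one ((Cz z).mul_mem hca ((Cz z).inv_mem (hr k).1.1))).1 ?_
    rw [H.img_mul hca ((Cz z).inv_mem (hr k).1.1), H.img_inv (hr k).1.1, hi, (hr k).2, mul_inv_cancel]
  obtain ⟨v, b, hvb⟩ := C.surj _ hq
  have he : c * a * c⁻¹ = C.j v b * r k := by rw [hvb]; group
  have hsq : C.j v b * r k * (C.j v b * r k) = 1 := by
    rw [← he, show c * a * c⁻¹ * (c * a * c⁻¹) = c * (a * a) * c⁻¹ by group, ← hg, (H.st.conj g).zz]
    group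
  rw [show C.j v b * r k * (C.j v b * r k) = C.j v b * (r k * C.j v b * (r k)⁻¹) * (r k * r k) by group,
    C.Lh_conj H (hr k).1, (hr k).2, natL_evalW, C.mul] at hsq
  set L := linW gL (repW k)
  have hrr : r k * r k = 1 ∨ r k * r k = z := C.Lh_ker H ((C.Lh H).mul_mem (hr k).1 (hr k).1) (by
    rw [H.img_mul (hr k).1.1 (hr k).1.1, (hr k).2, ← evalW_append]
    have : ∀ k, linW gL (repW k ++ repW k) = linW gL [] := by decide +kernel
    exact (evalW_eq (this k)).trans rfl)
  have hfix : app L v = v := by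
    obtain ⟨d, hd⟩ : ∃ d, C.j 0 d = (r k * r k)⁻¹ := by
      rcases hrr with e | e <;> rw [e]
      · exact ⟨false, by rw [C.j_one, inv_one]⟩
      · exact ⟨true, by rw [C.j_z, H.st.inv_z]⟩
    rw [mul_eq_one_iff_eq_inv, ← hd] at hsq
    exact (xr_eq_zero.1 (C.inj _ _ _ _ hsq).1).symm
  refine ⟨c, hc, k, v, b, he, hfix, ?_⟩
  rw [hfix, xr_self, Bool.xor_self, Bool.false_xor] at hsq
  exact hsq

/-- Anticommuting lifts of two commuting transvections isolate the involution. -/
theorem isolated_of_anti {a1 a3 : G} (h1 : a1 ∈ C.Lh H) (h3 : a3 ∈ C.Lh H) (i1 : img z π a1 = gen 1)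
    (i3 : img z π a3 = gen 3) (hanti : a3 * a1 = z * (a1 * a3)) (g : G) (hg : g * z * g⁻¹ ∈ Cz z) :
    g * z * g⁻¹ = z := by
  by_contra hne
  have s1 : a1 * a1 = 1 := C.transvection_sq H h1 i1
  have s3 : a3 * a3 = 1 := by
    refine C.Lh_sq_transfer H h1 h3 (h := evalW (fiveW 1)) ?_ (Or.inl rfl) s1
    rw [i1, i3, ← evalW_single 1, ← invW_eval, ← evalW_append, ← evalW_append]
    exact (evalW_eq fW_first.2).trans (evalW_single 3)
  set r : Bool → G := fun k => cond k (a1 * a3) a1 with hr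
  have hrep : ∀ k, r k ∈ C.Lh H ∧ img z π (r k) = evalW (repW k) := fun k => by
    cases k
    · exact ⟨h1, i1.trans (evalW_single 1).symm⟩
    · refine ⟨(C.Lh H).mul_mem h1 h3, ?_⟩
      show img z π (a1 * a3) = evalW [1, 3]
      rw [H.img_mul h1.1 h3.1, i1, i3, evalW, evalW_single]
  -- the shape of a conjugate in the centraliser
  have shape : ∀ a ∈ Cz z, IsK z a → a ≠ z → ∃ c ∈ Cz z, ∃ v b, c * a * c⁻¹ = C.j v b * a1 ∧
      app (gL 1) v = v ∧ qq bA v = false := by
    intro a ha hK ha'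
    obtain ⟨c, hc, k, v, b, he, hfix, hq⟩ := C.to_rep H ha hK ha' hrep
    cases k
    · refine ⟨c, hc, v, b, he, ?_, ?_⟩
      · simpa [repW, linW, comp_id] using hfix
      · change C.j 0 (qq bA v) * (a1 * a1) = 1 at hq
        rw [s1, mul_one, ← C.j_one] at hq
        exact (C.inj _ _ _ _ hq).2
    · exfalso
      change C.j 0 (qq bA v) * (a1 * a3 * (a1 * a3)) = 1 at hq
      rw [show a1 * a3 * (a1 * a3) = a1 * (a3 * a1) * a3 by group, hanti,
        show a1 * (z * (a1 * a3)) * a3 = (a1 * z) * a1 * (a3 * a3) by group, ← C.z_central H h1,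
        mul_assoc z a1 a1, s1, s3, mul_one, mul_one, rep_fix_pair v hfix, C.j_one, one_mul] at hq
      exact H.zne hq
  have za : ∀ a ∈ Cz z, IsK z a → a ≠ z → IsK z (z * a) := by
    intro a ha hK ha'
    obtain ⟨c, hc, v, b, he, hfix, hq⟩ := shape a ha hK ha'
    have hzc : ∀ x, c⁻¹ * (z * x) * c = z * (c⁻¹ * x * c) := fun x => by
      calc c⁻¹ * (z * x) * c = (c⁻¹ * z) * x * c := by group
        _ = (z * c⁻¹) * x * c := by rw [← mem_Cz.1 ((Cz z).inv_mem hc)]
        _ = _ := by group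
    suffices IsK z (z * (C.j v b * a1)) by
      have := this.conj c⁻¹
      rwa [inv_inv, hzc, ← he, show c⁻¹ * (c * a * c⁻¹) * c = a by group] at this
    have hX : IsK z (C.j v b * a1) := he ▸ hK.conj c
    rcases (rep_fix_trans v hfix).2 hq with ⟨u, hu, huv⟩ | h3v
    · have hcomm : C.j u false * a1 = a1 * C.j u false := by
        have := C.Lh_conj H h1 u false
        rw [i1, natL_gen, hu] at this
        exact (mul_inv_eq_iff_eq_mul.1 this).symm
      have h := hX.conj (C.j u false)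
      have hanti' : C.j u false * C.j v b * (C.j u false)⁻¹ = z * C.j v b := by
        refine (H.anti_iff (C.mem _ _) (C.mem _ _)).1 ?_
        rw [ne_eq, C.comm_iff, huv]
        exact Bool.noConfusion
      rwa [show C.j u false * (C.j v b * a1) * (C.j u false)⁻¹ =
        C.j u false * C.j v b * (C.j u false)⁻¹ * (C.j u false * a1 * (C.j u false)⁻¹) by group, hanti',
        hcomm, mul_inv_cancel_right, mul_assoc] at h
    · have h := hX.conj a3
      have e1 : a3 * C.j v b * a3⁻¹ = C.j v b := by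
        have := C.Lh_conj H h3 v b
        rwa [i3, natL_gen, h3v] at this
      have e2 : a3 * a1 * a3⁻¹ = z * a1 := by rw [hanti]; group
      rwa [show a3 * (C.j v b * a1) * a3⁻¹ = a3 * C.j v b * a3⁻¹ * (a3 * a1 * a3⁻¹) by group, e1, e2,
        ← mul_assoc, C.mul_z, ← C.z_mul, mul_assoc] at h
  -- two commuting conjugates have a conjugate as product
  have prule : ∀ y u, IsK z y → IsK z u → u * y = y * u → u ≠ y → IsK z (y * u) := by
    rintro y u ⟨h, rfl⟩ hu hcom hne'
    have hmem : h⁻¹ * u * h ∈ Cz z := by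
      refine mem_Cz.2 ?_
      calc h⁻¹ * u * h * z = h⁻¹ * (u * (h * z * h⁻¹)) * h := by group
        _ = h⁻¹ * (h * z * h⁻¹ * u) * h := by rw [hcom]
        _ = z * (h⁻¹ * u * h) := by group
    have hu' : IsK z (h⁻¹ * u * h) := by
      have := hu.conj h⁻¹
      rwa [inv_inv] at this
    have := (za _ hmem hu' fun e => hne' (by rw [← e]; group)).conj h
    rwa [show h * (z * (h⁻¹ * u * h)) * h⁻¹ = h * z * h⁻¹ * u by group] at this
  obtain ⟨c, hc, v, b, he, hfix, -⟩ := shape _ hg ⟨g, rfl⟩ hne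
  set x := c * (g * z * g⁻¹) * c⁻¹ with hx
  have hxK : IsK z x := IsK.conj (z := z) (x := g * z * g⁻¹) ⟨g, rfl⟩ c
  set y := C.j 4 false * x * (C.j 4 false)⁻¹ with hy
  obtain ⟨m4, m5⟩ := move_four
  obtain ⟨d, hd⟩ : ∃ d, y * x⁻¹ = C.j 5 d := by
    have hxC : x ∈ Cz z := (Cz z).mul_mem ((Cz z).mul_mem hc hg) ((Cz z).inv_mem hc)
    obtain ⟨δ, hδ⟩ := C.conj_bit hxC 4
    have hxi : app (C.M.L (img z π x)) 4 = 1 := by
      rw [natL_L C.M rfl, he, H.img_mul (H.QC (C.mem _ _)) h1.1, H.img_Q (C.mem _ _), one_mul, i1, natL_gen, m4]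
    rw [hy, show C.j 4 false * x * (C.j 4 false)⁻¹ * x⁻¹ = C.j 4 false * (x * (C.j 4 false)⁻¹ * x⁻¹) by group,
      C.j_inv, hδ, hxi, C.mul, m5]
    exact ⟨_, rfl⟩
  have hcx : C.j 5 d * x = x * C.j 5 d := by
    have e1 : a1 * C.j 5 d = C.j 5 d * a1 := by
      have h5 : app (gL 1) 5 = 5 := by decide +kernel
      have := C.Lh_conj H h1 5 d
      rw [i1, natL_gen, h5] at this
      exact mul_inv_eq_iff_eq_mul.1 this
    rw [he, mul_assoc (C.j v b), e1, ← mul_assoc, ← mul_assoc,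
      (C.comm_iff 5 v d b).2 (rep_fix_trans v hfix).1]
  have hyx : y = C.j 5 d * x := by rw [← hd]; group
  have hxx : x * x = 1 := by obtain ⟨h, e⟩ := hxK; rw [← e, (H.st.conj h).zz]
  have h5ne : C.j 5 d ≠ 1 ∧ C.j 5 d ≠ z :=
    ⟨fun e => absurd (C.inj _ _ 0 false (e.trans C.j_one.symm)).1 (by decide),
      fun e => absurd (C.inj _ _ 0 true (e.trans C.j_z.symm)).1 (by decide)⟩
  have hprod : IsK z (y * x) := prule y x (hxK.conj _) hxK
    (by rw [hyx, ← mul_assoc, ← hcx]) (fun e => h5ne.1 (by rw [← hd, ← e, mul_inv_cancel]))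
  rw [hyx, mul_assoc, hxx, mul_one] at hprod
  obtain ⟨h, hh⟩ := hprod
  exact h5ne.2 (hh.symm.trans (C.weakly_closed H (Or.inl ⟨rfl, rfl⟩) h (hh ▸ C.mem _ _)))

/-- When they commute the lifts of involutions are involutions. -/
theorem sq_all {a1 a3 : G} (h1 : a1 ∈ C.Lh H) (h3 : a3 ∈ C.Lh H) (i1 : img z π a1 = gen 1)
    (i3 : img z π a3 = gen 3) (hcom : a3 * a1 = a1 * a3) {c : G} (hc : c ∈ C.Lh H)
    (hci : img z π c * img z π c = 1) : c * c = 1 := by
  by_cases h : img z π c = 1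
  · rcases C.Lh_ker H hc h with rfl | rfl
    exacts [one_mul _, H.z2]
  obtain ⟨k, g, hk⟩ := inv_class (orderOf_eq_prime_iff.2 ⟨by rw [pow_two]; exact hci, h⟩)
  have s1 : a1 * a1 = 1 := C.transvection_sq H h1 i1
  have s3 : a3 * a3 = 1 := by
    refine C.Lh_sq_transfer H h1 h3 (h := evalW (fiveW 1)) ?_ (Or.inl rfl) s1
    rw [i1, i3, ← evalW_single 1, ← invW_eval, ← evalW_append, ← evalW_append]
    exact (evalW_eq fW_first.2).trans (evalW_single 3)
  cases k
  · refine C.Lh_sq_transfer H h1 hc (h := g) ?_ (Or.inl rfl) s1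
    rw [i1, hk, repW, evalW_single]
  · refine C.Lh_sq_transfer H ((C.Lh H).mul_mem h1 h3) hc (h := g) ?_ (Or.inl rfl) ?_
    · rw [H.img_mul h1.1 h3.1, i1, i3, hk, repW, evalW, evalW_single]
    · rw [(show Commute a3 a1 from hcom).mul_mul_mul_comm a1 a3, s1, s3, one_mul]

/-- A complement. -/
theorem exists_section {a1 a3 : G} (h1 : a1 ∈ C.Lh H) (h3 : a3 ∈ C.Lh H) (i1 : img z π a1 = gen 1)
    (i3 : img z π a3 = gen 3) (hcom : a3 * a1 = a1 * a3) :
    ∃ s : G4 →* G, ∀ g, s g ∈ C.Lh H ∧ img z π (s g) = g := by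
  classical
  have sq := fun {c : G} (hc : c ∈ C.Lh H) => C.sq_all H h1 h3 i1 i3 hcom hc
  -- commuting involutions have commuting lifts
  have comm : ∀ a ∈ C.Lh H, ∀ b ∈ C.Lh H, img z π a * img z π a = 1 → img z π b * img z π b = 1 →
      img z π a * img z π b = img z π b * img z π a → a * b = b * a := by
    intro a ha b hb ea eb eab
    have h := sq ((C.Lh H).mul_mem ha hb) (by
      rw [H.img_mul ha.1 hb.1, (show Commute (img z π b) (img z π a) from eab.symm).mul_mul_mul_comm, ea, eb,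
        one_mul])
    conv_lhs => rw [eq_inv_of_mul_eq_one_left h, mul_inv_rev, inv_eq_of_mul_eq_one_right (sq hb eb),
      inv_eq_of_mul_eq_one_right (sq ha ea)]
  obtain ⟨m, hm, hmi⟩ := C.exists_lift H (evalW (fW 0))
  obtain ⟨x, hx, hxi⟩ := C.exists_lift H (evalW (levW 0))
  obtain ⟨y, hy, hyi⟩ := C.exists_lift H (evalW (levW 1))
  have hxy : x * y ∈ C.Lh H := (C.Lh H).mul_mem hx hy
  set t : Fin 6 → G := ![m, x * m * x⁻¹, y * m * y⁻¹, x * y * m * (x * y)⁻¹, x, y] with ht
  have htmem : ∀ i, t i ∈ C.Lh H := by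
    intro i
    fin_cases i
    exacts [hm, (C.Lh H).mul_mem ((C.Lh H).mul_mem hx hm) ((C.Lh H).inv_mem hx),
      (C.Lh H).mul_mem ((C.Lh H).mul_mem hy hm) ((C.Lh H).inv_mem hy),
      (C.Lh H).mul_mem ((C.Lh H).mul_mem hxy hm) ((C.Lh H).inv_mem hxy), hx, hy]
  have hti : ∀ i, img z π (t i) = evalW (sixW i) := by
    intro i
    fin_cases i
    · exact hmi
    · show img z π (x * m * x⁻¹) = evalW (levW 0 ++ fW 0 ++ invW (levW 0))
      rw [H.img_conj hx.1 hm.1, evalW_append, evalW_append, invW_eval, hxi, hmi]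
    · show img z π (y * m * y⁻¹) = evalW (levW 1 ++ fW 0 ++ invW (levW 1))
      rw [H.img_conj hy.1 hm.1, evalW_append, evalW_append, invW_eval, hyi, hmi]
    · show img z π (x * y * m * (x * y)⁻¹) = evalW (levW 0 ++ levW 1 ++ fW 0 ++ invW (levW 0 ++ levW 1))
      rw [H.img_conj hxy.1 hm.1, H.img_mul hx.1 hy.1]
      simp only [evalW_append, invW_eval, hxi, hyi, hmi]
    · exact hxi
    · exact hyi
  have tsq : ∀ i, t i * t i = 1 := fun i => sq (htmem i) (by
    rw [hti, ← evalW_append]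
    exact (evalW_eq (w := []) (six_sq i)).trans rfl)
  have tcomm : ∀ i j : Fin 6, (i.1 < 4 ∧ j.1 < 4) ∨ (4 ≤ i.1 ∧ 4 ≤ j.1) → t i * t j = t j * t i := fun i j h =>
    comm _ (htmem i) _ (htmem j) (by rw [hti, ← evalW_append]; exact (evalW_eq (w := []) (six_sq i)).trans rfl)
      (by rw [hti, ← evalW_append]; exact (evalW_eq (w := []) (six_sq j)).trans rfl)
      (by rw [hti, hti, ← evalW_append, ← evalW_append]; exact evalW_eq (six_comm i j h))
  have xyc : x * y = y * x := tcomm 4 5 (Or.inr ⟨le_rfl, by decide⟩)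
  have xx : x * x = 1 := tsq 4
  have yy : y * y = 1 := tsq 5
  have swx : ∀ i : Fin 6, x * t i * x⁻¹ = t (![1, 0, 3, 2, 4, 5] i) := by
    intro i
    have xi : x⁻¹ = x := inv_eq_of_mul_eq_one_right xx
    fin_cases i
    · rfl
    · show x * (x * m * x⁻¹) * x⁻¹ = m
      rw [show x * (x * m * x⁻¹) * x⁻¹ = (x * x) * m * (x * x)⁻¹ by group, xx]; group
    · show x * (y * m * y⁻¹) * x⁻¹ = x * y * m * (x * y)⁻¹
      group
    · show x * (x * y * m * (x * y)⁻¹) * x⁻¹ = y * m * y⁻¹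
      rw [show x * (x * y * m * (x * y)⁻¹) * x⁻¹ = (x * x) * y * m * ((x * x) * y)⁻¹ by group, xx, one_mul]
    · show x * x * x⁻¹ = x
      group
    · show x * y * x⁻¹ = y
      rw [xyc, mul_inv_cancel_right]
  have swy : ∀ i : Fin 6, y * t i * y⁻¹ = t (![2, 3, 0, 1, 4, 5] i) := by
    intro i
    fin_cases i
    · rfl
    · show y * (x * m * x⁻¹) * y⁻¹ = x * y * m * (x * y)⁻¹
      rw [xyc]; group
    · show y * (y * m * y⁻¹) * y⁻¹ = m
      rw [show y * (y * m * y⁻¹) * y⁻¹ = (y * y) * m * (y * y)⁻¹ by group, yy]; group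
    · show y * (x * y * m * (x * y)⁻¹) * y⁻¹ = x * m * x⁻¹
      rw [show y * (x * y * m * (x * y)⁻¹) * y⁻¹ = (y * (x * y)) * m * (y * (x * y))⁻¹ by group, xyc,
        ← mul_assoc, yy, one_mul]
    · show y * x * y⁻¹ = x
      rw [← xyc, mul_inv_cancel_right]
    · show y * y * y⁻¹ = y
      group
  let pw : Fin 6 → Bool → G := fun i b => cond b (t i) 1
  let f : Fin 64 → G := fun e =>
    pw 0 (bit6 e 0) * (pw 1 (bit6 e 1) * (pw 2 (bit6 e 2) * (pw 3 (bit6 e 3) * (pw 4 (bit6 e 4) * pw 5 (bit6 e 5)))))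
  have pflip : ∀ i b, t i * pw i b = pw i (!b) := by
    intro i b
    cases b
    · exact mul_one _
    · exact tsq i
  have pmove : ∀ i j : Fin 6, (i.1 < 4 ∧ j.1 < 4) ∨ (4 ≤ i.1 ∧ 4 ≤ j.1) → ∀ b (w : G),
      t i * (pw j b * w) = pw j b * (t i * w) := by
    intro i j h b w
    cases b
    · simp [pw]
    · show t i * (t j * w) = t j * (t i * w)
      rw [← mul_assoc, tcomm i j h, mul_assoc]
  have pconj : ∀ (c : G) (i : Fin 6) (i' : Fin 6), c * t i * c⁻¹ = t i' → ∀ b (w : G),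
      c * (pw i b * w) = pw i' b * (c * w) := by
    intro c i i' h b w
    cases b
    · simp [pw]
    · show c * (t i * w) = t i' * (c * w)
      rw [← mul_assoc, mul_inv_eq_iff_eq_mul.1 h, mul_assoc]
  have pmid : ∀ (i j : Fin 6), i.1 < 4 → j.1 < 4 → ∀ b d (w : G),
      pw i b * (pw j d * w) = pw j d * (pw i b * w) := by
    intro i j hi hj b d w
    cases b
    · simp [pw]
    · exact pmove i j (Or.inl ⟨hi, hj⟩) d w
  have hcast : ∀ k : Fin 4, t k.castSucc.castSucc = t ⟨k.1, by omega⟩ := fun k => rfl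
  have hf : ∀ e, f e = pw 0 (bit6 e 0) * (pw 1 (bit6 e 1) * (pw 2 (bit6 e 2) * (pw 3 (bit6 e 3) *
      (pw 4 (bit6 e 4) * pw 5 (bit6 e 5))))) := fun e => rfl
  have hlow : ∀ (k : Fin 4) (e : Fin 64) (i : Fin 6),
      bit6 (stepE k.castSucc.castSucc e) i.1 = (bit6 e i.1 ^^ decide (i.1 = k.1)) := fun k e i =>
    (stepE_bits e i).1 k
  have hstep : ∀ k e, t k * f e = f (stepE k e) := by
    intro k e
    have hx' := fun i => (stepE_bits e i).2.1
    have hy' := fun i => (stepE_bits e i).2.2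
    have e0 : t 0 * f e = f (stepE 0 e) := by
      rw [hf, hf]
      have h := hlow 0 e
      rw [show bit6 (stepE 0 e) 0 = _ from h 0, show bit6 (stepE 0 e) 1 = _ from h 1,
        show bit6 (stepE 0 e) 2 = _ from h 2, show bit6 (stepE 0 e) 3 = _ from h 3,
        show bit6 (stepE 0 e) 4 = _ from h 4, show bit6 (stepE 0 e) 5 = _ from h 5]
      simp only [show ((0 : Fin 6) : ℕ) = 0 from rfl]
      simp [← mul_assoc, pflip]
    have e1 : t 1 * f e = f (stepE 1 e) := by
      rw [hf, hf]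
      have h := hlow 1 e
      rw [show bit6 (stepE 1 e) 0 = _ from h 0, show bit6 (stepE 1 e) 1 = _ from h 1,
        show bit6 (stepE 1 e) 2 = _ from h 2, show bit6 (stepE 1 e) 3 = _ from h 3,
        show bit6 (stepE 1 e) 4 = _ from h 4, show bit6 (stepE 1 e) 5 = _ from h 5]
      refine (pmove 1 0 (Or.inl (by decide)) _ _).trans ?_
      rw [← mul_assoc (t 1), pflip]
      simp
    have e2 : t 2 * f e = f (stepE 2 e) := by
      rw [hf, hf]
      have h := hlow 2 e
      rw [show bit6 (stepE 2 e) 0 = _ from h 0, show bit6 (stepE 2 e) 1 = _ from h 1,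
        show bit6 (stepE 2 e) 2 = _ from h 2, show bit6 (stepE 2 e) 3 = _ from h 3,
        show bit6 (stepE 2 e) 4 = _ from h 4, show bit6 (stepE 2 e) 5 = _ from h 5]
      refine (pmove 2 0 (Or.inl (by decide)) _ _).trans ?_
      rw [pmove 2 1 (Or.inl (by decide)), ← mul_assoc (t 2), pflip]
      simp
    have e3 : t 3 * f e = f (stepE 3 e) := by
      rw [hf, hf]
      have h := hlow 3 e
      rw [show bit6 (stepE 3 e) 0 = _ from h 0, show bit6 (stepE 3 e) 1 = _ from h 1,
        show bit6 (stepE 3 e) 2 = _ from h 2, show bit6 (stepE 3 e) 3 = _ from h 3,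
        show bit6 (stepE 3 e) 4 = _ from h 4, show bit6 (stepE 3 e) 5 = _ from h 5]
      refine (pmove 3 0 (Or.inl (by decide)) _ _).trans ?_
      rw [pmove 3 1 (Or.inl (by decide)), pmove 3 2 (Or.inl (by decide)), ← mul_assoc (t 3), pflip]
      simp
    have e4 : t 4 * f e = f (stepE 4 e) := by
      rw [hf, hf]
      rw [show bit6 (stepE 4 e) 0 = _ from hx' 0, show bit6 (stepE 4 e) 1 = _ from hx' 1,
        show bit6 (stepE 4 e) 2 = _ from hx' 2, show bit6 (stepE 4 e) 3 = _ from hx' 3,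
        show bit6 (stepE 4 e) 4 = _ from hx' 4, show bit6 (stepE 4 e) 5 = _ from hx' 5]
      refine (pconj x 0 1 (swx 0) _ _).trans ?_
      rw [pconj x 1 0 (swx 1), pconj x 2 3 (swx 2), pconj x 3 2 (swx 3),
        show x = t 4 from rfl, ← mul_assoc (t 4), pflip, pmid 1 0 (by decide) (by decide),
        pmid 3 2 (by decide) (by decide)]
      simp
    have e5 : t 5 * f e = f (stepE 5 e) := by
      rw [hf, hf]
      rw [show bit6 (stepE 5 e) 0 = _ from hy' 0, show bit6 (stepE 5 e) 1 = _ from hy' 1,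
        show bit6 (stepE 5 e) 2 = _ from hy' 2, show bit6 (stepE 5 e) 3 = _ from hy' 3,
        show bit6 (stepE 5 e) 4 = _ from hy' 4, show bit6 (stepE 5 e) 5 = _ from hy' 5]
      refine (pconj y 0 2 (swy 0) _ _).trans ?_
      rw [pconj y 1 3 (swy 1), pconj y 2 0 (swy 2), pconj y 3 1 (swy 3),
        show y = t 5 from rfl, pmove 5 4 (Or.inr (by decide)), pflip,
        pmid 3 0 (by decide) (by decide), pmid 2 0 (by decide) (by decide),
        pmid 3 1 (by decide) (by decide), pmid 2 1 (by decide) (by decide)]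
      simp
    fin_cases k
    exacts [e0, e1, e2, e3, e4, e5]
  set P0 := Subgroup.closure (Set.range t) with hP0
  have f0 : f 0 = 1 := by
    have h : ∀ i, bit6 0 i = false := fun i => Nat.zero_testBit i
    simp [f, pw, h]
  have hrange : ∀ g ∈ P0, ∃ e, f e = g := by
    intro g hg
    rw [hP0, ← Subgroup.mem_toSubmonoid, Subgroup.closure_toSubmonoid_of_finite] at hg
    have : ∀ e, ∃ e', f e' = g * f e := by
      induction hg using Submonoid.closure_induction with
      | mem a ha => obtain ⟨k, rfl⟩ := ha; exact fun e => ⟨_, (hstep k e).symm⟩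
      | one => exact fun e => ⟨e, (one_mul _).symm⟩
      | mul a b _ _ ha hb =>
        intro e
        obtain ⟨e1, he1⟩ := hb e
        obtain ⟨e2, he2⟩ := ha e1
        exact ⟨e2, by rw [he2, he1, mul_assoc]⟩
    obtain ⟨e, he⟩ := this 0
    exact ⟨e, by rw [he, f0, mul_one]⟩
  have fmem : ∀ e, f e ∈ C.Lh H ∧ img z π (f e) = evalW (wordE e) := by
    intro e
    have hp : ∀ i b, pw i b ∈ C.Lh H ∧ img z π (pw i b) = evalW (if b then sixW i else []) := fun i b => by
      cases b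
      · exact ⟨(C.Lh H).one_mem, H.img_one⟩
      · exact ⟨htmem i, hti i⟩
    have pair : ∀ a c (u w : List (Fin 5)), a ∈ C.Lh H ∧ img z π a = evalW u →
        c ∈ C.Lh H ∧ img z π c = evalW w → a * c ∈ C.Lh H ∧ img z π (a * c) = evalW (u ++ w) :=
      fun a c u w ha hc => ⟨(C.Lh H).mul_mem ha.1 hc.1,
        by rw [H.img_mul ha.1.1 hc.1.1, ha.2, hc.2, evalW_append]⟩
    exact pair _ _ _ _ (hp _ _) (pair _ _ _ _ (hp _ _) (pair _ _ _ _ (hp _ _) (pair _ _ _ _ (hp _ _)
      (pair _ _ _ _ (hp _ _) (hp _ _)))))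
  have hz0 : z ∉ P0 := by
    intro hz
    obtain ⟨e, he⟩ := hrange z hz
    have h := (fmem e).2
    rw [he, H.img_Q H.zQ] at h
    have h' := congrArg natL h
    rw [natL_one, natL_evalW] at h'
    rw [wordE_inj e h'.symm, f0] at he
    exact H.zne he.symm
  have hP0L : P0 ≤ C.Lh H := by
    rw [hP0, Subgroup.closure_le]
    rintro _ ⟨i, rfl⟩
    exact htmem i
  have hcard0 : 64 ≤ Nat.card P0 := by
    have hfm : ∀ e, f e ∈ P0 := fun e => by
      have hp : ∀ i b, pw i b ∈ P0 := fun i b => by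
        cases b
        · exact P0.one_mem
        · exact Subgroup.subset_closure ⟨i, rfl⟩
      exact mul_mem (hp _ _) (mul_mem (hp _ _) (mul_mem (hp _ _) (mul_mem (hp _ _) (mul_mem (hp _ _) (hp _ _)))))
    have key : ∀ e e', linW gL (wordE e) = linW gL (wordE e') → e = e' := by decide +kernel
    have hinj : Function.Injective fun e : Fin 64 => (⟨f e, hfm e⟩ : P0) := fun e e' h => by
      refine key e e' ?_
      rw [← natL_evalW, ← natL_evalW, ← (fmem e).2, ← (fmem e').2,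
        show f e = f e' from congrArg Subtype.val h]
    have := Nat.card_le_card_of_injective _ hinj
    rwa [Nat.card_eq_fintype_card, Fintype.card_fin] at this
  have hcardP0 : Nat.card P0 = 64 := le_antisymm (by
    have := Nat.card_le_card_of_surjective (fun e : Fin 64 => (⟨f e, by
      have hp : ∀ i b, pw i b ∈ P0 := fun i b => by
        cases b
        · exact P0.one_mem
        · exact Subgroup.subset_closure ⟨i, rfl⟩
      exact mul_mem (hp _ _) (mul_mem (hp _ _) (mul_mem (hp _ _) (mul_mem (hp _ _) (mul_mem (hp _ _) (hp _ _)))))⟩ : P0))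
      fun g => by obtain ⟨e, he⟩ := hrange g g.2; exact ⟨e, Subtype.ext he⟩
    simpa using this) hcard0
  -- transfer to a complement
  let L := C.Lh H
  let ρ : L →* G4 := MonoidHom.mk' (fun c => img z π (c : G)) fun a b => H.img_mul a.2.1 b.2.1
  have hρs : Function.Surjective ρ := fun g => by
    obtain ⟨c, hc, e⟩ := C.exists_lift H g
    exact ⟨⟨c, hc⟩, e⟩
  have hρk : ∀ c : L, ρ c = 1 → (c : G) = 1 ∨ (c : G) = z := fun c h => C.Lh_ker H c.2 h
  set zL : L := ⟨z, C.z_Lh H⟩ with hzL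
  set R : Subgroup L := P0.subgroupOf L with hR
  set P1 : Subgroup L := (R.map ρ).comap ρ with hP1
  have hRle : R ≤ P1 := Subgroup.le_comap_map ρ R
  have hzP1 : zL ∈ P1 := ⟨1, R.one_mem, by rw [map_one]; exact (H.img_Q H.zQ).symm⟩
  have split1 : ∀ x ∈ P1, x ∈ R ∨ zL * x ∈ R := by
    rintro x ⟨r, hr, hrx⟩
    rcases hρk (x * r⁻¹) (by rw [map_mul, map_inv, hrx, mul_inv_cancel]) with e | e
    · refine Or.inl ?_
      rw [show x = r from Subtype.ext (mul_inv_eq_one.1 e)]
      exact hr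
    · refine Or.inr ?_
      rw [show zL * x = r from Subtype.ext (show z * (x : G) = (r : G) by
        rw [show (x : G) = z * r from mul_inv_eq_iff_eq_mul.1 e, ← mul_assoc, H.z2, one_mul])]
      exact hr
  set R1 : Subgroup P1 := R.subgroupOf P1 with hR1
  have hidx : R1.index = 2 := by
    rw [Subgroup.index_eq_two_iff]
    refine ⟨⟨zL, hzP1⟩, fun b => ?_⟩
    have hzz : (b : L) * zL = zL * b := Subtype.ext (C.z_central H b.1.2).symm
    have hnz : zL ∉ R := fun h => hz0 h
    simp only [hR1, Subgroup.mem_subgroupOf, Subgroup.coe_mul, hzz]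
    rcases split1 b b.2 with h | h
    · exact Or.inr ⟨h, fun h' => hnz (by simpa using R.mul_mem h' (R.inv_mem h))⟩
    · exact Or.inl ⟨h, fun h' => hnz (by simpa using R.mul_mem h (R.inv_mem h'))⟩
  haveI : R1.Normal := Subgroup.normal_of_index_eq_two hidx
  haveI : IsCyclic (P1 ⧸ R1) := isCyclic_of_card_dvd_prime (p := 2) (by
    rw [← Subgroup.index_eq_card, hidx])
  letI : CommGroup (P1 ⧸ R1) := IsCyclic.commGroup
  let ϕ : P1 →* P1 ⧸ R1 := QuotientGroup.mk' R1
  set v := MonoidHom.transfer ϕ with hv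
  have hzc : ∀ x : L, zL * x = x * zL := fun x => Subtype.ext (C.z_central H x.2)
  have hvz : v zL = ϕ ⟨zL, hzP1⟩ := by
    have hidxodd : P1.index = 405 := by
      have hinj : ∀ a ∈ R, ρ a = 1 → a = 1 := fun a ha h => by
        rcases hρk a h with e | e
        · exact Subtype.ext e
        · exact absurd (e ▸ (ha : (a : G) ∈ P0)) hz0
      rw [hP1, Subgroup.index_comap_of_surjective _ hρs]
      have h1 : Nat.card (R.map ρ) = 64 := by
        rw [← hcardP0, ← Nat.card_congr (Subgroup.subgroupOfEquivOfLe hP0L).toEquiv]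
        refine (Nat.card_congr (Equiv.ofBijective (fun a : R => (⟨ρ a, a, a.2, rfl⟩ : R.map ρ)) ⟨?_, ?_⟩)).symm
        · intro a b h
          have h' : ρ a = ρ b := congrArg Subtype.val h
          exact Subtype.ext (mul_inv_eq_one.1 (hinj _ (R.mul_mem a.2 (R.inv_mem b.2))
            (by rw [map_mul, map_inv, h', mul_inv_cancel])))
        · rintro ⟨_, a, ha, rfl⟩
          exact ⟨⟨a, ha⟩, rfl⟩
      have h2 := (R.map ρ).card_mul_index
      rw [h1, card_G4] at h2
      omega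
    rw [hv, MonoidHom.transfer_eq_pow ϕ zL (fun k g₀ _ => by
      rw [mul_assoc, ← (show Commute (zL ^ k) g₀ from (show Commute zL g₀ from hzc g₀).pow_left k).eq.symm]
      group)]
    have e : zL ^ P1.index = zL := by
      rw [hidxodd, show 405 = 2 * 202 + 1 from rfl, pow_succ, pow_mul, pow_two,
        show zL * zL = 1 from Subtype.ext H.z2, one_pow, one_mul]
    exact congrArg ϕ (Subtype.ext e)
  have hvz1 : v zL ≠ 1 := by
    rw [hvz]
    intro h
    have h2 : (⟨zL, hzP1⟩ : P1) ∈ R1 := (QuotientGroup.eq_one_iff (N := R1) ⟨zL, hzP1⟩).1 h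
    exact hz0 h2
  let K0 := v.ker
  have hbij : Function.Bijective (ρ.comp K0.subtype) := by
    constructor
    · intro a b h
      have h' : ρ (a : L) = ρ (b : L) := h
      rcases hρk ((a : L) * (b : L)⁻¹) (by rw [map_mul, map_inv, h', mul_inv_cancel]) with e | e
      · exact Subtype.ext (Subtype.ext (mul_inv_eq_one.1 e))
      · exfalso
        apply hvz1
        rw [show zL = (a : L) * (b : L)⁻¹ from Subtype.ext e.symm]
        exact K0.mul_mem a.2 (K0.inv_mem b.2)
    · intro g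
      obtain ⟨c, rfl⟩ := hρs g
      have h2 : ∀ w : P1 ⧸ R1, w = 1 ∨ w = ϕ ⟨zL, hzP1⟩ := by
        intro w
        obtain ⟨p, rfl⟩ := QuotientGroup.mk'_surjective R1 w
        rcases split1 p p.2 with h | h
        · exact Or.inl ((QuotientGroup.eq_one_iff p).2 h)
        · refine Or.inr (QuotientGroup.eq.2 ?_)
          show ((p : L))⁻¹ * zL ∈ R
          have := R.inv_mem h
          rwa [mul_inv_rev, show zL⁻¹ = zL from inv_eq_of_mul_eq_one_right (Subtype.ext H.z2)] at this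
      rcases h2 (v c) with h | h
      · exact ⟨⟨c, h⟩, rfl⟩
      · refine ⟨⟨zL * c, ?_⟩, ?_⟩
        · show v (zL * c) = 1
          rw [map_mul, hvz, h, ← map_mul]
          have : (⟨zL, hzP1⟩ : P1) * ⟨zL, hzP1⟩ = 1 := Subtype.ext (Subtype.ext H.z2)
          rw [this, map_one]
        · show ρ (zL * c) = ρ c
          rw [map_mul, show ρ zL = 1 from H.img_Q H.zQ, one_mul]
  let e := MulEquiv.ofBijective _ hbij
  refine ⟨L.subtype.comp (K0.subtype.comp e.symm.toMonoidHom), fun g => ⟨(e.symm g : L).2, ?_⟩⟩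
  exact e.apply_symm_apply g

end Co

end CfsgLib.USixType
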