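import Cfsg.Agent.Lib.USixType.Coords

/-!
Elementary rules for the coordinates of `Q`.
-/

set_option autoImplicit false
set_option linter.unusedSectionVars false

open Cfsg CfsgLib.Extraspecial

namespace CfsgLib.USixType

/-- The three models. -/
def Model (β : V8 → V8 → Bool) (S : Fin 5 → Lin) : Prop :=
  (β = bA ∧ S = gL) ∨ (β = bA ∧ S = wL) ∨ (β = bD ∧ S = wL)

variable {G : Type*} [Group G] {z : G} {Q : Subgroup G} {π : ↥(Cz z) →* G4}
  {β : V8 → V8 → Bool} {S : Fin 5 → Lin}

namespace Co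

variable (C : Co z Q π β S)
include C

theorem j_one : C.j 0 false = 1 := by
  have h := C.mul 0 false 0 false
  rw [xr_self, C.bil.zero_left] at h
  exact mul_eq_left.mp h

theorem z_mul (v : V8) (b : Bool) : z * C.j v b = C.j v (!b) := by
  refine ((congrArg (fun x => x * C.j v b) C.j_z).symm.trans (C.mul 0 true v b)).trans ?_
  rw [zero_xr, C.bil.zero_left]
  cases b <;> rfl

theorem mul_z (v : V8) (b : Bool) : C.j v b * z = C.j v (!b) := by
  refine ((congrArg (fun x => C.j v b * x) C.j_z).symm.trans (C.mul v b 0 true)).trans ?_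
  rw [xr_zero, C.bil.zero_right]
  cases b <;> rfl

theorem sq (v : V8) (b : Bool) : C.j v b * C.j v b = C.j 0 (qq β v) := by
  rw [C.mul, xr_self, qq]
  cases b <;> cases β v v <;> rfl

theorem comm_iff (v w : V8) (b d : Bool) :
    C.j v b * C.j w d = C.j w d * C.j v b ↔ bb β v w = false := by
  rw [C.mul, C.mul, xr_comm w v]
  constructor
  · intro h
    have h' := (C.inj _ _ _ _ h).2
    rw [bb]
    revert h'
    cases b <;> cases d <;> cases β v w <;> cases β w v <;> simp
  · intro h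
    congr 1
    revert h
    rw [bb]
    cases b <;> cases d <;> cases β v w <;> cases β w v <;> simp

theorem eq_one_or_z (b : Bool) : C.j 0 b = 1 ∨ C.j 0 b = z := by
  cases b
  · exact Or.inl C.j_one
  · exact Or.inr C.j_z

theorem mul_mem_vec {a c : G} {v w : V8} {b d : Bool} (ha : C.j v b = a) (hc : C.j w d = c) :
    ∃ e, C.j (xr v w) e = a * c := ⟨_, by rw [← ha, ← hc, C.mul]⟩

variable [Finite G] (H : Pre z Q π)
include H

theorem cl_j (v w : V8) (b d : Bool) : cl Q (C.j v b) = cl Q (C.j w d) ↔ v = w := by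
  rw [H.cl_eq_iff (C.mem v b) (C.mem w d), C.z_mul]
  constructor
  · rintro (h | h) <;> exact (C.inj _ _ _ _ h).1
  · rintro rfl
    cases b <;> cases d <;> simp

theorem cl_zero (b : Bool) : cl Q (C.j 0 b) = 1 :=
  (H.cl_eq_one (C.mem 0 b)).2 (C.eq_one_or_z b)

/-- An element of the stabiliser of a vector lifts to an element fixing the lift. -/
theorem fix_lift {g : G4} {v : V8} (hv : v ≠ 0) (h : app (C.M.L g) v = v) (b : Bool) :
    ∃ c ∈ Cz z, img z π c = g ∧ c * C.j v b * c⁻¹ = C.j v b := by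
  obtain ⟨c, hc, rfl⟩ := H.lift g
  obtain ⟨d, hd⟩ := C.conj c hc v b
  rw [h] at hd
  by_cases hdb : d = b
  · exact ⟨c, hc, rfl, hdb ▸ hd⟩
  · have hj1 : C.j v b ≠ 1 := fun e => hv (C.inj v b 0 false (e.trans C.j_one.symm)).1
    have hjz : C.j v b ≠ z := fun e => hv (C.inj v b 0 true (e.trans C.j_z.symm)).1
    obtain ⟨q, hq, hqv⟩ := H.st.exists_move (C.mem v b) hj1 hjz
    refine ⟨q * c, (Cz z).mul_mem (H.QC hq) hc, by rw [H.img_mul (H.QC hq) hc, H.img_Q hq, one_mul], ?_⟩
    have hd' : C.j v d = z * C.j v b := by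
      rw [C.z_mul]
      cases b <;> cases d <;> first | rfl | exact absurd rfl hdb
    calc q * c * C.j v b * (q * c)⁻¹ = q * (c * C.j v b * c⁻¹) * q⁻¹ := by group
      _ = (q * z) * C.j v b * q⁻¹ := by rw [hd, hd']; group
      _ = z * (q * C.j v b * q⁻¹) := by rw [H.st.z_comm hq]; group
      _ = _ := by rw [hqv, ← mul_assoc, H.z2, one_mul]

end Co

end CfsgLib.USixType
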