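import Cfsg.Agent.Lib.USixType.Form

/-!
Coordinates for `Q`: a cocycle on `Fin 256`, the conjugation of the centraliser given by matrices.
-/

set_option autoImplicit false
set_option linter.unusedSectionVars false
set_option linter.style.haveILetI false

open Cfsg CfsgLib.Extraspecial

namespace CfsgLib.USixType

variable {G : Type*} [Group G]

/-- Coordinates. -/
structure Co (z : G) (Q : Subgroup G) (π : ↥(Cz z) →* G4) (β : V8 → V8 → Bool) (S : Fin 5 → Lin) where
  M : Mdl S
  j : V8 → Bool → G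
  bil : Bil β
  mem : ∀ v b, j v b ∈ Q
  surj : ∀ q ∈ Q, ∃ v b, j v b = q
  inj : ∀ v b w d, j v b = j w d → v = w ∧ b = d
  mul : ∀ v b w d, j v b * j w d = j (xr v w) ((b ^^ d) ^^ β v w)
  j_z : j 0 true = z
  conj : ∀ c ∈ Cz z, ∀ v b, ∃ d, c * j v b * c⁻¹ = j (app (M.L (img z π c)) v) d

/-- Coordinates of the quotient. -/
structure Kap (z : G) (Q : Subgroup G) (π : ↥(Cz z) →* G4) (S : Fin 5 → Lin) where
  M : Mdl S
  κ : V8 → T Q
  bij : Function.Bijective κ
  add : ∀ a b, κ (xr a b) = κ a * κ b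
  equiv : ∀ c ∈ Cz z, ∀ v, ac Q c (κ v) = κ (app (M.L (img z π c)) v)

/-! ### Forms invariant under the diagonal group and the three transpositions -/

/-- The word of a diagonal element. -/
def offDiag (S : Fin 5 → Lin) (i j : Fin 8) (x : EI) : Bool :=
  decide (app (linW S (ew x)) (un i) = un i) &&
    decide (xr (xr (un j) (app (linW S (ew x)) (un j))) (app (linW S (ew x)) (app (linW S (ew x)) (un j))) = 0)

/-- The words carrying the first plane to a plane. -/
def planeW (S : Fin 5 → Lin) (p : Fin 4) (w : List (Fin 5)) : Bool :=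
  decide (app (linW S w) (un 0) = un ⟨2 * p.1, by omega⟩) &&
    decide (app (linW S w) (un 1) = un ⟨2 * p.1 + 1, by omega⟩)

theorem gL_off : ∀ i j : Fin 8, i.1 / 2 ≠ j.1 / 2 → ∃ x, offDiag gL i j x = true ∨ offDiag gL j i x = true := by
  decide +kernel

theorem wL_off : ∀ i j : Fin 8, i.1 / 2 ≠ j.1 / 2 → ∃ x, offDiag wL i j x = true ∨ offDiag wL j i x = true := by
  decide +kernel

theorem gL_plane : planeW gL 0 [] = true ∧ planeW gL 1 [1] = true ∧ planeW gL 2 [2, 1] = true ∧
    planeW gL 3 [3, 2, 1] = true ∧ app (linW gL [0]) (un 0) = un 1 ∧ app (linW gL [0]) (un 1) = xr (un 0) (un 1) := by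
  decide +kernel

theorem wL_plane : planeW wL 0 [] = true ∧ planeW wL 1 [2] = true ∧ planeW wL 2 [3, 2] = true ∧
    app (linW wL (ew (0, 1, 0))) (un 0) = un 1 ∧ app (linW wL (ew (0, 1, 0))) (un 1) = xr (un 0) (un 1) := by
  decide +kernel

theorem bA_tab : ∀ i j : Fin 8, bb bA (un i) (un j) = decide (i ≠ j ∧ i.1 / 2 = j.1 / 2) ∧ qq bA (un i) = true := by
  decide +kernel

theorem bD_tab : ∀ i j : Fin 8, bb bD (un i) (un j) = decide (i ≠ j ∧ i.1 / 2 = j.1 / 2) ∧
    qq bD (un i) = decide (i.1 < 6) := by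
  decide +kernel

theorem un_div : ∀ i : Fin 8, (i.1 = 2 * (i.1 / 2) ∨ i.1 = 2 * (i.1 / 2) + 1) ∧ i.1 / 2 < 4 := by decide

theorem upper_bA : ∀ k i : Fin 8, i.1 < k.1 → bA (un k) (un i) = false := by decide +kernel

theorem upper_bD : ∀ k i : Fin 8, i.1 < k.1 → bD (un k) (un i) = false := by decide +kernel

theorem bb_bil {β : V8 → V8 → Bool} (h : Bil β) : Bil (bb β) := ⟨h.bb_left, h.bb_right⟩

/-- A quadratic function and its polar. -/
structure QF (q : V8 → Bool) (b : V8 → V8 → Bool) : Prop where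
  bil : Bil b
  symm : ∀ v w, b v w = b w v
  self : ∀ v, b v v = false
  qadd : ∀ v w, q (xr v w) = ((q v ^^ q w) ^^ b v w)
  nondeg : ∀ v, v ≠ 0 → ∃ w, b v w = true

namespace QF

variable {q : V8 → Bool} {b : V8 → V8 → Bool} (F : QF q b)
include F

theorem eq_of_units {β : V8 → V8 → Bool} (hβ : Bil β) (hq : ∀ i, q (un i) = qq β (un i))
    (hb : ∀ i j, b (un i) (un j) = bb β (un i) (un j)) :
    (∀ v, q v = qq β v) ∧ ∀ v w, b v w = bb β v w := by
  have hb' := F.bil.ext (bb_bil hβ) hb
  refine ⟨fun v => ?_, hb'⟩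
  have q0 : q 0 = false := by
    have h := F.qadd 0 0
    rw [xr_self, F.self] at h
    cases e : q 0 <;> simp_all
  have hd : ∀ a c, (q (xr a c) ^^ qq β (xr a c)) = ((q a ^^ qq β a) ^^ (q c ^^ qq β c)) := fun a c => by
    rw [F.qadd, hβ.qq_xr, hb']
    cases q a <;> cases q c <;> cases qq β a <;> cases qq β c <;> cases bb β a c <;> rfl
  let d : V8 → V8 → Bool := fun a c => cb c 0 && (q a ^^ qq β a)
  let e : V8 → V8 → Bool := fun _ _ => false
  have hbil : Bil d := ⟨fun a c e => by
      simp only [d, hd]; cases cb e 0 <;> simp,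
    fun a c e => by simp only [d, cb_xr, Bool.and_xor_distrib_right]⟩
  have h := hbil.ext (γ := e) ⟨fun _ _ _ => rfl, fun _ _ _ => rfl⟩ (fun i j => by simp [d, e, hq]) v 1
  simp only [d, e] at h
  have h1 : cb 1 0 = true := rfl
  rw [h1, Bool.true_and] at h
  cases hv : q v <;> simp_all

variable {S : Fin 5 → Lin}
  (hi : ∀ (w : List (Fin 5)) (v : V8), q (app (linW S w) v) = q v)
include hi

theorem b_inv (w : List (Fin 5)) (u v : V8) : b (app (linW S w) u) (app (linW S w) v) = b u v := by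
  have h := hi w (xr u v)
  rw [app_xr, F.qadd, F.qadd, hi w u, hi w v] at h
  cases e1 : b (app (linW S w) u) (app (linW S w) v) <;> cases e2 : b u v <;> simp_all

theorem off_zero {i j : Fin 8} {x : EI} (h : offDiag S i j x = true) : b (un i) (un j) = false := by
  simp only [offDiag, Bool.and_eq_true, decide_eq_true_eq] at h
  obtain ⟨h1, h2⟩ := h
  set L := linW S (ew x)
  have e1 : b (un i) (app L (un j)) = b (un i) (un j) := by
    conv_lhs => rw [← h1, F.b_inv hi]
  have e2 : b (un i) (app L (app L (un j))) = b (un i) (un j) := by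
    conv_lhs => rw [← h1, F.b_inv hi]
    exact e1
  have h3 := congrArg (b (un i)) h2
  rw [F.bil.right, F.bil.right, e1, e2, F.bil.zero_right] at h3
  cases e : b (un i) (un j) <;> simp_all

theorem plane_zero {p : Fin 4} {w : List (Fin 5)} (h : planeW S p w = true) :
    q (un ⟨2 * p.1, by omega⟩) = q (un 0) ∧ q (un ⟨2 * p.1 + 1, by omega⟩) = q (un 1) ∧
      b (un ⟨2 * p.1, by omega⟩) (un ⟨2 * p.1 + 1, by omega⟩) = b (un 0) (un 1) := by
  simp only [planeW, Bool.and_eq_true, decide_eq_true_eq] at h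
  obtain ⟨h1, h2⟩ := h
  exact ⟨by rw [← h1, hi], by rw [← h2, hi], by rw [← h1, ← h2, F.b_inv hi]⟩

/-- The first plane is anisotropic. -/
theorem first_plane (hoff : ∀ i j : Fin 8, i.1 / 2 ≠ j.1 / 2 → ∃ x, offDiag S i j x = true ∨ offDiag S j i x = true)
    {w : List (Fin 5)} (h0 : app (linW S w) (un 0) = un 1) (h1 : app (linW S w) (un 1) = xr (un 0) (un 1)) :
    q (un 0) = true ∧ q (un 1) = true ∧ b (un 0) (un 1) = true := by
  have hz : ∀ i j : Fin 8, i.1 / 2 ≠ j.1 / 2 → b (un i) (un j) = false := fun i j h => by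
    obtain ⟨x, hx | hx⟩ := hoff i j h
    · exact F.off_zero hi hx
    · rw [F.symm]; exact F.off_zero hi hx
  have e1 : q (un 1) = q (un 0) := by rw [← h0, hi]
  have e2 : b (un 0) (un 1) = q (un 0) := by
    have h := hi w (un 1)
    rw [h1, F.qadd, e1] at h
    cases e : q (un 0) <;> simp_all
  suffices b (un 0) (un 1) = true by exact ⟨e2 ▸ this, e1.trans (e2 ▸ this), this⟩
  by_contra hb
  rw [Bool.not_eq_true] at hb
  obtain ⟨v, hv⟩ := F.nondeg (un 0) (by decide)
  have hrow : ∀ k : Fin 8, b (un 0) (un k) = false := fun k => by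
    by_cases hk : (0 : Fin 8).1 / 2 ≠ k.1 / 2
    · exact hz 0 k hk
    · have key : ∀ k : Fin 8, ¬(0 : Fin 8).1 / 2 ≠ k.1 / 2 → k = 0 ∨ k = 1 := by decide
      rcases key k hk with rfl | rfl
      · exact F.self _
      · exact hb
  let d : V8 → V8 → Bool := fun a c => cb a 0 && b (un 0) c
  have hd : Bil d := ⟨fun a c e => by simp only [d, cb_xr, Bool.and_xor_distrib_right],
    fun a c e => by simp only [d, F.bil.right]; cases cb a 0 <;> simp⟩
  have h := hd.ext (γ := fun _ _ => false) ⟨fun _ _ _ => rfl, fun _ _ _ => rfl⟩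
    (fun i j => by simp [d, hrow]) 1 v
  simp only [d, hv] at h
  exact absurd h (by decide)

theorem natural_form (hS : S = gL) : (∀ v, q v = qq bA v) ∧ ∀ v w, b v w = bb bA v w := by
  subst hS
  obtain ⟨p0, p1, p2, p3, h0, h1⟩ := gL_plane
  obtain ⟨c0, c1, c01⟩ := F.first_plane hi gL_off h0 h1
  have hp : ∀ p : Fin 4, q (un ⟨2 * p.1, by omega⟩) = true ∧ q (un ⟨2 * p.1 + 1, by omega⟩) = true ∧
      b (un ⟨2 * p.1, by omega⟩) (un ⟨2 * p.1 + 1, by omega⟩) = true := fun p => by
    obtain ⟨w, hw⟩ : ∃ w, planeW gL p w = true := by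
      fin_cases p
      exacts [⟨_, p0⟩, ⟨_, p1⟩, ⟨_, p2⟩, ⟨_, p3⟩]
    obtain ⟨a, c, d⟩ := F.plane_zero hi hw
    exact ⟨a.trans c0, c.trans c1, d.trans c01⟩
  refine F.eq_of_units bA_bil (fun i => ?_) fun i j => ?_
  · rw [(bA_tab i i).2]
    obtain ⟨hd, hlt⟩ := un_div i
    obtain ⟨a, c, -⟩ := hp ⟨i.1 / 2, hlt⟩
    rcases hd with e | e
    · rwa [show i = ⟨2 * (i.1 / 2), by omega⟩ from Fin.ext e]
    · rwa [show i = ⟨2 * (i.1 / 2) + 1, by omega⟩ from Fin.ext e]
  · rw [(bA_tab i j).1]
    by_cases hij : i.1 / 2 = j.1 / 2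
    · fin_cases i <;> fin_cases j <;> first
        | exact absurd hij (by decide)
        | exact F.self _
        | exact (hp 0).2.2
        | exact (F.symm _ _).trans (hp 0).2.2
        | exact (hp 1).2.2
        | exact (F.symm _ _).trans (hp 1).2.2
        | exact (hp 2).2.2
        | exact (F.symm _ _).trans (hp 2).2.2
        | exact (hp 3).2.2
        | exact (F.symm _ _).trans (hp 3).2.2
    · obtain ⟨x, hx | hx⟩ := gL_off i j hij
      · simp [hij, F.off_zero hi hx]
      · simp [hij, F.symm (un i), F.off_zero hi hx]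

theorem wedge_form (hS : S = wL) :
    b (un 6) (un 7) = true ∧ (∀ i : Fin 8, i.1 < 6 → q (un i) = true) ∧
      ∀ i j : Fin 8, b (un i) (un j) = decide (i ≠ j ∧ i.1 / 2 = j.1 / 2) := by
  subst hS
  obtain ⟨p0, p1, p2, h0, h1⟩ := wL_plane
  obtain ⟨c0, c1, c01⟩ := F.first_plane hi wL_off h0 h1
  have hz : ∀ i j : Fin 8, i.1 / 2 ≠ j.1 / 2 → b (un i) (un j) = false := fun i j h => by
    obtain ⟨x, hx | hx⟩ := wL_off i j h
    · exact F.off_zero hi hx
    · rw [F.symm]; exact F.off_zero hi hx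
  have h67 : b (un 6) (un 7) = true := by
    by_contra hb
    rw [Bool.not_eq_true] at hb
    obtain ⟨v, hv⟩ := F.nondeg (un 6) (by decide)
    have hrow : ∀ k : Fin 8, b (un 6) (un k) = false := fun k => by
      by_cases hk : (6 : Fin 8).1 / 2 ≠ k.1 / 2
      · exact hz 6 k hk
      · have key : ∀ k : Fin 8, ¬(6 : Fin 8).1 / 2 ≠ k.1 / 2 → k = 6 ∨ k = 7 := by decide
        rcases key k hk with rfl | rfl
        · exact F.self _
        · exact hb
    let d : V8 → V8 → Bool := fun a c => cb a 0 && b (un 6) c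
    have hd : Bil d := ⟨fun a c e => by simp only [d, cb_xr, Bool.and_xor_distrib_right],
      fun a c e => by simp only [d, F.bil.right]; cases cb a 0 <;> simp⟩
    have h := hd.ext (γ := fun _ _ => false) ⟨fun _ _ _ => rfl, fun _ _ _ => rfl⟩
      (fun i j => by simp [d, hrow]) 1 v
    simp only [d, hv] at h
    exact absurd h (by decide)
  obtain ⟨a1, a1', a1''⟩ := F.plane_zero hi p1
  obtain ⟨a2, a2', a2''⟩ := F.plane_zero hi p2
  refine ⟨h67, fun i hi6 => ?_, fun i j => ?_⟩
  · fin_cases i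
    exacts [c0, c1, a1.trans c0, a1'.trans c1, a2.trans c0, a2'.trans c1, absurd hi6 (by decide),
      absurd hi6 (by decide)]
  · by_cases hij : i.1 / 2 = j.1 / 2
    · fin_cases i <;> fin_cases j <;> first
        | exact absurd hij (by decide)
        | exact F.self _
        | exact c01
        | exact (F.symm _ _).trans c01
        | exact a1''.trans c01
        | exact (F.symm _ _).trans (a1''.trans c01)
        | exact a2''.trans c01
        | exact (F.symm _ _).trans (a2''.trans c01)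
        | exact h67
        | exact (F.symm _ _).trans h67
    · simp [hij, hz i j hij]

end QF

/-- Changes of basis in the fixed plane, with inverses. -/
theorem sigma_check : ∀ p ∈ [((⟨1, 2, 4, 8, 16, 32, 128, 192⟩ : Lin), (⟨1, 2, 4, 8, 16, 32, 192, 64⟩ : Lin)),
      (⟨1, 2, 4, 8, 16, 32, 64, 192⟩, ⟨1, 2, 4, 8, 16, 32, 64, 192⟩), (idL, idL)],
    (∀ k, comp p.1 (wL k) = comp (wL k) p.1) ∧ comp p.1 p.2 = idL ∧ comp p.2 p.1 = idL := by
  intro p hp
  simp only [List.mem_cons, List.not_mem_nil, or_false] at hp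
  rcases hp with rfl | rfl | rfl <;> decide +kernel

/-- Powers of the central involution. -/
def zp (z : G) (b : Bool) : G := cond b z 1

/-- Ordered products. -/
def prodX (x : Fin 8 → G) : ℕ → V8 → G
  | 0, _ => 1
  | n + 1, v => cond (cb v n) (x (Fin.ofNat 8 n)) 1 * prodX x n v

/-- The lower part of a bilinear map. -/
def lowB (β : V8 → V8 → Bool) (k : Fin 8) : ℕ → V8 → Bool
  | 0, _ => false
  | n + 1, w => (β (un k) (un (Fin.ofNat 8 n)) && cb w n) ^^ lowB β k n w

/-- Truncation. -/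
def trunc (n : ℕ) (v : V8) : V8 := ⟨v.1 % 2 ^ n % 256, Nat.mod_lt _ (by norm_num)⟩

theorem low_bA : ∀ k w, lowB bA k 8 w = bA (un k) w := by decide +kernel

theorem low_bD : ∀ k w, lowB bD k 8 w = bD (un k) w := by decide +kernel

theorem trunc_facts : ∀ v, trunc 0 v = 0 ∧ trunc 8 v = v ∧
    ∀ n : Fin 8, trunc (n.1 + 1) v = xr (sel (cb v n.1) (un n)) (trunc n.1 v) := by decide +kernel

theorem cb_toggle : ∀ (w : V8) (k i : Fin 8), cb (xr w (un k)) i.1 = (cb w i.1 ^^ decide (k = i)) := by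
  decide +kernel

namespace Pre

variable [Finite G] {z : G} {Q : Subgroup G} {π : ↥(Cz z) →* G4} (H : Pre z Q π)
include H

/-- the action of an element of the quotient -/
noncomputable def actG (g : G4) (t : T Q) : T Q := ac Q (H.lift g).choose t

theorem actG_spec {c : G} (hc : c ∈ Cz z) (t : T Q) : ac Q c t = H.actG (img z π c) t :=
  H.ac_img hc (H.lift _).choose_spec.1 (H.lift _).choose_spec.2.symm t

theorem actG_mul (g h : G4) (t : T Q) : H.actG (g * h) t = H.actG g (H.actG h t) := by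
  obtain ⟨c, hc, rfl⟩ := H.lift g
  obtain ⟨d, hd, rfl⟩ := H.lift h
  rw [← H.img_mul hc hd, ← H.actG_spec ((Cz z).mul_mem hc hd), ← H.actG_spec hd, ← H.actG_spec hc,
    H.ac_comp hc hd]

theorem exists_kap : (∃ K : Kap z Q π gL, True) ∨ ∃ K : Kap z Q π wL, True := by
  letI : CommGroup (T Q) := { (inferInstance : Group (T Q)) with mul_comm := H.T_comm }
  let φ : G4 → (Additive (T Q) ≃+ Additive (T Q)) := fun g =>
    { toFun := fun t => Additive.ofMul (H.actG g t.toMul)
      invFun := fun t => Additive.ofMul (H.actG g⁻¹ t.toMul)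
      left_inv := fun t => by
        show Additive.ofMul (H.actG g⁻¹ (H.actG g t.toMul)) = t
        obtain ⟨c, hc, rfl⟩ := H.lift g
        rw [← H.img_inv hc, ← H.actG_spec hc, ← H.actG_spec ((Cz z).inv_mem hc), H.ac_inv hc]
        rfl
      right_inv := fun t => by
        show Additive.ofMul (H.actG g (H.actG g⁻¹ t.toMul)) = t
        obtain ⟨c, hc, rfl⟩ := H.lift g
        rw [← H.img_inv hc, ← H.actG_spec hc, ← H.actG_spec ((Cz z).inv_mem hc),
          ← H.ac_comp hc ((Cz z).inv_mem hc), mul_inv_cancel, H.ac_Q Q.one_mem]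
        rfl
      map_add' := fun a b => by
        obtain ⟨c, hc, rfl⟩ := H.lift g
        show Additive.ofMul (H.actG _ (a.toMul * b.toMul)) = _
        rw [← H.actG_spec hc, H.ac_mul hc, H.actG_spec hc, H.actG_spec hc]
        rfl }
  let A : Act (Additive (T Q)) :=
    { φ := φ
      mul := fun g h v => congrArg Additive.ofMul (H.actG_mul g h v.toMul)
      two := fun v => congrArg Additive.ofMul (H.T_sq v.toMul)
      card := H.card_T
      faith := fun g hg => by
        obtain ⟨c, hc, rfl⟩ := H.lift g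
        refine H.img_Q (H.faithful hc fun t => ?_)
        rw [H.actG_spec hc]
        exact congrArg Additive.toMul (hg (Additive.ofMul t)) }
  obtain ⟨F, hF⟩ := A.classify
  have mk : ∀ S : Fin 5 → Lin, (∀ k, F.L (gen k) = S k) → ∃ K : Kap z Q π S, True := fun S hS =>
    ⟨⟨F.mdl hS, fun v => (F.e v).toMul, Additive.toMul.bijective.comp F.e.bijective,
      fun a b => congrArg Additive.toMul (F.add a b), fun c hc v => by
        rw [H.actG_spec hc]
        exact congrArg Additive.toMul (F.e_L (img z π c) v).symm⟩, trivial⟩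
  exact hF.imp (mk gL) (mk wL)

theorem kap_form {S : Fin 5 → Lin} (K : Kap z Q π S) :
    QF (fun v => qT z Q (K.κ v)) (fun v w => bT z Q (K.κ v) (K.κ w)) ∧
      ∀ (w : List (Fin 5)) (v : V8), qT z Q (K.κ (app (linW S w) v)) = qT z Q (K.κ v) := by
  have k0 : K.κ 0 = 1 := by
    have h := K.add 0 0
    rw [xr_self] at h
    exact mul_eq_left.mp h.symm
  refine ⟨⟨⟨fun a b c => ?_, fun a b c => ?_⟩, fun v w => H.bT_symm _ _, fun v => H.bT_self _,
    fun v w => ?_, fun v hv => ?_⟩, fun w v => ?_⟩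
  · simp only [K.add, H.bT_mul_left]
  · simp only [K.add, H.bT_mul_right]
  · simp only [K.add, H.qT_mul]
  · obtain ⟨t, ht⟩ := H.bT_nondeg (s := K.κ v) fun h => hv (K.bij.1 (h.trans k0.symm))
    obtain ⟨w, rfl⟩ := K.bij.2 t
    exact ⟨w, ht⟩
  · obtain ⟨c, hc, e⟩ := H.lift (evalW w)
    rw [← K.M.evalW_L, ← e, ← K.equiv c hc, H.qT_ac hc]

/-- A normal form for the coordinates of the quotient. -/
theorem exists_normal : ∃ (β : V8 → V8 → Bool) (S : Fin 5 → Lin),
    ((β = bA ∧ S = gL) ∨ (β = bA ∧ S = wL) ∨ (β = bD ∧ S = wL)) ∧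
    ∃ K : Kap z Q π S, (∀ v, qT z Q (K.κ v) = qq β v) ∧ ∀ v w, bT z Q (K.κ v) (K.κ w) = bb β v w := by
  rcases H.exists_kap with ⟨K, -⟩ | ⟨K, -⟩
  · obtain ⟨F, hi⟩ := H.kap_form K
    exact ⟨bA, gL, Or.inl ⟨rfl, rfl⟩, K, F.natural_form hi rfl⟩
  obtain ⟨F, hi⟩ := H.kap_form K
  obtain ⟨h67, hq, hb⟩ := F.wedge_form hi rfl
  -- a change of basis in the fixed plane
  have change : ∀ σ τ : Lin, ((∀ k, comp σ (wL k) = comp (wL k) σ) ∧ comp σ τ = idL ∧ comp τ σ = idL) →
      ∃ K' : Kap z Q π wL, ∀ v, K'.κ v = K.κ (app σ v) := by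
    rintro σ τ ⟨hσ, h1, h2⟩
    refine ⟨⟨K.M, fun v => K.κ (app σ v), K.bij.comp ?_, fun a b => by rw [app_xr, K.add], fun c hc v => ?_⟩,
      fun _ => rfl⟩
    · exact Function.bijective_iff_has_inverse.2 ⟨app τ, fun v => by rw [← app_comp, h2, id_app],
        fun v => by rw [← app_comp, h1, id_app]⟩
    · have hall : ∀ g : G4, comp σ (K.M.L g) = comp (K.M.L g) σ := fun g => by
        have hg : g ∈ Subgroup.closure (Set.range gen) := by rw [gen_top]; exact Subgroup.mem_top g
        induction hg using Subgroup.closure_induction with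
        | mem x hx => obtain ⟨k, rfl⟩ := hx; rw [K.M.gen_eq, hσ]
        | one => rw [K.M.one, comp_id, id_comp]
        | mul x y _ _ hx hy => rw [K.M.mul, ← comp_assoc, hx, comp_assoc, hy, ← comp_assoc]
        | inv x _ hx =>
          calc comp σ (K.M.L x⁻¹) = comp (comp (K.M.L x⁻¹) (K.M.L x)) (comp σ (K.M.L x⁻¹)) := by
                rw [← K.M.mul, inv_mul_cancel, K.M.one, id_comp]
            _ = comp (K.M.L x⁻¹) (comp (comp σ (K.M.L x)) (K.M.L x⁻¹)) := by
                rw [comp_assoc, ← comp_assoc (K.M.L x) σ, ← hx]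
            _ = _ := by rw [comp_assoc σ, ← K.M.mul, mul_inv_cancel, K.M.one, comp_id]
      rw [K.equiv c hc, ← app_comp, ← app_comp, hall]
  have key : ∀ v w : V8, qT z Q (K.κ (xr v w)) = ((qT z Q (K.κ v) ^^ qT z Q (K.κ w)) ^^ bT z Q (K.κ v) (K.κ w)) :=
    fun v w => by rw [K.add, H.qT_mul]
  have h192 : qT z Q (K.κ 192) = ((qT z Q (K.κ (un 6)) ^^ qT z Q (K.κ (un 7))) ^^ true) := by
    rw [← h67, ← key]; rfl
  have fin : ∀ (β : V8 → V8 → Bool), Bil β → ∀ (σ τ : Lin),
      ((∀ k, comp σ (wL k) = comp (wL k) σ) ∧ comp σ τ = idL ∧ comp τ σ = idL) →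
      (∀ i : Fin 8, i.1 < 6 → app σ (un i) = un i ∧ qq β (un i) = true) →
      (∀ i j : Fin 8, bb β (un i) (un j) = decide (i ≠ j ∧ i.1 / 2 = j.1 / 2)) →
      (qT z Q (K.κ (app σ (un 6))) = qq β (un 6)) → (qT z Q (K.κ (app σ (un 7))) = qq β (un 7)) →
      ∃ K : Kap z Q π wL, (∀ v, qT z Q (K.κ v) = qq β v) ∧ ∀ v w, bT z Q (K.κ v) (K.κ w) = bb β v w := by
    intro β hβ σ τ h hlow hbb h6 h7
    obtain ⟨K', hK'⟩ := change σ τ h
    obtain ⟨F', hi'⟩ := H.kap_form K'
    obtain ⟨-, -, hb'⟩ := F'.wedge_form hi' rfl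
    refine ⟨K', F'.eq_of_units hβ (fun i => ?_) fun i j => (hb' i j).trans (hbb i j).symm⟩
    by_cases h : i.1 < 6
    · rw [hK', (hlow i h).1, (hlow i h).2]
      exact hq i h
    · have e : ∀ i : Fin 8, ¬i.1 < 6 → i = 6 ∨ i = 7 := by decide
      rcases e i h with rfl | rfl
      · rw [hK']; exact h6
      · rw [hK']; exact h7
  cases e6 : qT z Q (K.κ (un 6)) <;> cases e7 : qT z Q (K.κ (un 7))
  · refine ⟨bD, wL, Or.inr (Or.inr ⟨rfl, rfl⟩), fin bD bD_bil idL idL (sigma_check (idL, idL) (by simp))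
      (fun i hi => ⟨id_app _, by rw [(bD_tab i i).2]; simp [hi]⟩) (fun i j => (bD_tab i j).1) ?_ ?_⟩
    · rw [id_app, e6]; rfl
    · rw [id_app, e7]; rfl
  · refine ⟨bD, wL, Or.inr (Or.inr ⟨rfl, rfl⟩), fin bD bD_bil _ _
      (sigma_check (⟨1, 2, 4, 8, 16, 32, 64, 192⟩, ⟨1, 2, 4, 8, 16, 32, 64, 192⟩) (by simp))
      (fun i hi => ⟨by revert hi; revert i; decide +kernel, by rw [(bD_tab i i).2]; simp [hi]⟩)
      (fun i j => (bD_tab i j).1) ?_ ?_⟩
    · exact e6.trans rfl
    · refine Eq.trans (b := qT z Q (K.κ 192)) rfl ?_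
      rw [h192, e6, e7]; rfl
  · refine ⟨bD, wL, Or.inr (Or.inr ⟨rfl, rfl⟩), fin bD bD_bil _ _
      (sigma_check (⟨1, 2, 4, 8, 16, 32, 128, 192⟩, ⟨1, 2, 4, 8, 16, 32, 192, 64⟩) (by simp))
      (fun i hi => ⟨by revert hi; revert i; decide +kernel, by rw [(bD_tab i i).2]; simp [hi]⟩)
      (fun i j => (bD_tab i j).1) ?_ ?_⟩
    · exact e7.trans rfl
    · refine Eq.trans (b := qT z Q (K.κ 192)) rfl ?_
      rw [h192, e6, e7]; rfl
  · refine ⟨bA, wL, Or.inr (Or.inl ⟨rfl, rfl⟩), fin bA bA_bil idL idL (sigma_check (idL, idL) (by simp))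
      (fun i _ => ⟨id_app _, (bA_tab i i).2⟩) (fun i j => (bA_tab i j).1) ?_ ?_⟩
    · rw [id_app, e6]; rfl
    · rw [id_app, e7]; rfl

theorem zp_xor (a b : Bool) : zp z (a ^^ b) = zp z a * zp z b := by
  cases a <;> cases b <;> simp [zp, H.z2]

theorem zp_comm {q : G} (hq : q ∈ Q) (a : Bool) : q * zp z a = zp z a * q := by
  cases a <;> simp [zp, H.st.z_comm hq]

/-- The existence of coordinates. -/
theorem exists_co : ∃ (β : V8 → V8 → Bool) (S : Fin 5 → Lin),
    ((β = bA ∧ S = gL) ∨ (β = bA ∧ S = wL) ∨ (β = bD ∧ S = wL)) ∧ Nonempty (Co z Q π β S) := by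
  obtain ⟨β, S, hcase, K, hq, hb⟩ := H.exists_normal
  have hfac : Bil β ∧ (∀ k i : Fin 8, i.1 < k.1 → β (un k) (un i) = false) ∧
      ∀ k w, lowB β k 8 w = β (un k) w := by
    rcases hcase with ⟨rfl, -⟩ | ⟨rfl, -⟩ | ⟨rfl, -⟩
    exacts [⟨bA_bil, upper_bA, low_bA⟩, ⟨bA_bil, upper_bA, low_bA⟩, ⟨bD_bil, upper_bD, low_bD⟩]
  obtain ⟨hβ, hup, hlow⟩ := hfac
  refine ⟨β, S, hcase, ?_⟩
  let x : Fin 8 → G := fun i => rep Q (K.κ (un i))
  have hx : ∀ i, x i ∈ Q := fun i => rep_mem Q _
  have hsq : ∀ i, x i * x i = zp z (qq β (un i)) := fun i => by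
    have h := H.qT_cl (hx i)
    rw [cl_rep, hq] at h
    rcases H.st.sq_cases (hx i) with e | e
    · rw [e]
      cases e' : qq β (un i)
      · rfl
      · exact absurd ((h.1 e').symm.trans e) H.zne
    · rw [e, h.2 e]; rfl
  have hcom : ∀ i k, x k * x i = zp z (bb β (un k) (un i)) * (x i * x k) := fun i k => by
    have h := H.bT_cl (hx k) (hx i)
    rw [cl_rep, cl_rep, hb] at h
    cases e : bb β (un k) (un i)
    · rw [e] at h
      simp only [Bool.false_eq_true, false_iff, ne_eq, not_not] at h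
      rw [h]; simp [zp]
    · have h2 := (H.anti_iff (hx k) (hx i)).1 (h.1 e)
      rw [mul_inv_eq_iff_eq_mul, mul_assoc] at h2
      exact h2
  have hmem : ∀ n v, prodX x n v ∈ Q := by
    intro n v
    induction n with
    | zero => exact Q.one_mem
    | succ n ih =>
      refine Q.mul_mem ?_ ih
      cases cb v n
      · exact Q.one_mem
      · exact hx _
  have congrX : ∀ n, n ≤ 8 → ∀ (w : V8) (k : Fin 8), n ≤ k.1 → prodX x n (xr w (un k)) = prodX x n w := by
    intro n
    induction n with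
    | zero => intros; rfl
    | succ n ih =>
      intro hn w k hk
      rw [prodX, prodX, ih (by omega) w k (by omega)]
      have := cb_toggle w k ⟨n, by omega⟩
      simp only [show k ≠ ⟨n, by omega⟩ from fun e => by simp [e] at hk, decide_false, Bool.xor_false] at this
      rw [this]
  have lowzero : ∀ (k : Fin 8) n, n ≤ k.1 → ∀ w, lowB β k n w = false := by
    intro k n
    induction n with
    | zero => intros; rfl
    | succ n ih =>
      intro hk w
      rw [lowB, ih (by omega) w, hup k (Fin.ofNat 8 n) (by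
        have := k.2
        simp only [Fin.ofNat, Fin.val_mk]; omega)]
      rfl
  have step : ∀ n, n ≤ 8 → ∀ (k : Fin 8) (w : V8), k.1 < n →
      x k * prodX x n w = zp z (lowB β k n w) * prodX x n (xr w (un k)) := by
    intro n
    induction n with
    | zero => intro _ k w hk; omega
    | succ n ih =>
      intro hn k w hk
      obtain ⟨i, rfl⟩ : ∃ i : Fin 8, n = i.1 := ⟨⟨n, by omega⟩, rfl⟩
      have hi : Fin.ofNat 8 i.1 = i := Fin.ext (Nat.mod_eq_of_lt i.2)
      rw [prodX, prodX, lowB, hi, cb_toggle w k i]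
      by_cases hki : k = i
      · subst hki
        rw [lowzero k k.1 le_rfl w, Bool.xor_false, congrX k.1 (by omega) w k le_rfl, decide_eq_true rfl,
          Bool.xor_true]
        cases cb w k.1
        · simp [zp]
        · simp only [cond_true, Bool.not_true, cond_false, one_mul, Bool.and_true]
          rw [← mul_assoc, hsq]; rfl
      · have hlt : k.1 < i.1 := by
          have : k.1 ≠ i.1 := fun e => hki (Fin.ext e)
          omega
        simp only [hki, decide_false, Bool.xor_false]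
        have hbb : bb β (un k) (un i) = β (un k) (un i) := by
          rw [bb, hup i k hlt, Bool.xor_false]
        cases cb w i.1
        · simp only [cond_false, one_mul, Bool.and_false, Bool.false_xor]
          exact ih (by omega) k w hlt
        · simp only [cond_true, Bool.and_true]
          rw [← mul_assoc, hcom i k, hbb, mul_assoc, mul_assoc, ih (by omega) k w hlt, H.zp_xor]
          simp only [mul_assoc]
          congr 1
          rw [← mul_assoc, H.zp_comm (hx i), mul_assoc]
  have mulv : ∀ n, n ≤ 8 → ∀ v w, prodX x n v * prodX x 8 w =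
      zp z (β (trunc n v) w) * prodX x 8 (xr (trunc n v) w) := by
    intro n
    induction n with
    | zero =>
      intro _ v w
      rw [(trunc_facts v).1, hβ.zero_left, zero_xr]
      simp [prodX, zp]
    | succ n ih =>
      intro hn v w
      obtain ⟨i, rfl⟩ : ∃ i : Fin 8, n = i.1 := ⟨⟨n, by omega⟩, rfl⟩
      have hi : Fin.ofNat 8 i.1 = i := Fin.ext (Nat.mod_eq_of_lt i.2)
      rw [prodX, hi, (trunc_facts v).2.2 i, mul_assoc, ih (by omega) v w]
      cases cb v i.1
      · simp [sel, zero_xr]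
      · simp only [cond_true, sel, hβ.left]
        rw [← mul_assoc, H.zp_comm (hx i), mul_assoc, step 8 le_rfl i _ i.2, hlow, ← mul_assoc, ← H.zp_xor,
          hβ.right, xr_comm (un i) (trunc i.1 v), xr_assoc (trunc i.1 v) (un i) w, xr_comm (un i) w,
          xr_assoc (trunc i.1 v) w (un i)]
        congr 2
        have e0 : β (un i) (trunc i.1 v) = false := by
          rw [← hlow]
          have key : ∀ n, n ≤ 8 → lowB β i n (trunc i.1 v) = false := by
            intro m
            induction m with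
            | zero => intros; rfl
            | succ m ihm =>
              intro hm
              rw [lowB, ihm (by omega), Bool.xor_false]
              by_cases hmi : m < i.1
              · rw [hup i _ (by simp only [Fin.ofNat, Fin.val_mk]; omega)]; rfl
              · have : cb (trunc i.1 v) m = false := by
                  have h2 : (trunc i.1 v).1 < 2 ^ m := by
                    have h3 : v.1 % 2 ^ i.1 % 256 < 2 ^ i.1 :=
                      lt_of_le_of_lt (Nat.mod_le _ _) (Nat.mod_lt _ (by positivity))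
                    exact lt_of_lt_of_le h3 (Nat.pow_le_pow_right (by norm_num) (by omega))
                  exact Nat.testBit_lt_two_pow h2
                rw [this, Bool.and_false]
          exact key 8 le_rfl
        rw [e0]
        cases β (trunc i.1 v) w <;> cases β (un i) w <;> rfl
  let j : V8 → Bool → G := fun v b => zp z b * prodX x 8 v
  have clp : ∀ n, n ≤ 8 → ∀ v, cl Q (prodX x n v) = K.κ (trunc n v) := by
    intro n
    induction n with
    | zero =>
      intro _ v
      have k0 : K.κ 0 = 1 := by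
        have h := K.add 0 0
        rw [xr_self] at h
        exact mul_eq_left.mp h.symm
      rw [(trunc_facts v).1, k0]
      exact cl_one Q
    | succ n ih =>
      intro hn v
      obtain ⟨i, rfl⟩ : ∃ i : Fin 8, n = i.1 := ⟨⟨n, by omega⟩, rfl⟩
      have hi : Fin.ofNat 8 i.1 = i := Fin.ext (Nat.mod_eq_of_lt i.2)
      rw [prodX, hi, (trunc_facts v).2.2 i, K.add, ← ih (by omega)]
      cases cb v i.1
      · have k0 : K.κ 0 = 1 := by
          have h := K.add 0 0
          rw [xr_self] at h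
          exact mul_eq_left.mp h.symm
        simp [sel, k0]
      · simp only [cond_true, sel]
        rw [cl_mul (hx i) (hmem _ _), cl_rep]
  have clj : ∀ v b, j v b ∈ Q ∧ cl Q (j v b) = K.κ v := fun v b => by
    have hz : zp z b ∈ Q := by cases b; exacts [Q.one_mem, H.zQ]
    refine ⟨Q.mul_mem hz (hmem _ _), ?_⟩
    rw [cl_mul hz (hmem _ _), clp 8 le_rfl, (trunc_facts v).2.1]
    cases b <;> simp [zp, cl_one, H.cl_z]
  have jsurj : ∀ q ∈ Q, ∀ v, cl Q q = K.κ v → ∃ b, j v b = q := by
    intro q hq' v hv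
    rw [← (clj v false).2, H.cl_eq_iff hq' (clj v false).1] at hv
    rcases hv with e | e
    · exact ⟨false, e.symm⟩
    · refine ⟨true, ?_⟩
      rw [e]
      show zp z true * _ = z * (zp z false * _)
      simp [zp]
  exact ⟨{
    M := K.M
    j := j
    bil := hβ
    mem := fun v b => (clj v b).1
    surj := fun q hq' => by
      obtain ⟨v, hv⟩ := K.bij.2 (cl Q q)
      exact ⟨v, jsurj q hq' v hv.symm⟩
    inj := fun v b w d e => by
      have hvw : v = w := K.bij.1 (by rw [← (clj v b).2, e, (clj w d).2])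
      subst hvw
      refine ⟨rfl, ?_⟩
      have h := mul_right_cancel e
      cases b <;> cases d <;> simp only [zp, cond_true, cond_false] at h
      exacts [rfl, absurd h.symm H.zne, absurd h H.zne, rfl]
    mul := fun v b w d => by
      show zp z b * prodX x 8 v * (zp z d * prodX x 8 w) = zp z _ * _
      rw [mul_assoc, ← mul_assoc (prodX x 8 v), H.zp_comm (hmem 8 v), mul_assoc, mulv 8 le_rfl,
        (trunc_facts v).2.1, ← mul_assoc, ← mul_assoc, ← H.zp_xor, ← H.zp_xor]
    j_z := by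
      show zp z true * prodX x 8 0 = z
      have : ∀ n, prodX x n 0 = 1 := by
        intro n
        induction n with
        | zero => rfl
        | succ n ih => rw [prodX, ih, cb_zero]; simp
      rw [this]; simp [zp]
    conj := fun c hc v b => by
      have hm : c * j v b * c⁻¹ ∈ Q := H.conjQ hc (clj v b).1
      obtain ⟨d, hd⟩ := jsurj _ hm (app (K.M.L (img z π c)) v)
        (by rw [← H.ac_cl hc (clj v b).1, (clj v b).2, K.equiv c hc])
      exact ⟨d, hd.symm⟩ }⟩

end Pre

end CfsgLib.USixType
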