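import Cfsg.Agent.Lib.USixType.Model

/-!
Finite checks on the classes of involutions of `J ⋊ SU₄(2)`.
-/

set_option autoImplicit false
set_option maxRecDepth 100000

namespace CfsgLib.USixType

/-- Conjugators to the transvections. -/
def tvW : List (List (Fin 5)) := [
  [], [0], [2], [0, 0], [2, 0], [4, 0], [0, 2], [1, 2], [3, 2], [4, 0, 0], [1, 2, 0], [3, 2, 0],
  [4, 2, 0], [0, 4, 0], [1, 0, 2], [3, 0, 2], [4, 0, 2], [3, 1, 2], [3, 1, 2, 0], [4, 1, 2, 0],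
  [4, 3, 2, 0], [3, 1, 0, 2], [4, 1, 0, 2], [4, 3, 0, 2], [0, 4, 0, 2], [2, 3, 1, 2],
  [2, 3, 1, 2, 0], [4, 3, 1, 2, 0], [0, 4, 1, 2, 0], [2, 3, 1, 0, 2], [4, 3, 1, 0, 2],
  [0, 4, 3, 0, 2], [4, 2, 3, 1, 2, 0], [0, 4, 3, 1, 2, 0], [4, 2, 3, 1, 0, 2], [2, 0, 4, 3, 0, 2],
  [0, 4, 2, 3, 1, 2, 0], [2, 0, 4, 3, 1, 2, 0], [0, 4, 2, 3, 1, 0, 2], [0, 2, 0, 4, 3, 0, 2],
  [0, 0, 4, 2, 3, 1, 2, 0], [0, 2, 0, 4, 3, 1, 2, 0], [1, 2, 0, 4, 3, 1, 2, 0],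
  [0, 0, 4, 2, 3, 1, 0, 2], [2, 0, 4, 2, 3, 1, 0, 2]]

/-- Translations in a coset of the fixed vectors of a pair. -/
def shiftT : List V8 := [0, 1, 2, 16, 32, 3, 17, 18, 33, 34, 48, 19, 35, 49, 50, 51]

/-- Generators, with translations, of a large part of the centraliser of a singular type. -/
def singGen : List (V8 × List (Fin 5)) := [
  (34, [0, 2, 0, 4, 2, 3, 2, 0, 0, 2, 0, 0]), (0, [2, 0, 4, 2, 3, 0, 0, 2, 0, 4, 3, 2, 0, 0, 2]),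
  (33, [0, 4, 0, 2, 3, 1, 2, 0, 4, 0]), (0, [4]), (0, [3]), (0, [1])]

/-- Elements of the centraliser of a transvection moving the base singular vector. -/
def singW : List (List (Fin 5)) := [
  [], [0, 2, 0, 4, 0, 2, 0], [0, 4, 0, 2, 0, 4, 0], [0, 4, 3, 0, 2, 0, 4, 0], [2, 0, 0, 2, 0, 0],
  [2, 0, 0, 2, 3, 2, 0, 0, 2, 0], [2, 0, 2, 0], [3, 2, 0, 0, 2, 0, 0], [3, 2, 0, 2, 0]]

/-- Square roots of the representatives. -/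
def rootA : X := xw 0 false [4, 3, 0, 2, 0, 4, 2, 3, 2, 0, 0, 2, 0, 0]
def rootA1 : X := xw 16 false [4, 3, 0, 2, 0, 4, 2, 3, 2, 0, 0, 2, 0, 0]
def rootT : X := xw 0 false [2, 3, 1, 2, 1]

/-- Witnesses for the pair type: two classes with conjugators. -/
def witT : List ((Bool × Bool × List (Fin 5) × V8) × (Bool × Bool × List (Fin 5) × V8)) := [
  ((false, false, [], 0), (false, true, [2, 3, 1, 2], 0)),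
  ((false, false, [2, 3, 1, 2], 0), (false, true, [], 0)),
  ((false, true, [], 0), (false, false, [2, 3, 1, 2], 0)),
  ((false, true, [2, 3, 1, 2], 0), (false, false, [], 0)),
  ((true, true, [0, 4, 0], 16), (true, true, [2, 3, 1, 2, 0, 4, 0], 17)),
  ((true, true, [0, 4, 0], 32), (true, true, [2, 3, 1, 2, 0, 4, 0], 34)),
  ((true, true, [0, 4, 0], 17), (true, true, [2, 3, 1, 2, 0, 4, 0], 16)),
  ((true, true, [0, 4, 0], 34), (true, true, [2, 3, 1, 2, 0, 4, 0], 32)),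
  ((true, true, [0, 4, 0], 48), (true, true, [2, 3, 1, 2, 0, 4, 0], 51)),
  ((true, true, [0, 4, 0], 51), (true, true, [2, 3, 1, 2, 0, 4, 0], 48)),
  ((true, true, [2, 3, 1, 2, 0, 4, 0], 16), (true, true, [0, 4, 0], 17)),
  ((true, true, [2, 3, 1, 2, 0, 4, 0], 32), (true, true, [0, 4, 0], 34)),
  ((true, true, [2, 3, 1, 2, 0, 4, 0], 17), (true, true, [0, 4, 0], 16)),
  ((true, true, [2, 3, 1, 2, 0, 4, 0], 34), (true, true, [0, 4, 0], 32)),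
  ((true, true, [2, 3, 1, 2, 0, 4, 0], 48), (true, true, [0, 4, 0], 51)),
  ((true, true, [2, 3, 1, 2, 0, 4, 0], 51), (true, true, [0, 4, 0], 48)),
  ((false, false, [0, 4, 0], 0), (true, true, [0, 2, 3, 1, 2, 0, 4, 3, 0, 2], 0)),
  ((false, true, [0, 4, 0], 4), (true, true, [0, 2, 3, 1, 2, 0, 4, 3, 0, 2], 50)),
  ((false, true, [0, 4, 0], 8), (true, true, [0, 2, 3, 1, 2, 0, 4, 3, 0, 2], 19)),
  ((false, true, [0, 4, 0], 12), (true, true, [0, 2, 3, 1, 2, 0, 4, 3, 0, 2], 33)),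
  ((true, true, [0, 2, 3, 1, 2, 0, 4, 3, 0, 2], 0), (false, false, [0, 4, 0], 0)),
  ((true, true, [0, 2, 3, 1, 2, 0, 4, 3, 0, 2], 33), (false, true, [0, 4, 0], 12)),
  ((true, true, [0, 2, 3, 1, 2, 0, 4, 3, 0, 2], 19), (false, true, [0, 4, 0], 8)),
  ((true, true, [0, 2, 3, 1, 2, 0, 4, 3, 0, 2], 50), (false, true, [0, 4, 0], 4)),
  ((false, false, [0, 2, 0, 4, 3, 1, 2, 0], 0), (true, true, [2, 0, 4, 2, 0, 0, 2], 0)),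
  ((false, false, [2, 0, 4, 2, 3, 1, 0, 2], 0), (true, true, [2, 0, 0, 4, 2, 0, 2], 0)),
  ((false, true, [0, 2, 0, 4, 3, 1, 2, 0], 4), (true, true, [2, 0, 4, 2, 0, 0, 2], 35)),
  ((false, true, [0, 2, 0, 4, 3, 1, 2, 0], 8), (true, true, [2, 0, 4, 2, 0, 0, 2], 49)),
  ((false, true, [0, 2, 0, 4, 3, 1, 2, 0], 12), (true, true, [2, 0, 4, 2, 0, 0, 2], 18)),
  ((false, true, [2, 0, 4, 2, 3, 1, 0, 2], 4), (true, true, [2, 0, 0, 4, 2, 0, 2], 33)),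
  ((false, true, [2, 0, 4, 2, 3, 1, 0, 2], 8), (true, true, [2, 0, 0, 4, 2, 0, 2], 50)),
  ((false, true, [2, 0, 4, 2, 3, 1, 0, 2], 12), (true, true, [2, 0, 0, 4, 2, 0, 2], 19)),
  ((true, true, [2, 0, 4, 2, 0, 0, 2], 0), (false, false, [0, 2, 0, 4, 3, 1, 2, 0], 0)),
  ((true, true, [2, 0, 4, 2, 0, 0, 2], 18), (false, true, [0, 2, 0, 4, 3, 1, 2, 0], 12)),
  ((true, true, [2, 0, 4, 2, 0, 0, 2], 35), (false, true, [0, 2, 0, 4, 3, 1, 2, 0], 4)),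
  ((true, true, [2, 0, 4, 2, 0, 0, 2], 49), (false, true, [0, 2, 0, 4, 3, 1, 2, 0], 8)),
  ((true, true, [2, 0, 0, 4, 2, 0, 2], 0), (false, false, [2, 0, 4, 2, 3, 1, 0, 2], 0)),
  ((true, true, [2, 0, 0, 4, 2, 0, 2], 33), (false, true, [2, 0, 4, 2, 3, 1, 0, 2], 4)),
  ((true, true, [2, 0, 0, 4, 2, 0, 2], 19), (false, true, [2, 0, 4, 2, 3, 1, 0, 2], 12)),
  ((true, true, [2, 0, 0, 4, 2, 0, 2], 50), (false, true, [2, 0, 4, 2, 3, 1, 0, 2], 8)),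
  ((true, true, [0, 2, 0, 4, 0, 2, 0], 1), (true, true, [2, 3, 0, 0, 2, 0, 0, 4, 3, 2, 0, 0], 51))]

/-- Quadruples with product the representative. -/
def quadA : List (List (List (Fin 5) × V8)) := [
  [([2, 3, 1, 0, 2], 0), ([0, 4, 1, 2, 0], 4), ([4, 2, 3, 1, 2, 0], 4), ([0, 4, 3, 0, 2], 8)],
  [([2, 3, 1, 0, 2], 0), ([4, 2, 3, 1, 2, 0], 12), ([0, 4, 3, 0, 2], 4), ([0, 4, 1, 2, 0], 12)],
  [([0, 4, 0, 2], 0), ([2, 3, 1, 2, 0], 8), ([4, 2, 3, 1, 0, 2], 4), ([0, 4, 3, 1, 2, 0], 8)],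
  [([2, 3, 1, 2, 0], 0), ([4, 2, 3, 1, 0, 2], 12), ([0, 4, 0, 2], 12), ([0, 4, 3, 1, 2, 0], 8)],
  [([0, 4, 3, 1, 2, 0], 0), ([2, 3, 1, 2, 0], 8), ([0, 4, 0, 2], 12), ([4, 2, 3, 1, 0, 2], 8)],
  [([2, 3, 1, 2, 0], 0), ([0, 4, 3, 1, 2, 0], 12), ([4, 2, 3, 1, 0, 2], 4), ([0, 4, 0, 2], 4)],
  [([4, 2, 3, 1, 0, 2], 0), ([0, 4, 0, 2], 8), ([2, 3, 1, 2, 0], 12), ([0, 4, 3, 1, 2, 0], 8)],
  [([0, 4, 1, 2, 0], 0), ([4, 2, 3, 1, 2, 0], 12), ([2, 3, 1, 0, 2], 8), ([0, 4, 3, 0, 2], 8)],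
  [([0, 4, 1, 2, 0], 0), ([2, 3, 1, 0, 2], 4), ([0, 4, 3, 0, 2], 4), ([4, 2, 3, 1, 2, 0], 8)],
  [([0, 4, 3, 0, 2], 0), ([2, 3, 1, 0, 2], 4), ([4, 2, 3, 1, 2, 0], 4), ([0, 4, 1, 2, 0], 12)],
  [([0, 4, 3, 1, 2, 0], 0), ([0, 4, 0, 2], 8), ([4, 2, 3, 1, 0, 2], 4), ([2, 3, 1, 2, 0], 4)],
  [([0, 4, 0, 2], 0), ([4, 2, 3, 1, 0, 2], 12), ([0, 4, 3, 1, 2, 0], 4), ([2, 3, 1, 2, 0], 4)],
  [([0, 4, 0, 2], 0), ([0, 4, 3, 1, 2, 0], 12), ([2, 3, 1, 2, 0], 12), ([4, 2, 3, 1, 0, 2], 8)],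
  [([0, 4, 3, 0, 2], 0), ([0, 4, 1, 2, 0], 4), ([2, 3, 1, 0, 2], 8), ([4, 2, 3, 1, 2, 0], 8)]]

/-- The representative of a class with trivial vector. -/
def repX (k b : Bool) : X := xw 0 b (repW k)

/-- A class over the transvections, tabulated. -/
def alF : List X := [
  ⟨0, false, ⟨4, 8, 1, 2, 16, 32, 64, 128⟩⟩,
  ⟨5, true, ⟨4, 8, 1, 2, 16, 32, 64, 128⟩⟩,
  ⟨10, true, ⟨4, 8, 1, 2, 16, 32, 64, 128⟩⟩,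
  ⟨15, true, ⟨4, 8, 1, 2, 16, 32, 64, 128⟩⟩,
  ⟨0, false, ⟨8, 12, 3, 1, 16, 32, 64, 128⟩⟩,
  ⟨14, true, ⟨8, 12, 3, 1, 16, 32, 64, 128⟩⟩,
  ⟨7, true, ⟨8, 12, 3, 1, 16, 32, 64, 128⟩⟩,
  ⟨9, true, ⟨8, 12, 3, 1, 16, 32, 64, 128⟩⟩,
  ⟨0, false, ⟨16, 32, 4, 8, 1, 2, 64, 128⟩⟩,
  ⟨17, true, ⟨16, 32, 4, 8, 1, 2, 64, 128⟩⟩,
  ⟨34, true, ⟨16, 32, 4, 8, 1, 2, 64, 128⟩⟩,
  ⟨51, true, ⟨16, 32, 4, 8, 1, 2, 64, 128⟩⟩,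
  ⟨0, false, ⟨12, 4, 2, 3, 16, 32, 64, 128⟩⟩,
  ⟨11, true, ⟨12, 4, 2, 3, 16, 32, 64, 128⟩⟩,
  ⟨13, true, ⟨12, 4, 2, 3, 16, 32, 64, 128⟩⟩,
  ⟨6, true, ⟨12, 4, 2, 3, 16, 32, 64, 128⟩⟩,
  ⟨0, false, ⟨32, 48, 4, 8, 3, 1, 64, 128⟩⟩,
  ⟨50, true, ⟨32, 48, 4, 8, 3, 1, 64, 128⟩⟩,
  ⟨19, true, ⟨32, 48, 4, 8, 3, 1, 64, 128⟩⟩,
  ⟨33, true, ⟨32, 48, 4, 8, 3, 1, 64, 128⟩⟩,
  ⟨0, false, ⟨172, 244, 242, 83, 75, 141, 27, 45⟩⟩,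
  ⟨91, true, ⟨172, 244, 242, 83, 75, 141, 27, 45⟩⟩,
  ⟨173, true, ⟨172, 244, 242, 83, 75, 141, 27, 45⟩⟩,
  ⟨246, true, ⟨172, 244, 242, 83, 75, 141, 27, 45⟩⟩,
  ⟨0, false, ⟨48, 16, 4, 8, 2, 3, 64, 128⟩⟩,
  ⟨18, true, ⟨48, 16, 4, 8, 2, 3, 64, 128⟩⟩,
  ⟨35, true, ⟨48, 16, 4, 8, 2, 3, 64, 128⟩⟩,
  ⟨49, true, ⟨48, 16, 4, 8, 2, 3, 64, 128⟩⟩,
  ⟨0, false, ⟨1, 2, 16, 32, 4, 8, 64, 128⟩⟩,
  ⟨20, true, ⟨1, 2, 16, 32, 4, 8, 64, 128⟩⟩,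
  ⟨40, true, ⟨1, 2, 16, 32, 4, 8, 64, 128⟩⟩,
  ⟨60, true, ⟨1, 2, 16, 32, 4, 8, 64, 128⟩⟩,
  ⟨0, false, ⟨64, 128, 4, 8, 16, 32, 1, 2⟩⟩,
  ⟨65, true, ⟨64, 128, 4, 8, 16, 32, 1, 2⟩⟩,
  ⟨130, true, ⟨64, 128, 4, 8, 16, 32, 1, 2⟩⟩,
  ⟨195, true, ⟨64, 128, 4, 8, 16, 32, 1, 2⟩⟩,
  ⟨0, false, ⟨248, 92, 163, 241, 78, 135, 30, 39⟩⟩,
  ⟨94, true, ⟨248, 92, 163, 241, 78, 135, 30, 39⟩⟩,
  ⟨167, true, ⟨248, 92, 163, 241, 78, 135, 30, 39⟩⟩,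
  ⟨249, true, ⟨248, 92, 163, 241, 78, 135, 30, 39⟩⟩,
  ⟨0, false, ⟨1, 2, 32, 48, 12, 4, 64, 128⟩⟩,
  ⟨56, true, ⟨1, 2, 32, 48, 12, 4, 64, 128⟩⟩,
  ⟨28, true, ⟨1, 2, 32, 48, 12, 4, 64, 128⟩⟩,
  ⟨36, true, ⟨1, 2, 32, 48, 12, 4, 64, 128⟩⟩,
  ⟨0, false, ⟨128, 192, 4, 8, 16, 32, 3, 1⟩⟩,
  ⟨194, true, ⟨128, 192, 4, 8, 16, 32, 3, 1⟩⟩,
  ⟨67, true, ⟨128, 192, 4, 8, 16, 32, 3, 1⟩⟩,
  ⟨129, true, ⟨128, 192, 4, 8, 16, 32, 3, 1⟩⟩,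
  ⟨0, false, ⟨184, 220, 99, 177, 206, 71, 39, 57⟩⟩,
  ⟨103, true, ⟨184, 220, 99, 177, 206, 71, 39, 57⟩⟩,
  ⟨185, true, ⟨184, 220, 99, 177, 206, 71, 39, 57⟩⟩,
  ⟨222, true, ⟨184, 220, 99, 177, 206, 71, 39, 57⟩⟩,
  ⟨0, false, ⟨84, 168, 81, 162, 69, 138, 21, 42⟩⟩,
  ⟨85, true, ⟨84, 168, 81, 162, 69, 138, 21, 42⟩⟩,
  ⟨170, true, ⟨84, 168, 81, 162, 69, 138, 21, 42⟩⟩,
  ⟨255, true, ⟨84, 168, 81, 162, 69, 138, 21, 42⟩⟩,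
  ⟨0, false, ⟨1, 2, 48, 16, 8, 12, 64, 128⟩⟩,
  ⟨24, true, ⟨1, 2, 48, 16, 8, 12, 64, 128⟩⟩,
  ⟨44, true, ⟨1, 2, 48, 16, 8, 12, 64, 128⟩⟩,
  ⟨52, true, ⟨1, 2, 48, 16, 8, 12, 64, 128⟩⟩,
  ⟨0, false, ⟨192, 64, 4, 8, 16, 32, 2, 3⟩⟩,
  ⟨66, true, ⟨192, 64, 4, 8, 16, 32, 2, 3⟩⟩,
  ⟨131, true, ⟨192, 64, 4, 8, 16, 32, 2, 3⟩⟩,
  ⟨193, true, ⟨192, 64, 4, 8, 16, 32, 2, 3⟩⟩,
  ⟨0, false, ⟨236, 116, 114, 147, 139, 205, 54, 27⟩⟩,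
  ⟨237, true, ⟨236, 116, 114, 147, 139, 205, 54, 27⟩⟩,
  ⟨118, true, ⟨236, 116, 114, 147, 139, 205, 54, 27⟩⟩,
  ⟨155, true, ⟨236, 116, 114, 147, 139, 205, 54, 27⟩⟩,
  ⟨0, false, ⟨1, 2, 64, 128, 16, 32, 4, 8⟩⟩,
  ⟨68, true, ⟨1, 2, 64, 128, 16, 32, 4, 8⟩⟩,
  ⟨136, true, ⟨1, 2, 64, 128, 16, 32, 4, 8⟩⟩,
  ⟨204, true, ⟨1, 2, 64, 128, 16, 32, 4, 8⟩⟩,
  ⟨0, false, ⟨1, 2, 128, 192, 16, 32, 12, 4⟩⟩,
  ⟨200, true, ⟨1, 2, 128, 192, 16, 32, 12, 4⟩⟩,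
  ⟨76, true, ⟨1, 2, 128, 192, 16, 32, 12, 4⟩⟩,
  ⟨132, true, ⟨1, 2, 128, 192, 16, 32, 12, 4⟩⟩,
  ⟨0, false, ⟨108, 180, 178, 211, 203, 77, 45, 54⟩⟩,
  ⟨109, true, ⟨108, 180, 178, 211, 203, 77, 45, 54⟩⟩,
  ⟨182, true, ⟨108, 180, 178, 211, 203, 77, 45, 54⟩⟩,
  ⟨219, true, ⟨108, 180, 178, 211, 203, 77, 45, 54⟩⟩,
  ⟨0, false, ⟨232, 124, 147, 225, 135, 201, 62, 23⟩⟩,
  ⟨151, true, ⟨232, 124, 147, 225, 135, 201, 62, 23⟩⟩,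
  ⟨233, true, ⟨232, 124, 147, 225, 135, 201, 62, 23⟩⟩,
  ⟨126, true, ⟨232, 124, 147, 225, 135, 201, 62, 23⟩⟩,
  ⟨0, false, ⟨1, 2, 192, 64, 16, 32, 8, 12⟩⟩,
  ⟨72, true, ⟨1, 2, 192, 64, 16, 32, 8, 12⟩⟩,
  ⟨140, true, ⟨1, 2, 192, 64, 16, 32, 8, 12⟩⟩,
  ⟨196, true, ⟨1, 2, 192, 64, 16, 32, 8, 12⟩⟩,
  ⟨0, false, ⟨120, 156, 227, 113, 142, 199, 57, 30⟩⟩,
  ⟨231, true, ⟨120, 156, 227, 113, 142, 199, 57, 30⟩⟩,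
  ⟨121, true, ⟨120, 156, 227, 113, 142, 199, 57, 30⟩⟩,
  ⟨158, true, ⟨120, 156, 227, 113, 142, 199, 57, 30⟩⟩,
  ⟨0, false, ⟨188, 212, 210, 99, 198, 75, 43, 61⟩⟩,
  ⟨189, true, ⟨188, 212, 210, 99, 198, 75, 43, 61⟩⟩,
  ⟨214, true, ⟨188, 212, 210, 99, 198, 75, 43, 61⟩⟩,
  ⟨107, true, ⟨188, 212, 210, 99, 198, 75, 43, 61⟩⟩,
  ⟨0, false, ⟨148, 232, 145, 226, 133, 202, 63, 21⟩⟩,
  ⟨234, true, ⟨148, 232, 145, 226, 133, 202, 63, 21⟩⟩,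
  ⟨127, true, ⟨148, 232, 145, 226, 133, 202, 63, 21⟩⟩,
  ⟨149, true, ⟨148, 232, 145, 226, 133, 202, 63, 21⟩⟩,
  ⟨0, false, ⟨1, 2, 4, 8, 64, 128, 16, 32⟩⟩,
  ⟨80, true, ⟨1, 2, 4, 8, 64, 128, 16, 32⟩⟩,
  ⟨160, true, ⟨1, 2, 4, 8, 64, 128, 16, 32⟩⟩,
  ⟨240, true, ⟨1, 2, 4, 8, 64, 128, 16, 32⟩⟩,
  ⟨0, false, ⟨1, 2, 4, 8, 128, 192, 48, 16⟩⟩,
  ⟨224, true, ⟨1, 2, 4, 8, 128, 192, 48, 16⟩⟩,
  ⟨112, true, ⟨1, 2, 4, 8, 128, 192, 48, 16⟩⟩,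
  ⟨144, true, ⟨1, 2, 4, 8, 128, 192, 48, 16⟩⟩,
  ⟨0, false, ⟨156, 228, 226, 115, 141, 198, 59, 29⟩⟩,
  ⟨157, true, ⟨156, 228, 226, 115, 141, 198, 59, 29⟩⟩,
  ⟨230, true, ⟨156, 228, 226, 115, 141, 198, 59, 29⟩⟩,
  ⟨123, true, ⟨156, 228, 226, 115, 141, 198, 59, 29⟩⟩,
  ⟨0, false, ⟨212, 104, 209, 98, 197, 74, 42, 63⟩⟩,
  ⟨106, true, ⟨212, 104, 209, 98, 197, 74, 42, 63⟩⟩,
  ⟨191, true, ⟨212, 104, 209, 98, 197, 74, 42, 63⟩⟩,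
  ⟨213, true, ⟨212, 104, 209, 98, 197, 74, 42, 63⟩⟩,
  ⟨0, false, ⟨1, 2, 4, 8, 192, 64, 32, 48⟩⟩,
  ⟨96, true, ⟨1, 2, 4, 8, 192, 64, 32, 48⟩⟩,
  ⟨176, true, ⟨1, 2, 4, 8, 192, 64, 32, 48⟩⟩,
  ⟨208, true, ⟨1, 2, 4, 8, 192, 64, 32, 48⟩⟩,
  ⟨0, false, ⟨216, 108, 179, 209, 201, 78, 46, 55⟩⟩,
  ⟨183, true, ⟨216, 108, 179, 209, 201, 78, 46, 55⟩⟩,
  ⟨217, true, ⟨216, 108, 179, 209, 201, 78, 46, 55⟩⟩,
  ⟨110, true, ⟨216, 108, 179, 209, 201, 78, 46, 55⟩⟩,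
  ⟨0, false, ⟨100, 184, 97, 178, 207, 69, 37, 58⟩⟩,
  ⟨186, true, ⟨100, 184, 97, 178, 207, 69, 37, 58⟩⟩,
  ⟨223, true, ⟨100, 184, 97, 178, 207, 69, 37, 58⟩⟩,
  ⟨101, true, ⟨100, 184, 97, 178, 207, 69, 37, 58⟩⟩,
  ⟨0, false, ⟨180, 216, 177, 210, 202, 79, 47, 53⟩⟩,
  ⟨181, true, ⟨180, 216, 177, 210, 202, 79, 47, 53⟩⟩,
  ⟨218, true, ⟨180, 216, 177, 210, 202, 79, 47, 53⟩⟩,
  ⟨111, true, ⟨180, 216, 177, 210, 202, 79, 47, 53⟩⟩,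
  ⟨0, false, ⟨116, 152, 113, 146, 138, 207, 53, 26⟩⟩,
  ⟨154, true, ⟨116, 152, 113, 146, 138, 207, 53, 26⟩⟩,
  ⟨239, true, ⟨116, 152, 113, 146, 138, 207, 53, 26⟩⟩,
  ⟨117, true, ⟨116, 152, 113, 146, 138, 207, 53, 26⟩⟩,
  ⟨0, false, ⟨228, 120, 225, 114, 143, 197, 58, 31⟩⟩,
  ⟨159, true, ⟨228, 120, 225, 114, 143, 197, 58, 31⟩⟩,
  ⟨229, true, ⟨228, 120, 225, 114, 143, 197, 58, 31⟩⟩,
  ⟨122, true, ⟨228, 120, 225, 114, 143, 197, 58, 31⟩⟩,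
  ⟨0, false, ⟨88, 172, 243, 81, 73, 142, 25, 46⟩⟩,
  ⟨174, true, ⟨88, 172, 243, 81, 73, 142, 25, 46⟩⟩,
  ⟨247, true, ⟨88, 172, 243, 81, 73, 142, 25, 46⟩⟩,
  ⟨89, true, ⟨88, 172, 243, 81, 73, 142, 25, 46⟩⟩,
  ⟨0, false, ⟨104, 188, 211, 97, 199, 73, 41, 62⟩⟩,
  ⟨190, true, ⟨104, 188, 211, 97, 199, 73, 41, 62⟩⟩,
  ⟨215, true, ⟨104, 188, 211, 97, 199, 73, 41, 62⟩⟩,
  ⟨105, true, ⟨104, 188, 211, 97, 199, 73, 41, 62⟩⟩,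
  ⟨0, false, ⟨92, 164, 162, 243, 77, 134, 29, 38⟩⟩,
  ⟨166, true, ⟨92, 164, 162, 243, 77, 134, 29, 38⟩⟩,
  ⟨251, true, ⟨92, 164, 162, 243, 77, 134, 29, 38⟩⟩,
  ⟨93, true, ⟨92, 164, 162, 243, 77, 134, 29, 38⟩⟩,
  ⟨0, false, ⟨152, 236, 115, 145, 137, 206, 55, 25⟩⟩,
  ⟨153, true, ⟨152, 236, 115, 145, 137, 206, 55, 25⟩⟩,
  ⟨238, true, ⟨152, 236, 115, 145, 137, 206, 55, 25⟩⟩,
  ⟨119, true, ⟨152, 236, 115, 145, 137, 206, 55, 25⟩⟩,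
  ⟨0, false, ⟨252, 84, 82, 163, 70, 139, 22, 43⟩⟩,
  ⟨171, true, ⟨252, 84, 82, 163, 70, 139, 22, 43⟩⟩,
  ⟨253, true, ⟨252, 84, 82, 163, 70, 139, 22, 43⟩⟩,
  ⟨86, true, ⟨252, 84, 82, 163, 70, 139, 22, 43⟩⟩,
  ⟨0, false, ⟨220, 100, 98, 179, 205, 70, 38, 59⟩⟩,
  ⟨187, true, ⟨220, 100, 98, 179, 205, 70, 38, 59⟩⟩,
  ⟨221, true, ⟨220, 100, 98, 179, 205, 70, 38, 59⟩⟩,
  ⟨102, true, ⟨220, 100, 98, 179, 205, 70, 38, 59⟩⟩,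
  ⟨0, false, ⟨244, 88, 241, 82, 74, 143, 26, 47⟩⟩,
  ⟨175, true, ⟨244, 88, 241, 82, 74, 143, 26, 47⟩⟩,
  ⟨245, true, ⟨244, 88, 241, 82, 74, 143, 26, 47⟩⟩,
  ⟨90, true, ⟨244, 88, 241, 82, 74, 143, 26, 47⟩⟩,
  ⟨0, false, ⟨168, 252, 83, 161, 71, 137, 23, 41⟩⟩,
  ⟨169, true, ⟨168, 252, 83, 161, 71, 137, 23, 41⟩⟩,
  ⟨254, true, ⟨168, 252, 83, 161, 71, 137, 23, 41⟩⟩,
  ⟨87, true, ⟨168, 252, 83, 161, 71, 137, 23, 41⟩⟩,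
  ⟨0, false, ⟨124, 148, 146, 227, 134, 203, 61, 22⟩⟩,
  ⟨150, true, ⟨124, 148, 146, 227, 134, 203, 61, 22⟩⟩,
  ⟨235, true, ⟨124, 148, 146, 227, 134, 203, 61, 22⟩⟩,
  ⟨125, true, ⟨124, 148, 146, 227, 134, 203, 61, 22⟩⟩,
  ⟨0, false, ⟨164, 248, 161, 242, 79, 133, 31, 37⟩⟩,
  ⟨165, true, ⟨164, 248, 161, 242, 79, 133, 31, 37⟩⟩,
  ⟨250, true, ⟨164, 248, 161, 242, 79, 133, 31, 37⟩⟩,
  ⟨95, true, ⟨164, 248, 161, 242, 79, 133, 31, 37⟩⟩]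

/-- A class over the transvections, tabulated. -/
def alT : List X := [
  ⟨0, true, ⟨4, 8, 1, 2, 16, 32, 64, 128⟩⟩,
  ⟨5, false, ⟨4, 8, 1, 2, 16, 32, 64, 128⟩⟩,
  ⟨10, false, ⟨4, 8, 1, 2, 16, 32, 64, 128⟩⟩,
  ⟨15, false, ⟨4, 8, 1, 2, 16, 32, 64, 128⟩⟩,
  ⟨0, true, ⟨8, 12, 3, 1, 16, 32, 64, 128⟩⟩,
  ⟨14, false, ⟨8, 12, 3, 1, 16, 32, 64, 128⟩⟩,
  ⟨7, false, ⟨8, 12, 3, 1, 16, 32, 64, 128⟩⟩,
  ⟨9, false, ⟨8, 12, 3, 1, 16, 32, 64, 128⟩⟩,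
  ⟨0, true, ⟨16, 32, 4, 8, 1, 2, 64, 128⟩⟩,
  ⟨17, false, ⟨16, 32, 4, 8, 1, 2, 64, 128⟩⟩,
  ⟨34, false, ⟨16, 32, 4, 8, 1, 2, 64, 128⟩⟩,
  ⟨51, false, ⟨16, 32, 4, 8, 1, 2, 64, 128⟩⟩,
  ⟨0, true, ⟨12, 4, 2, 3, 16, 32, 64, 128⟩⟩,
  ⟨11, false, ⟨12, 4, 2, 3, 16, 32, 64, 128⟩⟩,
  ⟨13, false, ⟨12, 4, 2, 3, 16, 32, 64, 128⟩⟩,
  ⟨6, false, ⟨12, 4, 2, 3, 16, 32, 64, 128⟩⟩,
  ⟨0, true, ⟨32, 48, 4, 8, 3, 1, 64, 128⟩⟩,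
  ⟨50, false, ⟨32, 48, 4, 8, 3, 1, 64, 128⟩⟩,
  ⟨19, false, ⟨32, 48, 4, 8, 3, 1, 64, 128⟩⟩,
  ⟨33, false, ⟨32, 48, 4, 8, 3, 1, 64, 128⟩⟩,
  ⟨0, true, ⟨172, 244, 242, 83, 75, 141, 27, 45⟩⟩,
  ⟨91, false, ⟨172, 244, 242, 83, 75, 141, 27, 45⟩⟩,
  ⟨173, false, ⟨172, 244, 242, 83, 75, 141, 27, 45⟩⟩,
  ⟨246, false, ⟨172, 244, 242, 83, 75, 141, 27, 45⟩⟩,
  ⟨0, true, ⟨48, 16, 4, 8, 2, 3, 64, 128⟩⟩,
  ⟨18, false, ⟨48, 16, 4, 8, 2, 3, 64, 128⟩⟩,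
  ⟨35, false, ⟨48, 16, 4, 8, 2, 3, 64, 128⟩⟩,
  ⟨49, false, ⟨48, 16, 4, 8, 2, 3, 64, 128⟩⟩,
  ⟨0, true, ⟨1, 2, 16, 32, 4, 8, 64, 128⟩⟩,
  ⟨20, false, ⟨1, 2, 16, 32, 4, 8, 64, 128⟩⟩,
  ⟨40, false, ⟨1, 2, 16, 32, 4, 8, 64, 128⟩⟩,
  ⟨60, false, ⟨1, 2, 16, 32, 4, 8, 64, 128⟩⟩,
  ⟨0, true, ⟨64, 128, 4, 8, 16, 32, 1, 2⟩⟩,
  ⟨65, false, ⟨64, 128, 4, 8, 16, 32, 1, 2⟩⟩,
  ⟨130, false, ⟨64, 128, 4, 8, 16, 32, 1, 2⟩⟩,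
  ⟨195, false, ⟨64, 128, 4, 8, 16, 32, 1, 2⟩⟩,
  ⟨0, true, ⟨248, 92, 163, 241, 78, 135, 30, 39⟩⟩,
  ⟨94, false, ⟨248, 92, 163, 241, 78, 135, 30, 39⟩⟩,
  ⟨167, false, ⟨248, 92, 163, 241, 78, 135, 30, 39⟩⟩,
  ⟨249, false, ⟨248, 92, 163, 241, 78, 135, 30, 39⟩⟩,
  ⟨0, true, ⟨1, 2, 32, 48, 12, 4, 64, 128⟩⟩,
  ⟨56, false, ⟨1, 2, 32, 48, 12, 4, 64, 128⟩⟩,
  ⟨28, false, ⟨1, 2, 32, 48, 12, 4, 64, 128⟩⟩,
  ⟨36, false, ⟨1, 2, 32, 48, 12, 4, 64, 128⟩⟩,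
  ⟨0, true, ⟨128, 192, 4, 8, 16, 32, 3, 1⟩⟩,
  ⟨194, false, ⟨128, 192, 4, 8, 16, 32, 3, 1⟩⟩,
  ⟨67, false, ⟨128, 192, 4, 8, 16, 32, 3, 1⟩⟩,
  ⟨129, false, ⟨128, 192, 4, 8, 16, 32, 3, 1⟩⟩,
  ⟨0, true, ⟨184, 220, 99, 177, 206, 71, 39, 57⟩⟩,
  ⟨103, false, ⟨184, 220, 99, 177, 206, 71, 39, 57⟩⟩,
  ⟨185, false, ⟨184, 220, 99, 177, 206, 71, 39, 57⟩⟩,
  ⟨222, false, ⟨184, 220, 99, 177, 206, 71, 39, 57⟩⟩,
  ⟨0, true, ⟨84, 168, 81, 162, 69, 138, 21, 42⟩⟩,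
  ⟨85, false, ⟨84, 168, 81, 162, 69, 138, 21, 42⟩⟩,
  ⟨170, false, ⟨84, 168, 81, 162, 69, 138, 21, 42⟩⟩,
  ⟨255, false, ⟨84, 168, 81, 162, 69, 138, 21, 42⟩⟩,
  ⟨0, true, ⟨1, 2, 48, 16, 8, 12, 64, 128⟩⟩,
  ⟨24, false, ⟨1, 2, 48, 16, 8, 12, 64, 128⟩⟩,
  ⟨44, false, ⟨1, 2, 48, 16, 8, 12, 64, 128⟩⟩,
  ⟨52, false, ⟨1, 2, 48, 16, 8, 12, 64, 128⟩⟩,
  ⟨0, true, ⟨192, 64, 4, 8, 16, 32, 2, 3⟩⟩,
  ⟨66, false, ⟨192, 64, 4, 8, 16, 32, 2, 3⟩⟩,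
  ⟨131, false, ⟨192, 64, 4, 8, 16, 32, 2, 3⟩⟩,
  ⟨193, false, ⟨192, 64, 4, 8, 16, 32, 2, 3⟩⟩,
  ⟨0, true, ⟨236, 116, 114, 147, 139, 205, 54, 27⟩⟩,
  ⟨237, false, ⟨236, 116, 114, 147, 139, 205, 54, 27⟩⟩,
  ⟨118, false, ⟨236, 116, 114, 147, 139, 205, 54, 27⟩⟩,
  ⟨155, false, ⟨236, 116, 114, 147, 139, 205, 54, 27⟩⟩,
  ⟨0, true, ⟨1, 2, 64, 128, 16, 32, 4, 8⟩⟩,
  ⟨68, false, ⟨1, 2, 64, 128, 16, 32, 4, 8⟩⟩,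
  ⟨136, false, ⟨1, 2, 64, 128, 16, 32, 4, 8⟩⟩,
  ⟨204, false, ⟨1, 2, 64, 128, 16, 32, 4, 8⟩⟩,
  ⟨0, true, ⟨1, 2, 128, 192, 16, 32, 12, 4⟩⟩,
  ⟨200, false, ⟨1, 2, 128, 192, 16, 32, 12, 4⟩⟩,
  ⟨76, false, ⟨1, 2, 128, 192, 16, 32, 12, 4⟩⟩,
  ⟨132, false, ⟨1, 2, 128, 192, 16, 32, 12, 4⟩⟩,
  ⟨0, true, ⟨108, 180, 178, 211, 203, 77, 45, 54⟩⟩,
  ⟨109, false, ⟨108, 180, 178, 211, 203, 77, 45, 54⟩⟩,
  ⟨182, false, ⟨108, 180, 178, 211, 203, 77, 45, 54⟩⟩,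
  ⟨219, false, ⟨108, 180, 178, 211, 203, 77, 45, 54⟩⟩,
  ⟨0, true, ⟨232, 124, 147, 225, 135, 201, 62, 23⟩⟩,
  ⟨151, false, ⟨232, 124, 147, 225, 135, 201, 62, 23⟩⟩,
  ⟨233, false, ⟨232, 124, 147, 225, 135, 201, 62, 23⟩⟩,
  ⟨126, false, ⟨232, 124, 147, 225, 135, 201, 62, 23⟩⟩,
  ⟨0, true, ⟨1, 2, 192, 64, 16, 32, 8, 12⟩⟩,
  ⟨72, false, ⟨1, 2, 192, 64, 16, 32, 8, 12⟩⟩,
  ⟨140, false, ⟨1, 2, 192, 64, 16, 32, 8, 12⟩⟩,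
  ⟨196, false, ⟨1, 2, 192, 64, 16, 32, 8, 12⟩⟩,
  ⟨0, true, ⟨120, 156, 227, 113, 142, 199, 57, 30⟩⟩,
  ⟨231, false, ⟨120, 156, 227, 113, 142, 199, 57, 30⟩⟩,
  ⟨121, false, ⟨120, 156, 227, 113, 142, 199, 57, 30⟩⟩,
  ⟨158, false, ⟨120, 156, 227, 113, 142, 199, 57, 30⟩⟩,
  ⟨0, true, ⟨188, 212, 210, 99, 198, 75, 43, 61⟩⟩,
  ⟨189, false, ⟨188, 212, 210, 99, 198, 75, 43, 61⟩⟩,
  ⟨214, false, ⟨188, 212, 210, 99, 198, 75, 43, 61⟩⟩,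
  ⟨107, false, ⟨188, 212, 210, 99, 198, 75, 43, 61⟩⟩,
  ⟨0, true, ⟨148, 232, 145, 226, 133, 202, 63, 21⟩⟩,
  ⟨234, false, ⟨148, 232, 145, 226, 133, 202, 63, 21⟩⟩,
  ⟨127, false, ⟨148, 232, 145, 226, 133, 202, 63, 21⟩⟩,
  ⟨149, false, ⟨148, 232, 145, 226, 133, 202, 63, 21⟩⟩,
  ⟨0, true, ⟨1, 2, 4, 8, 64, 128, 16, 32⟩⟩,
  ⟨80, false, ⟨1, 2, 4, 8, 64, 128, 16, 32⟩⟩,
  ⟨160, false, ⟨1, 2, 4, 8, 64, 128, 16, 32⟩⟩,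
  ⟨240, false, ⟨1, 2, 4, 8, 64, 128, 16, 32⟩⟩,
  ⟨0, true, ⟨1, 2, 4, 8, 128, 192, 48, 16⟩⟩,
  ⟨224, false, ⟨1, 2, 4, 8, 128, 192, 48, 16⟩⟩,
  ⟨112, false, ⟨1, 2, 4, 8, 128, 192, 48, 16⟩⟩,
  ⟨144, false, ⟨1, 2, 4, 8, 128, 192, 48, 16⟩⟩,
  ⟨0, true, ⟨156, 228, 226, 115, 141, 198, 59, 29⟩⟩,
  ⟨157, false, ⟨156, 228, 226, 115, 141, 198, 59, 29⟩⟩,
  ⟨230, false, ⟨156, 228, 226, 115, 141, 198, 59, 29⟩⟩,
  ⟨123, false, ⟨156, 228, 226, 115, 141, 198, 59, 29⟩⟩,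
  ⟨0, true, ⟨212, 104, 209, 98, 197, 74, 42, 63⟩⟩,
  ⟨106, false, ⟨212, 104, 209, 98, 197, 74, 42, 63⟩⟩,
  ⟨191, false, ⟨212, 104, 209, 98, 197, 74, 42, 63⟩⟩,
  ⟨213, false, ⟨212, 104, 209, 98, 197, 74, 42, 63⟩⟩,
  ⟨0, true, ⟨1, 2, 4, 8, 192, 64, 32, 48⟩⟩,
  ⟨96, false, ⟨1, 2, 4, 8, 192, 64, 32, 48⟩⟩,
  ⟨176, false, ⟨1, 2, 4, 8, 192, 64, 32, 48⟩⟩,
  ⟨208, false, ⟨1, 2, 4, 8, 192, 64, 32, 48⟩⟩,
  ⟨0, true, ⟨216, 108, 179, 209, 201, 78, 46, 55⟩⟩,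
  ⟨183, false, ⟨216, 108, 179, 209, 201, 78, 46, 55⟩⟩,
  ⟨217, false, ⟨216, 108, 179, 209, 201, 78, 46, 55⟩⟩,
  ⟨110, false, ⟨216, 108, 179, 209, 201, 78, 46, 55⟩⟩,
  ⟨0, true, ⟨100, 184, 97, 178, 207, 69, 37, 58⟩⟩,
  ⟨186, false, ⟨100, 184, 97, 178, 207, 69, 37, 58⟩⟩,
  ⟨223, false, ⟨100, 184, 97, 178, 207, 69, 37, 58⟩⟩,
  ⟨101, false, ⟨100, 184, 97, 178, 207, 69, 37, 58⟩⟩,
  ⟨0, true, ⟨180, 216, 177, 210, 202, 79, 47, 53⟩⟩,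
  ⟨181, false, ⟨180, 216, 177, 210, 202, 79, 47, 53⟩⟩,
  ⟨218, false, ⟨180, 216, 177, 210, 202, 79, 47, 53⟩⟩,
  ⟨111, false, ⟨180, 216, 177, 210, 202, 79, 47, 53⟩⟩,
  ⟨0, true, ⟨116, 152, 113, 146, 138, 207, 53, 26⟩⟩,
  ⟨154, false, ⟨116, 152, 113, 146, 138, 207, 53, 26⟩⟩,
  ⟨239, false, ⟨116, 152, 113, 146, 138, 207, 53, 26⟩⟩,
  ⟨117, false, ⟨116, 152, 113, 146, 138, 207, 53, 26⟩⟩,
  ⟨0, true, ⟨228, 120, 225, 114, 143, 197, 58, 31⟩⟩,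
  ⟨159, false, ⟨228, 120, 225, 114, 143, 197, 58, 31⟩⟩,
  ⟨229, false, ⟨228, 120, 225, 114, 143, 197, 58, 31⟩⟩,
  ⟨122, false, ⟨228, 120, 225, 114, 143, 197, 58, 31⟩⟩,
  ⟨0, true, ⟨88, 172, 243, 81, 73, 142, 25, 46⟩⟩,
  ⟨174, false, ⟨88, 172, 243, 81, 73, 142, 25, 46⟩⟩,
  ⟨247, false, ⟨88, 172, 243, 81, 73, 142, 25, 46⟩⟩,
  ⟨89, false, ⟨88, 172, 243, 81, 73, 142, 25, 46⟩⟩,
  ⟨0, true, ⟨104, 188, 211, 97, 199, 73, 41, 62⟩⟩,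
  ⟨190, false, ⟨104, 188, 211, 97, 199, 73, 41, 62⟩⟩,
  ⟨215, false, ⟨104, 188, 211, 97, 199, 73, 41, 62⟩⟩,
  ⟨105, false, ⟨104, 188, 211, 97, 199, 73, 41, 62⟩⟩,
  ⟨0, true, ⟨92, 164, 162, 243, 77, 134, 29, 38⟩⟩,
  ⟨166, false, ⟨92, 164, 162, 243, 77, 134, 29, 38⟩⟩,
  ⟨251, false, ⟨92, 164, 162, 243, 77, 134, 29, 38⟩⟩,
  ⟨93, false, ⟨92, 164, 162, 243, 77, 134, 29, 38⟩⟩,
  ⟨0, true, ⟨152, 236, 115, 145, 137, 206, 55, 25⟩⟩,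
  ⟨153, false, ⟨152, 236, 115, 145, 137, 206, 55, 25⟩⟩,
  ⟨238, false, ⟨152, 236, 115, 145, 137, 206, 55, 25⟩⟩,
  ⟨119, false, ⟨152, 236, 115, 145, 137, 206, 55, 25⟩⟩,
  ⟨0, true, ⟨252, 84, 82, 163, 70, 139, 22, 43⟩⟩,
  ⟨171, false, ⟨252, 84, 82, 163, 70, 139, 22, 43⟩⟩,
  ⟨253, false, ⟨252, 84, 82, 163, 70, 139, 22, 43⟩⟩,
  ⟨86, false, ⟨252, 84, 82, 163, 70, 139, 22, 43⟩⟩,
  ⟨0, true, ⟨220, 100, 98, 179, 205, 70, 38, 59⟩⟩,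
  ⟨187, false, ⟨220, 100, 98, 179, 205, 70, 38, 59⟩⟩,
  ⟨221, false, ⟨220, 100, 98, 179, 205, 70, 38, 59⟩⟩,
  ⟨102, false, ⟨220, 100, 98, 179, 205, 70, 38, 59⟩⟩,
  ⟨0, true, ⟨244, 88, 241, 82, 74, 143, 26, 47⟩⟩,
  ⟨175, false, ⟨244, 88, 241, 82, 74, 143, 26, 47⟩⟩,
  ⟨245, false, ⟨244, 88, 241, 82, 74, 143, 26, 47⟩⟩,
  ⟨90, false, ⟨244, 88, 241, 82, 74, 143, 26, 47⟩⟩,
  ⟨0, true, ⟨168, 252, 83, 161, 71, 137, 23, 41⟩⟩,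
  ⟨169, false, ⟨168, 252, 83, 161, 71, 137, 23, 41⟩⟩,
  ⟨254, false, ⟨168, 252, 83, 161, 71, 137, 23, 41⟩⟩,
  ⟨87, false, ⟨168, 252, 83, 161, 71, 137, 23, 41⟩⟩,
  ⟨0, true, ⟨124, 148, 146, 227, 134, 203, 61, 22⟩⟩,
  ⟨150, false, ⟨124, 148, 146, 227, 134, 203, 61, 22⟩⟩,
  ⟨235, false, ⟨124, 148, 146, 227, 134, 203, 61, 22⟩⟩,
  ⟨125, false, ⟨124, 148, 146, 227, 134, 203, 61, 22⟩⟩,
  ⟨0, true, ⟨164, 248, 161, 242, 79, 133, 31, 37⟩⟩,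
  ⟨165, false, ⟨164, 248, 161, 242, 79, 133, 31, 37⟩⟩,
  ⟨250, false, ⟨164, 248, 161, 242, 79, 133, 31, 37⟩⟩,
  ⟨95, false, ⟨164, 248, 161, 242, 79, 133, 31, 37⟩⟩]

/-- The classes over the transvections. -/
def AList (b : Bool) : List X := cond b alT alF

theorem alist_def : ∀ b : Bool, AList b =
    tvW.flatMap fun w => ([0, 4, 8, 12] : List V8).map fun u => cjX w u (repX false b) := by
  decide +kernel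

/-- A certified member of a class. -/
def certX (c : Bool × Bool × List (Fin 5) × V8) : X := cjX c.2.2.1 c.2.2.2 (repX c.1 c.2.1)

/-- The members commuting with the pair type representative. -/
def lhsT : List X := ((AList false ++ AList true).filter fun x => xcom x (repX true true))

/-- The members of the second class commuting with its representative. -/
def setA : List X := (AList true).filter fun x => xcom x (repX false true)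

/-- The images of these. -/
def imgA : List Lin := (setA.map X.L).dedup

/-- Products of pairs with equal image. -/
def pairA : List (Lin × V8) :=
  setA.flatMap fun p => (setA.filter fun q => q.L == p.L && q != p).map fun q => (p.L, (xmul p q).v)

/-- The fixed singular vectors off the line. -/
def singV : List V8 :=
  (List.finRange 256).filter fun v => app (gL 1) v == v && !qq bA v && !([0, 5, 10, 15].contains v)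

/-- A membership test with an early exit. -/
def memX (l : List X) (t : X) : Bool := l.any fun y => Nat.beq y.v.1 t.v.1 && decide (y = t)

/-- The closure check on one member. -/
def closedAt (b : Bool) (x : X) : Bool :=
  ((List.finRange 5).all fun k => memX (AList b) (cjX [k] 0 x)) &&
    (List.finRange 8).all fun i => memX (AList b) (cjX [] (un i) x)

theorem all_split {α : Type*} {p : α → Bool} (n : ℕ) {l : List α} (h1 : (l.take n).all p = true)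
    (h2 : (l.drop n).all p = true) : l.all p = true := by
  rw [← List.take_append_drop n l, List.all_append, h1, h2]; rfl

-- the check is cut into quarters to bound the memory of the kernel
theorem alist_closed_ft : (((AList false).take 90).take 45).all (closedAt false) = true := by decide +kernel
theorem alist_closed_fd : (((AList false).take 90).drop 45).all (closedAt false) = true := by decide +kernel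
theorem alist_closed_gt : (((AList false).drop 90).take 45).all (closedAt false) = true := by decide +kernel
theorem alist_closed_gd : (((AList false).drop 90).drop 45).all (closedAt false) = true := by decide +kernel
theorem alist_closed_tt : (((AList true).take 90).take 45).all (closedAt true) = true := by decide +kernel
theorem alist_closed_td : (((AList true).take 90).drop 45).all (closedAt true) = true := by decide +kernel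
theorem alist_closed_ut : (((AList true).drop 90).take 45).all (closedAt true) = true := by decide +kernel
theorem alist_closed_ud : (((AList true).drop 90).drop 45).all (closedAt true) = true := by decide +kernel

theorem alist_closed : ∀ b : Bool, (AList b).all (fun x =>
    ((List.finRange 5).all fun k => memX (AList b) (cjX [k] 0 x)) &&
      (List.finRange 8).all fun i => memX (AList b) (cjX [] (un i) x)) = true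
  | false => all_split 90 (all_split 45 alist_closed_ft alist_closed_fd) (all_split 45 alist_closed_gt alist_closed_gd)
  | true => all_split 90 (all_split 45 alist_closed_tt alist_closed_td) (all_split 45 alist_closed_ut alist_closed_ud)

theorem alist_base : ∀ b : Bool, (AList b).contains (repX false b) = true ∧
    (AList b).contains (xw 0 b [3]) = true := by
  decide +kernel

theorem norm_trans : ∀ v : V8, app (gL 1) v = v → qq bA v = false →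
    (∃ u : V8, xr (xr u v) (app (gL 1) u) = 0) ∨ singV.contains v = true := by
  decide +kernel

theorem norm_pair : ∀ v : V8, app (linW gL [1, 3]) v = v →
    ∃ u : V8, xr (xr u v) (app (linW gL [1, 3]) u) = 0 := by
  decide +kernel

theorem sing_base : ∀ v : V8, singV.contains v = true →
    ∃ w ∈ singW, ∃ u : V8, app (linW gL w) 80 = xr (xr u v) (app (gL 1) u) := by
  decide +kernel

theorem singW_cent : ∀ w ∈ singW, linW gL (w ++ [1] ++ invW w) = gL 1 := by decide +kernel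

theorem sing_flip : ∃ u : V8, app (gL 1) u = u ∧ bb bA u 80 = true := ⟨128, by decide +kernel⟩

theorem sing_gen : ∀ b : Bool, singGen.all (fun p => xcom (xw p.1 false p.2) (xw 80 b [1])) = true := by
  decide +kernel

theorem sing_grp : decide (plist gL (singGen.map Prod.snd)).Nodup &&
    (singGen.map Prod.snd).all (fun w => (plist gL (singGen.map Prod.snd)).all fun L =>
      (plist gL (singGen.map Prod.snd)).contains (comp (linW gL w) L)) = true := by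
  decide +kernel

theorem sing_ker : ((List.finRange 256).filter fun u => app (gL 1) u == u && !bb bA u 80).length = 32 := by
  decide +kernel

theorem pair_fix : ((List.finRange 256).filter fun u => app (linW gL [1, 3]) u == u).length = 16 := by
  decide +kernel

theorem fix_witness : ∀ v : V8, app (gL 1) v = v →
    ∃ u : V8, app (gL 1) u = u ∧ qq bA u = true ∧ bb bA u v = false := by
  decide +kernel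

theorem root_sing : (plist gL (sylPg gL)).all (fun L =>
    decide (comp L L = idL) || !decide (comp (comp L L) (comp L L) = idL) ||
      ((List.finRange 256).filter fun u => app (comp L L) u == u).length == 16 ||
      (List.finRange 256).all fun w =>
        let x := xr w (app L w)
        app (comp L L) x != x || qq bA x ||
          (0 :: ((List.finRange 8).map un ++ (List.finRange 8).flatMap fun i =>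
            (List.finRange 8).map fun j => xr (un i) (un j))).any (fun u => x == xr u (app (comp L L) u))) = true := by
  decide +kernel

theorem trans_count : ((List.finRange 256).filter fun u => app (gL 1) u == u).length = 64 := by
  decide +kernel

theorem sylow_central : (plist gL (sylPg gL)).all (fun L =>
    !(decide (comp L L = idL) && (plist gL (sylPg gL)).all fun M => decide (comp L M = comp M L)) ||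
      decide (L = idL) || (List.finRange 256).any fun u => app L u == u && qq bA u) = true := by
  decide +kernel

theorem root_facts : xmul rootA rootA = repX false false ∧ xmul rootA1 rootA1 = repX false true ∧
    xmul rootT rootT = repX true false := by
  decide +kernel

theorem witT_ok : witT.all (fun p => xcom (certX p.1) (repX true true) &&
    decide (xmul (repX true true) (certX p.1) = certX p.2)) = true ∧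
    (witT.map fun p => certX p.1).Nodup ∧ witT.length = 41 ∧
    witT.any (fun p => p.1.1 && p.1.2.1 && p.2.1 && p.2.2.1) = true ∧
    (witT.all fun p => certX p.1 != repX true true) = true := by
  decide +kernel

theorem lhsT_len : lhsT.length = 40 := by decide +kernel

theorem setA_facts : imgA.length = 13 ∧ imgA.all (fun L => (setA.filter fun x => x.L == L).length == 4) = true := by
  decide +kernel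

theorem imgA_quad : imgA.all (fun L1 => imgA.all fun L2 => imgA.all fun L3 =>
    let L4 := comp (comp L1 L2) L3
    !(decide (comp L1 L2 = comp L2 L1) && decide (comp L1 L3 = comp L3 L1) && decide (comp L2 L3 = comp L3 L2) &&
      imgA.contains L4) ||
      decide ((L1 = L2 ∧ L3 = L4) ∨ (L1 = L3 ∧ L2 = L4) ∨ (L1 = L4 ∧ L2 = L3))) = true := by
  decide +kernel

theorem pairA_lines : pairA.all (fun d => pairA.all fun e => d.1 == e.1 || d.2 != e.2) = true := by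
  decide +kernel

theorem quadA_ok : quadA.all (fun q =>
    let xs := q.map fun c => cjX c.1 c.2 (repX false true)
    decide (xs.length = 4) && decide xs.Nodup && decide (xs.foldr xmul xone = repX false true) &&
      (xs.all fun x => xs.all fun y => xcom x y) &&
      xs.all fun x => xcom x (repX false true) && x != repX false true) = true ∧
    quadA.length = 14 ∧
    (List.finRange 14).all (fun i => (List.finRange 14).all fun j => decide (i = j) ||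
      ((quadA.getD i []).any fun c => !((quadA.getD j []).map fun d => cjX d.1 d.2 (repX false true)).contains
        (cjX c.1 c.2 (repX false true)))) = true := by
  decide +kernel

end CfsgLib.USixType
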