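import Cfsg.Agent.Lib.USixType.ClassData

/-!
Finite checks on the transpositions commuting with `z`.
-/

set_option autoImplicit false
set_option maxRecDepth 100000

namespace CfsgLib.USixType

/-- The base transposition. -/
def xbase : X := repX false false

/-- The members of the class commuting with the base one. -/
def setF : List X := (AList false).filter fun x => xcom x xbase

/-- The same, with the centre. -/
def setZ : List X := setF ++ [xz]

/-- The other three on the five-point line through the base one and another. -/
def fiveT : List (ℕ × ℕ × ℕ × ℕ) := [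
  (1, 2, 3, 52), (2, 1, 3, 52), (3, 1, 2, 52), (4, 12, 44, 48), (5, 13, 47, 51),
  (6, 14, 45, 49), (7, 15, 46, 50), (8, 16, 36, 40), (9, 17, 38, 42), (10, 18, 39, 43),
  (11, 19, 37, 41), (12, 4, 44, 48), (13, 5, 47, 51), (14, 6, 45, 49), (15, 7, 46, 50),
  (16, 8, 36, 40), (17, 9, 38, 42), (18, 10, 39, 43), (19, 11, 37, 41), (20, 24, 28, 32),
  (21, 25, 31, 35), (22, 26, 29, 33), (23, 27, 30, 34), (24, 20, 28, 32), (25, 21, 31, 35),
  (26, 22, 29, 33), (27, 23, 30, 34), (28, 20, 24, 32), (29, 22, 26, 33), (30, 23, 27, 34),
  (31, 21, 25, 35), (32, 20, 24, 28), (33, 22, 26, 29), (34, 23, 27, 30), (35, 21, 25, 31),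
  (36, 8, 16, 40), (37, 11, 19, 41), (38, 9, 17, 42), (39, 10, 18, 43), (40, 8, 16, 36),
  (41, 11, 19, 37), (42, 9, 17, 38), (43, 10, 18, 39), (44, 4, 12, 48), (45, 6, 14, 49),
  (46, 7, 15, 50), (47, 5, 13, 51), (48, 4, 12, 44), (49, 6, 14, 45), (50, 7, 15, 46),
  (51, 5, 13, 47)]

/-- A product of a list. -/
def xprod (l : List X) : X := l.foldr xmul xone

/-- The other members over the base transvection. -/
def lineF : List X := [⟨5, true, gL 1⟩, ⟨10, true, gL 1⟩, ⟨15, true, gL 1⟩]

/-- No decomposition into two commuting transpositions. -/
def noDec (u : X) : Bool :=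
  !(memX (AList false) (xmul xz u)) && (AList false).all fun d => !(memX (AList false) (xmul d u))

theorem ord_three : (AList false).all (fun x =>
    xcom xbase x || decide (xprod [xbase, x, xbase, x, xbase, x] = xone)) = true := by
  decide +kernel

theorem common_nbr : (AList false).all (fun x => setF.any fun e => xcom e x) = true := by decide +kernel

theorem noncomm_conn : (AList false).all (fun x =>
    !xcom xbase x || (AList false).any fun e => !xcom xbase e && !xcom x e) = true := by
  decide +kernel

theorem apart : (AList false).all (fun x =>
    xcom x xbase || setF.any fun b => b != xbase && !xcom b x) = true := by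
  decide +kernel

/-- The check on a row of the table. -/
def fiveOK (e d f g : X) : Bool :=
  decide [xbase, e, d, f, g].Nodup && ([xbase, e, d, f, g].all fun x => [xbase, e, d, f, g].all fun y => xcom x y) &&
    decide (xprod [xbase, e, d, f, g] = xone) &&
    (AList false).all fun t => xcom t xbase || xcom t e || xcom t d || xcom t f || xcom t g

/-- The table covers an element. -/
def fiveRow (e : X) (r : ℕ × ℕ × ℕ × ℕ) : Bool :=
  (setZ.getD r.1 xz == e) && fiveOK e (setZ.getD r.2.1 xz) (setZ.getD r.2.2.1 xz) (setZ.getD r.2.2.2 xz)

theorem five_cover_0 : ((setF.take 26).take 13).all (fun e => e == xbase || fiveT.any (fiveRow e)) = true := by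
  decide +kernel
theorem five_cover_1 : ((setF.take 26).drop 13).all (fun e => e == xbase || fiveT.any (fiveRow e)) = true := by
  decide +kernel
theorem five_cover_2 : ((setF.drop 26).take 13).all (fun e => e == xbase || fiveT.any (fiveRow e)) = true := by
  decide +kernel
theorem five_cover_3 : ((setF.drop 26).drop 13).all (fun e => e == xbase || fiveT.any (fiveRow e)) = true := by
  decide +kernel

theorem five_cover : setF.all (fun e => e == xbase || fiveT.any (fiveRow e)) = true :=
  all_split 26 (all_split 13 five_cover_0 five_cover_1) (all_split 13 five_cover_2 five_cover_3)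

theorem fibre_four : setF.all (fun d => setF.all fun f =>
    d == xbase || f == xbase || f == d || !xcom d f ||
      (let g := xprod [f, d, xbase, xz]
       !(memX setF g) || g == xbase || g == d || g == f) || d.L == xbase.L) = true := by
  decide +kernel

theorem fibre_perp : setF.all (fun x => x.L != xbase.L || setF.all fun y => xcom x y) = true := by
  decide +kernel

theorem line_perp : (AList false).all (fun x =>
    !(setF.all fun y => xcom x y) || x == xbase || lineF.contains x) = true := by
  decide +kernel

theorem lineF_facts : lineF.all (fun x => setF.contains x && x != xbase && x.L == xbase.L) = true ∧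
    lineF.Nodup ∧ xprod (xz :: xbase :: lineF) = xone := by
  decide +kernel

theorem pair_unique : setF.all (fun d => d == xbase || !(memX (AList false) (xprod [d, xz, xbase]))) = true := by
  decide +kernel

theorem second_kind :
    noDec (xprod [repX true true, (AList false).getD 1 xz]) = true ∧
    xcom (repX true true) ((AList false).getD 1 xz) = true ∧
    xprod [repX true true, xz] = xprod [xbase, xw 0 false [3]] ∧
    (AList false).contains (xw 0 false [3]) = true ∧ xcom xbase (xw 0 false [3]) = true ∧
    xbase ≠ xw 0 false [3] := by
  decide +kernel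

theorem sing_kind : ∀ b : Bool,
    noDec (xprod [xw 80 b [1], xz]) = true ∧ xcom (xw 80 b [1]) xbase = true ∧
    (let d := (AList false).getD (cond b 100 102) xz
     let e := (AList false).getD (cond b 101 103) xz
     decide (xprod [xw 80 b [1], xbase] = xprod [d, e]) && xcom d e && d != e) = true := by
  decide +kernel

theorem j_kinds : xprod [xbase, (AList false).getD 1 xz] = xw 5 true [] ∧
    (AList false).getD 1 xz ≠ xbase ∧ xcom xbase ((AList false).getD 1 xz) = true ∧
    (∃ u : V8, cjX [] u (xw 5 false []) = xw 5 true []) := by
  refine ⟨by decide +kernel, by decide +kernel, by decide +kernel, ?_⟩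
  decide +kernel

theorem sing_points : ∀ v : V8, v ≠ 0 → qq bA v = false →
    ∃ p ∈ tvTab, app (linW gL p.2) 5 = v := by
  decide +kernel

theorem span_pairs : ∀ i : Fin 8, ∃ x ∈ AList false, ∃ y ∈ AList false,
    un i = xr x.v y.v := by
  decide +kernel

/-- The generators as products of transpositions. -/
def genT : Fin 5 → List ℕ := ![[0, 4], [0], [28], [100], [52]]

theorem gen_flips : ∀ k : Fin 5, xprod ((genT k).map fun i => (AList false).getD i xone) = xw 0 false [k] := by
  decide +kernel

theorem alist_len : (AList false).length = 180 ∧ (AList false).Nodup := by decide +kernel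

end CfsgLib.USixType
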