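import Cfsg.Agent.Lib.USixType.Fusion
import Cfsg.Agent.Lib.USixType.FischerData

/-!
The connected component of `z` among its conjugates: any two members have a common neighbour.
-/

set_option autoImplicit false
set_option linter.unusedSectionVars false
set_option linter.style.haveILetI false
set_option maxRecDepth 100000

open Cfsg CfsgLib.Extraspecial

namespace CfsgLib.USixType

/-- A conjugate of `z` commuting with it, not equal to it. -/
def Adj {G : Type*} [Group G] (z a : G) : Prop := a ∈ Cz z ∧ IsK z a ∧ a ≠ z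

/-- The conjugates at distance at most two. -/
def Comp {G : Type*} [Group G] (z : G) : Set G :=
  {x | IsK z x ∧ ∃ a, IsK z a ∧ Commute z a ∧ Commute a x}

/-- Five points of a line. -/
def Five {G : Type*} [Group G] (z : G) (l : List G) : Prop :=
  (∀ x ∈ l, IsK z x) ∧ l.Nodup ∧ (∀ x ∈ l, ∀ y ∈ l, Commute x y) ∧ l.prod = 1

section Basic

variable {G : Type*} [Group G] {z : G}

theorem commute_cj {g x y : G} : Commute (g * x * g⁻¹) (g * y * g⁻¹) ↔ Commute x y := Commute.conj_iff g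

theorem commute_z {a : G} : Commute z a ↔ a ∈ Cz z := by
  rw [mem_Cz]
  exact ⟨fun h => h.eq.symm, fun h => h.symm⟩

theorem isK_self : IsK z z := ⟨1, by group⟩

theorem Adj.conj {a c : G} (h : Adj z a) (hc : c ∈ Cz z) : Adj z (c * a * c⁻¹) := by
  obtain ⟨h1, h2, h3⟩ := h
  refine ⟨(Cz z).mul_mem ((Cz z).mul_mem hc h1) ((Cz z).inv_mem hc), h2.conj c, fun e => h3 ?_⟩
  calc a = c⁻¹ * (c * a * c⁻¹) * c := by group
    _ = z := by rw [e]; rw [mul_assoc, ← mem_Cz.1 hc]; group

theorem Five.conj {l : List G} (h : Five z l) (g : G) : Five z (l.map fun x => g * x * g⁻¹) := by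
  obtain ⟨h1, h2, h3, h4⟩ := h
  refine ⟨?_, h2.map fun x y e => mul_left_cancel (mul_right_cancel e), ?_, ?_⟩
  · intro x hx
    obtain ⟨y, hy, rfl⟩ := List.mem_map.1 hx
    exact (h1 y hy).conj g
  · intro x hx y hy
    obtain ⟨u, hu, rfl⟩ := List.mem_map.1 hx
    obtain ⟨w, hw, rfl⟩ := List.mem_map.1 hy
    exact commute_cj.2 (h3 u hu w hw)
  · rw [show (fun x => g * x * g⁻¹) = ⇑(MulAut.conj g).toMonoidHom from rfl, List.prod_hom, h4, map_one]

theorem Five.perm {l l' : List G} (h : Five z l) (hp : l.Perm l') : Five z l' := by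
  obtain ⟨h1, h2, h3, h4⟩ := h
  refine ⟨fun x hx => h1 x (hp.mem_iff.2 hx), hp.nodup_iff.1 h2,
    fun x hx y hy => h3 x (hp.mem_iff.2 hx) y (hp.mem_iff.2 hy), ?_⟩
  rw [← h4]
  exact (hp.prod_eq' (List.pairwise_of_forall_mem_list fun x hx y hy => h3 x hx y hy)).symm

theorem Comp.isK {x : G} (h : x ∈ Comp z) : IsK z x := h.1

theorem z_comp : z ∈ Comp z := ⟨isK_self, z, isK_self, Commute.refl z, Commute.refl z⟩

theorem comp_of_commute {x : G} (hK : IsK z x) (h : Commute z x) : x ∈ Comp z :=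
  ⟨hK, z, isK_self, Commute.refl z, h⟩

end Basic

namespace Sp

variable {G : Type*} [Group G] [Finite G] {z : G} {Q : Subgroup G} {π : ↥(Cz z) →* G4} (T : Sp z Q π)
  (H : Pre z Q π) (hni : ∃ g : G, g * z * g⁻¹ ∈ Cz z ∧ g * z * g⁻¹ ≠ z)
include T H hni

theorem adj_den {a : G} : Adj z a ↔ ∃ x ∈ AList false, T.Den x a := T.classes H hni a

theorem adj_base : Adj z (T.rp false false) :=
  (T.adj_den H hni).2 ⟨_, List.contains_iff_mem.1 (alist_base false).1, T.den_rp false false⟩

theorem adj_norm {a : G} (h : Adj z a) : ∃ c ∈ Cz z, c * a * c⁻¹ = T.rp false false :=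
  (T.sim_iff H).2 ((T.adj_den H hni).1 h)

theorem den_setF {a : G} (h : Adj z a) (hc : Commute (T.rp false false) a) :
    ∃ x ∈ setF, T.Den x a := by
  obtain ⟨x, hx, hd⟩ := (T.adj_den H hni).1 h
  exact ⟨x, List.mem_filter.2 ⟨hx, (T.den_com H hd (T.den_rp false false)).2 hc.eq.symm⟩, hd⟩

theorem setF_den {x : X} (hx : x ∈ setF) :
    ∃ a, T.Den x a ∧ Adj z a ∧ Commute (T.rp false false) a := by
  obtain ⟨hx1, hx2⟩ := List.mem_filter.1 hx
  obtain ⟨w, -, u, -, e⟩ : ∃ w ∈ tvW, ∃ u ∈ ([0, 4, 8, 12] : List V8), cjX w u (repX false false) = x := by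
    have h := alist_def false ▸ hx1
    obtain ⟨w, hw, h⟩ := List.mem_flatMap.1 h
    obtain ⟨u, hu, e⟩ := List.mem_map.1 h
    exact ⟨w, hw, u, hu, e⟩
  subst e
  refine ⟨_, T.den_cjX w u (T.den_rp false false),
    (T.adj_den H hni).2 ⟨_, hx1, T.den_cjX w u (T.den_rp false false)⟩, ?_⟩
  exact ((T.den_com H (T.den_cjX w u (T.den_rp false false)) (T.den_rp false false)).1 hx2).symm

theorem alist_den {x : X} (hx : x ∈ AList false) : ∃ a, T.Den x a ∧ Adj z a := by
  have h := alist_def false ▸ hx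
  obtain ⟨w, -, h⟩ := List.mem_flatMap.1 h
  obtain ⟨u, -, e⟩ := List.mem_map.1 h
  subst e
  exact ⟨_, T.den_cjX w u (T.den_rp false false), (T.adj_den H hni).2 ⟨_, hx, T.den_cjX w u (T.den_rp false false)⟩⟩

theorem den_prod : ∀ {l : List X} {m : List G}, List.Forall₂ (fun x a => T.Den x a) l m →
    T.Den (xprod l) m.prod := by
  intro l m h
  induction h with
  | nil => exact T.den_one
  | cons h _ ih => exact T.den_mul h ih

theorem ord_adj {a b : G} (ha : Adj z a) (hb : Adj z b) : Commute a b ∨ (a * b) ^ 3 = 1 := by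
  obtain ⟨c, hc, hca⟩ := T.adj_norm H hni ha
  obtain ⟨x, hx, hd⟩ := (T.adj_den H hni).1 (hb.conj hc)
  have h := List.all_eq_true.1 ord_three x hx
  rw [Bool.or_eq_true, decide_eq_true_eq] at h
  have hr := T.den_rp false false
  rcases h with h | h
  · left
    rw [← commute_cj (g := c), hca]
    exact (T.den_com H hr hd).1 h
  · right
    have h2 : T.Den (xprod [xbase, x, xbase, x, xbase, x])
        [T.rp false false, c * b * c⁻¹, T.rp false false, c * b * c⁻¹, T.rp false false, c * b * c⁻¹].prod :=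
      T.den_prod H hni (.cons hr (.cons hd (.cons hr (.cons hd (.cons hr (.cons hd .nil))))))
    have := T.den_fun (h ▸ h2) T.den_one
    rw [← hca] at this
    simp only [List.prod_cons, List.prod_nil, mul_one] at this
    refine (conj_eq_one_iff (a := c)).1 ?_
    rw [← this, pow_succ, pow_two]
    group

theorem common_adj {a b : G} (ha : Adj z a) (hb : Adj z b) :
    ∃ e, Adj z e ∧ Commute a e ∧ Commute b e := by
  obtain ⟨c, hc, hca⟩ := T.adj_norm H hni ha
  obtain ⟨x, hx, hd⟩ := (T.adj_den H hni).1 (hb.conj hc)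
  obtain ⟨y, hy, hyx⟩ := List.any_eq_true.1 (List.all_eq_true.1 common_nbr x hx)
  obtain ⟨e, he, heA, hec⟩ := T.setF_den H hni hy
  refine ⟨c⁻¹ * e * c⁻¹⁻¹, heA.conj ((Cz z).inv_mem hc), ?_, ?_⟩ <;> rw [← commute_cj (g := c),
    show c * (c⁻¹ * e * c⁻¹⁻¹) * c⁻¹ = e by group]
  · rw [hca]; exact hec
  · exact ((T.den_com H he hd).1 hyx).symm

theorem noncomm_adj {a b : G} (ha : Adj z a) (hb : Adj z b) (hab : Commute a b) :
    ∃ e, Adj z e ∧ ¬ Commute a e ∧ ¬ Commute b e := by
  obtain ⟨c, hc, hca⟩ := T.adj_norm H hni ha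
  obtain ⟨x, hx, hd⟩ := (T.adj_den H hni).1 (hb.conj hc)
  have hxb : xcom xbase x = true := (T.den_com H (T.den_rp false false) hd).2 (by
    rw [← hca]; exact (commute_cj.2 hab).eq)
  have h := List.all_eq_true.1 noncomm_conn x hx
  rw [hxb, Bool.not_true, Bool.false_or, List.any_eq_true] at h
  obtain ⟨y, hy, h⟩ := h
  simp only [Bool.and_eq_true, Bool.not_eq_true'] at h
  obtain ⟨e, he, heA⟩ := T.alist_den H hni hy
  refine ⟨c⁻¹ * e * c⁻¹⁻¹, heA.conj ((Cz z).inv_mem hc), ?_, ?_⟩ <;> intro hcom <;>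
    rw [← commute_cj (g := c), show c * (c⁻¹ * e * c⁻¹⁻¹) * c⁻¹ = e by group] at hcom
  · rw [hca] at hcom
    exact Bool.eq_false_iff.1 h.1 ((T.den_com H (T.den_rp false false) he).2 hcom.eq)
  · exact Bool.eq_false_iff.1 h.2 ((T.den_com H hd he).2 hcom.eq)

theorem apart_adj {a x : G} (ha : Adj z a) (hx : Adj z x) (h : ¬ Commute a x) :
    ∃ b, Adj z b ∧ b ≠ a ∧ Commute a b ∧ ¬ Commute x b := by
  obtain ⟨c, hc, hca⟩ := T.adj_norm H hni ha
  obtain ⟨y, hy, hd⟩ := (T.adj_den H hni).1 (hx.conj hc)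
  have hyb : xcom y xbase = false := Bool.eq_false_iff.2 fun e => h (by
    rw [← commute_cj (g := c), hca]
    exact ((T.den_com H hd (T.den_rp false false)).1 e).symm)
  have hh := List.all_eq_true.1 apart y hy
  rw [hyb, Bool.false_or, List.any_eq_true] at hh
  obtain ⟨w, hw, hw'⟩ := hh
  simp only [Bool.and_eq_true, Bool.not_eq_true'] at hw'
  obtain ⟨b, hb, hbA, hbc⟩ := T.setF_den H hni hw
  refine ⟨c⁻¹ * b * c⁻¹⁻¹, hbA.conj ((Cz z).inv_mem hc), fun e => ?_, ?_, ?_⟩
  · rw [bne_iff_ne] at hw'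
    refine hw'.1 (T.den_inj H hb ?_)
    rw [show b = T.rp false false from by rw [← hca, ← e]; group]
    exact T.den_rp false false
  · rw [← commute_cj (g := c), show c * (c⁻¹ * b * c⁻¹⁻¹) * c⁻¹ = b by group, hca]
    exact hbc
  · rw [← commute_cj (g := c), show c * (c⁻¹ * b * c⁻¹⁻¹) * c⁻¹ = b by group]
    exact fun hcom => Bool.eq_false_iff.1 hw'.2 ((T.den_com H hb hd).2 hcom.eq.symm)

theorem five_adj {t b e : G} (ht : Adj z t) (hb : Adj z b) (he : Adj z e) (hbe : Commute b e) (hne : e ≠ b)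
    (htb : ¬ Commute t b) :
    ∃ d, IsK z d ∧ Commute z d ∧ Commute t d ∧ (d = e ∨ ∃ f g, Five z [b, e, d, f, g]) := by
  obtain ⟨c, hc, hcb⟩ := T.adj_norm H hni hb
  have hr := T.den_rp false false
  obtain ⟨xe, hxe, hde⟩ := T.den_setF H hni (he.conj hc) (by rw [← hcb]; exact commute_cj.2 hbe)
  have hneX : xe ≠ xbase := fun h => hne (mul_left_cancel (mul_right_cancel
    ((T.den_fun hde (h ▸ hr)).trans hcb.symm)))
  have hh := List.all_eq_true.1 five_cover xe hxe
  rw [beq_false_of_ne hneX, Bool.false_or, List.any_eq_true] at hh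
  obtain ⟨r, -, hr'⟩ := hh
  obtain ⟨xt, hxt, hdt⟩ := (T.adj_den H hni).1 (ht.conj hc)
  have getZ : ∀ n, ∃ a, T.Den (setZ.getD n xz) a ∧ IsK z a ∧ Commute z a := by
    intro n
    have hm : setZ.getD n xz ∈ setZ := by
      rw [List.getD_eq_getElem?_getD]
      cases hg : setZ[n]? with
      | none => exact List.mem_append_right _ (List.mem_singleton.2 rfl)
      | some y => exact List.mem_of_getElem? hg
    rcases List.mem_append.1 hm with h | h
    · obtain ⟨a, ha, haA, -⟩ := T.setF_den H hni h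
      exact ⟨a, ha, haA.2.1, commute_z.2 haA.1⟩
    · rw [List.mem_singleton.1 h]
      exact ⟨z, T.den_z, isK_self, Commute.refl z⟩
  obtain ⟨d1, hd1, k1, z1⟩ := getZ r.2.1
  obtain ⟨d2, hd2, k2, z2⟩ := getZ r.2.2.1
  obtain ⟨d3, hd3, k3, z3⟩ := getZ r.2.2.2
  rw [fiveRow, Bool.and_eq_true] at hr'
  generalize setZ.getD r.2.1 xz = x1 at hd1 hr'
  generalize setZ.getD r.2.2.1 xz = x2 at hd2 hr'
  generalize setZ.getD r.2.2.2 xz = x3 at hd3 hr'
  have hok : fiveOK xe x1 x2 x3 = true := hr'.2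
  have hrb : T.Den xbase (c * b * c⁻¹) := by rw [hcb]; exact hr
  simp only [fiveOK, Bool.and_eq_true, decide_eq_true_eq, List.all_eq_true] at hok
  obtain ⟨⟨⟨hnd, hcom⟩, hprod⟩, hcov⟩ := hok
  set b' := c * b * c⁻¹
  set e' := c * e * c⁻¹
  have hF : List.Forall₂ (fun x a => T.Den x a) [xbase, xe, x1, x2, x3] [b', e', d1, d2, d3] :=
    .cons hrb (.cons hde (.cons hd1 (.cons hd2 (.cons hd3 .nil))))
  have hfive : Five z [b', e', d1, d2, d3] := by
    refine ⟨?_, ?_, ?_, T.den_fun (hprod ▸ T.den_prod H hni hF) T.den_one⟩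
    · simp only [List.forall_mem_cons, List.not_mem_nil, false_imp_iff, implies_true, and_true]
      exact ⟨hb.2.1.conj c, he.2.1.conj c, k1, k2, k3⟩
    · have : ∀ {l : List X} {m : List G}, List.Forall₂ (fun x a => T.Den x a) l m → l.Nodup → m.Nodup := by
        intro l m h
        induction h with
        | nil => exact fun _ => List.nodup_nil
        | @cons x a l m hxa hlm ih =>
          intro hnd
          rw [List.nodup_cons] at hnd ⊢
          refine ⟨fun hmem => hnd.1 ?_, ih hnd.2⟩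
          clear ih hnd
          induction hlm with
          | nil => exact absurd hmem List.not_mem_nil
          | @cons y a' l m hy _ ih2 =>
            rcases List.mem_cons.1 hmem with e | e
            · exact List.mem_cons.2 (Or.inl (T.den_inj H hxa (e ▸ hy)))
            · exact List.mem_cons_of_mem _ (ih2 e)
      exact this hF hnd
    · intro u hu w hw
      have get : ∀ u ∈ [b', e', d1, d2, d3], ∃ x ∈ [xbase, xe, x1, x2, x3], T.Den x u := by
        simp only [List.forall_mem_cons, List.not_mem_nil, false_imp_iff, implies_true, and_true]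
        exact ⟨⟨xbase, by simp, hrb⟩, ⟨_, by simp, hde⟩, ⟨_, by simp, hd1⟩, ⟨_, by simp, hd2⟩,
          ⟨_, by simp, hd3⟩⟩
      obtain ⟨x, hx, hxu⟩ := get u hu
      obtain ⟨y, hy, hyw⟩ := get w hw
      exact (T.den_com H hxu hyw).1 (hcom x hx y hy)
  have back : ∀ {d f g : G}, IsK z d → Commute z d → Commute (c * t * c⁻¹) d →
      Five z [b', e', d, f, g] → ∃ d, IsK z d ∧ Commute z d ∧ Commute t d ∧
        (d = e ∨ ∃ f g, Five z [b, e, d, f, g]) := by
    intro d f g hK hzd htd h5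
    refine ⟨c⁻¹ * d * c⁻¹⁻¹, hK.conj _, ?_, ?_, Or.inr ⟨c⁻¹ * f * c⁻¹⁻¹, c⁻¹ * g * c⁻¹⁻¹, ?_⟩⟩
    · rw [← commute_cj (g := c), show c * (c⁻¹ * d * c⁻¹⁻¹) * c⁻¹ = d by group,
        show c * z * c⁻¹ = z by rw [mem_Cz.1 hc]; group]
      exact hzd
    · rw [← commute_cj (g := c), show c * (c⁻¹ * d * c⁻¹⁻¹) * c⁻¹ = d by group]
      exact htd
    · have h := h5.conj c⁻¹
      simp only [List.map_cons, List.map_nil, b', e'] at h
      rwa [show c⁻¹ * (c * b * c⁻¹) * c⁻¹⁻¹ = b by group, show c⁻¹ * (c * e * c⁻¹) * c⁻¹⁻¹ = e by group] at h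
  have hcv := hcov xt hxt
  simp only [Bool.or_eq_true] at hcv
  rcases hcv with (((h | h) | h) | h) | h
  · exact absurd (commute_cj.1 ((T.den_com H hdt hrb).1 h)) htb
  · exact ⟨e, he.2.1, commute_z.2 he.1, commute_cj.1 ((T.den_com H hdt hde).1 h), Or.inl rfl⟩
  · exact back k1 z1 ((T.den_com H hdt hd1).1 h) hfive
  · exact back k2 z2 ((T.den_com H hdt hd2).1 h) (hfive.perm (((List.Perm.swap d2 d1 [d3]).cons e').cons b'))
  · refine back k3 z3 ((T.den_com H hdt hd3).1 h) (f := d1) (g := d2) (hfive.perm ?_)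
    exact ((List.perm_append_comm (l₁ := [d1, d2]) (l₂ := [d3])).cons e').cons b'

theorem fibre_adj {e d f g c : G} (he : Adj z e) (hd : Adj z d) (hf : Adj z f) (hg : Adj z g)
    (h5 : Five z [z, e, d, f, g]) (hc : Adj z c) (hce : Commute c e) : Commute c d := by
  obtain ⟨k, hk, hke⟩ := T.adj_norm H hni he
  obtain ⟨hK, hnd, hcom, hprod⟩ := h5
  simp only [List.nodup_cons, List.mem_cons, List.not_mem_nil, or_false, not_or, List.nodup_nil,
    and_true] at hnd
  obtain ⟨-, ⟨ned, nef, neg⟩, ⟨ndf, ndg⟩, nfg, -⟩ := hnd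
  have cm : ∀ {u : G}, Commute e u → Commute (T.rp false false) (k * u * k⁻¹) := fun h => by
    rw [← hke]; exact commute_cj.2 h
  obtain ⟨xd, hxd, dd⟩ := T.den_setF H hni (hd.conj hk) (cm (hcom e (by simp) d (by simp)))
  obtain ⟨xf, hxf, df⟩ := T.den_setF H hni (hf.conj hk) (cm (hcom e (by simp) f (by simp)))
  obtain ⟨xg, hxg, dg⟩ := T.den_setF H hni (hg.conj hk) (cm (hcom e (by simp) g (by simp)))
  obtain ⟨xc, hxc, dc⟩ := T.den_setF H hni (hc.conj hk) (cm hce.symm)
  have hr := T.den_rp false false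
  have inj : ∀ {u w : G} {x y : X}, T.Den x (k * u * k⁻¹) → T.Den y (k * w * k⁻¹) → x = y → u = w :=
    fun hu hw e => mul_left_cancel (mul_right_cancel (T.den_fun hu (e ▸ hw)))
  have hr' : T.Den xbase (k * e * k⁻¹) := by rw [hke]; exact hr
  have hgX : xprod [xf, xd, xbase, xz] = xg := by
    refine T.den_inj H (T.den_prod H hni (.cons df (.cons dd (.cons hr' (.cons T.den_z .nil))))) ?_
    have e1 : g = f * d * e * z := by
      have sq : ∀ x ∈ [z, e, d, f, g], x⁻¹ = x := fun x hx =>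
        inv_eq_of_mul_eq_one_right (T.conj_sq H (hK x hx))
      simp only [List.prod_cons, List.prod_nil, mul_one] at hprod
      have h := eq_inv_of_mul_eq_one_right (show z * e * d * f * g = 1 by rw [← hprod]; group)
      rw [h, mul_inv_rev, mul_inv_rev, mul_inv_rev, sq f (by simp), sq d (by simp), sq e (by simp),
        sq z (by simp)]
      group
    have hzk : k * z * k⁻¹ = z := by rw [mem_Cz.1 hk]; group
    have : [k * f * k⁻¹, k * d * k⁻¹, k * e * k⁻¹, z].prod = k * g * k⁻¹ := by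
      rw [e1]
      simp only [List.prod_cons, List.prod_nil, mul_one]
      conv_lhs => rw [← hzk]
      group
    rw [this]
    exact dg
  have h := List.all_eq_true.1 (List.all_eq_true.1 fibre_four xd hxd) xf hxf
  simp only [Bool.or_eq_true, beq_iff_eq, Bool.not_eq_true'] at h
  have hL : xd.L = xbase.L := by
    rcases h with ((((h | h) | h) | h) | h) | h
    · exact absurd (inj dd hr' h).symm ned
    · exact absurd (inj df hr' h).symm nef
    · exact absurd (inj df dd h).symm ndf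
    · exact absurd ((T.den_com H dd df).2 (commute_cj.2 (hcom d (by simp) f (by simp))).eq)
        (Bool.eq_false_iff.1 h)
    · rw [hgX] at h
      rcases h with ((h | h) | h) | h
      · refine absurd ?_ (Bool.eq_false_iff.1 h)
        exact List.any_eq_true.2 ⟨xg, hxg, by simp⟩
      · exact absurd (inj dg hr' h).symm neg
      · exact absurd (inj dg dd h).symm ndg
      · exact absurd (inj dg df h).symm nfg
    · exact h
  have h2 := List.all_eq_true.1 fibre_perp xd hxd
  rw [Bool.or_eq_true, bne_iff_ne, List.all_eq_true] at h2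
  exact commute_cj.1 ((T.den_com H dd dc).1 ((h2.resolve_left (not_not.2 hL)) xc hxc)).symm

/-- Coordinates at another member. -/
theorem adj_at {g x : G} (hK : IsK z x) (hc : Commute (g * z * g⁻¹) x) (hne : x ≠ g * z * g⁻¹) :
    Adj z (g⁻¹ * x * g) := by
  refine ⟨commute_z.1 ?_, ?_, fun e => hne ?_⟩
  · rw [← commute_cj (g := g), show g * (g⁻¹ * x * g) * g⁻¹ = x by group]
    exact hc
  · have := hK.conj g⁻¹
    rwa [inv_inv] at this
  · rw [← e]; group

/-- The component is closed under commuting. -/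
theorem comp_step {y c : G} (hy : y ∈ Comp z) (hc : IsK z c) (hyc : Commute y c) : c ∈ Comp z := by
  obtain ⟨hyK, a, haK, hza, hay⟩ := hy
  by_cases hzy : Commute z y
  · exact ⟨hc, y, hyK, hzy, hyc⟩
  by_cases hac : Commute a c
  · exact ⟨hc, a, haK, hza, hac⟩
  have hya : a ≠ y := fun e => hzy (e ▸ hza)
  have hcy : c ≠ y := fun e => hac (e ▸ hay)
  obtain ⟨g, hg⟩ := id hyK
  subst hg
  obtain ⟨e', he', hae', hce'⟩ := T.common_adj H hni (T.adj_at H hni haK hay.symm hya)
    (T.adj_at H hni hc hyc hcy)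
  set e := g * e' * g⁻¹ with he
  have heA : g⁻¹ * e * g = e' := by rw [he]; group
  have tr : ∀ x, Commute (g⁻¹ * x * g) e' → Commute x e := fun x h => by
    have := (commute_cj (g := g)).2 h
    rwa [show g * (g⁻¹ * x * g) * g⁻¹ = x by group] at this
  have hye : Commute (g * z * g⁻¹) e := commute_cj.2 (commute_z.2 he'.1)
  have heK : IsK z e := he'.2.1.conj g
  have hey : e ≠ g * z * g⁻¹ := fun h => he'.2.2 (mul_left_cancel (mul_right_cancel h))
  have hea : e ≠ a := fun h => hac (h ▸ (tr c hce')).symm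
  obtain ⟨k, hk⟩ := id haK
  subst hk
  have hA1 : Adj z (k⁻¹ * z * k) := T.adj_at H hni isK_self hza.symm (fun e' =>
    hzy (Eq.subst (motive := fun u => Commute u (g * z * g⁻¹)) e'.symm hay))
  have hA2 : Adj z (k⁻¹ * (g * z * g⁻¹) * k) := T.adj_at H hni hyK hay hya.symm
  have hA3 : Adj z (k⁻¹ * e * k) := T.adj_at H hni heK (tr _ hae') hea
  have back : ∀ {u w : G}, Commute (k⁻¹ * u * k) (k⁻¹ * w * k) ↔ Commute u w := fun {u w} => by
    rw [← commute_cj (g := k⁻¹) (x := u) (y := w), inv_inv]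
  obtain ⟨d, hdK, hzd, htd, hd⟩ := T.five_adj H hni hA1 hA2 hA3 (back.2 hye)
    (fun h => hey (mul_left_cancel (mul_right_cancel h))) (fun h => hzy (back.1 h))
  set D := k * d * k⁻¹ with hD
  have hzD : Commute z D := by
    have := (commute_cj (g := k)).2 htd
    rwa [show k * (k⁻¹ * z * k) * k⁻¹ = z by group] at this
  have hDK : IsK z D := hdK.conj k
  have hcD : Commute c D := by
    rcases hd with rfl | ⟨f1, f2, h5⟩
    · rw [hD, show k * (k⁻¹ * e * k) * k⁻¹ = e by group]
      exact tr c hce'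
    have h5' := (h5.conj k).conj g⁻¹
    simp only [List.map_cons, List.map_nil] at h5'
    rw [show g⁻¹ * (k * (k⁻¹ * (g * z * g⁻¹) * k) * k⁻¹) * g⁻¹⁻¹ = z by group,
      show g⁻¹ * (k * (k⁻¹ * e * k) * k⁻¹) * g⁻¹⁻¹ = g⁻¹ * e * g by group, ← hD, inv_inv] at h5'
    obtain ⟨h5K, h5n, h5c, -⟩ := id h5'
    have adj : ∀ x ∈ [g⁻¹ * e * g, g⁻¹ * D * g, g⁻¹ * (k * f1 * k⁻¹) * g, g⁻¹ * (k * f2 * k⁻¹) * g],
        Adj z x := fun x hx => ⟨commute_z.1 (h5c z (by simp) x (List.mem_cons_of_mem _ hx)),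
          h5K x (List.mem_cons_of_mem _ hx), fun e => (List.nodup_cons.1 h5n).1 (e ▸ hx)⟩
    have hcA := T.adj_at H hni hc hyc hcy
    have := T.fibre_adj H hni (adj _ (by simp)) (adj _ (by simp)) (adj _ (by simp)) (adj _ (by simp))
      h5' hcA (by rw [heA]; exact hce')
    rw [← commute_cj (g := g)] at this
    simpa [mul_assoc] using this
  exact ⟨hc, D, hDK, hzD, hcD.symm⟩

/-- An element moving `z` into the component stabilises it. -/
theorem comp_conj {g : G} (hg : g * z * g⁻¹ ∈ Comp z) {x : G} (hx : x ∈ Comp z) :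
    g * x * g⁻¹ ∈ Comp z := by
  obtain ⟨hxK, a, haK, hza, hax⟩ := hx
  exact T.comp_step H hni (T.comp_step H hni hg (haK.conj g) (commute_cj.2 hza)) (hxK.conj g)
    (commute_cj.2 hax)

/-- Any two members have a common neighbour. -/
theorem comp_common {x y : G} (hx : x ∈ Comp z) (hy : y ∈ Comp z) :
    ∃ m, IsK z m ∧ Commute x m ∧ Commute m y := by
  classical
  obtain ⟨g, rfl⟩ := hx.1
  have hfin : (Comp z).Finite := Set.toFinite _
  have himg : (fun u => g * u * g⁻¹) '' Comp z = Comp z := by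
    refine Set.eq_of_subset_of_ncard_le ?_ ?_ hfin
    · rintro _ ⟨u, hu, rfl⟩
      exact T.comp_conj H hni hx hu
    · rw [Set.ncard_image_of_injective _ fun u w e => mul_left_cancel (mul_right_cancel e)]
  obtain ⟨w, ⟨-, a, haK, hza, haw⟩, rfl⟩ := himg.symm ▸ hy
  exact ⟨g * a * g⁻¹, haK.conj g, commute_cj.2 hza, commute_cj.2 haw⟩

/-- Members of the component generate pairs of order at most three. -/
theorem comp_three {x y : G} (hx : x ∈ Comp z) (hy : y ∈ Comp z) :
    Commute x y ∨ (x * y) ^ 3 = 1 := by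
  obtain ⟨m, hmK, hxm, hmy⟩ := T.comp_common H hni hx hy
  by_cases e1 : x = m
  · exact Or.inl (e1 ▸ hmy)
  by_cases e2 : y = m
  · exact Or.inl (e2 ▸ hxm)
  obtain ⟨g, hg⟩ := hmK
  subst hg
  rcases T.ord_adj H hni (T.adj_at H hni hx.1 hxm.symm e1) (T.adj_at H hni hy.1 hmy e2) with h | h
  · left
    have := (commute_cj (g := g)).2 h
    simpa [mul_assoc] using this
  · right
    rw [show g⁻¹ * x * g * (g⁻¹ * y * g) = g⁻¹ * (x * y) * g by group] at h
    have e : (g⁻¹ * (x * y) * g) ^ 3 = g⁻¹ * (x * y) ^ 3 * g := by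
      rw [pow_succ, pow_two, pow_succ, pow_two]; group
    rw [e] at h
    calc (x * y) ^ 3 = g * (g⁻¹ * (x * y) ^ 3 * g) * g⁻¹ := by group
      _ = 1 := by rw [h]; group

end Sp

end CfsgLib.USixType
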