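import Cfsg.Agent.Lib.USixType.Classes

/-!
The conjugates of `z` in `C(z)`: one class, of the transvection type.
-/

set_option autoImplicit false
set_option linter.unusedSectionVars false
set_option linter.style.haveILetI false
set_option maxRecDepth 100000

open Cfsg CfsgLib.Extraspecial

namespace CfsgLib.USixType

theorem witT_kinds : witT.all (fun p => (!p.1.1 || p.1.2.1) && (!p.2.1 || p.2.2.1)) = true := by
  decide +kernel

namespace Sp

variable {G : Type*} [Group G] [Finite G] {z : G} {Q : Subgroup G} {π : ↥(Cz z) →* G4} (T : Sp z Q π)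
  (H : Pre z Q π)
include T H

theorem conj_ne_one {x : G} (hx : IsK z x) : x ≠ 1 := by
  obtain ⟨g, rfl⟩ := hx
  exact (H.st.conj g).ne_one

theorem conj_sq {x : G} (hx : IsK z x) : x * x = 1 := by
  obtain ⟨g, rfl⟩ := hx
  exact (H.st.conj g).zz

theorem kinds {x : G} (hx : x ∈ Cz z) (hK : IsK z x) (hne : x ≠ z) :
    (∃ b, Sim z x (T.rp false b)) ∨ Sim z x (T.rp true true) := by
  obtain ⟨g, rfl⟩ := hK
  exact T.shapes_two H hx hne

theorem no_T {x : G} (hx : x ∈ Cz z) (hK : IsK z x) (hne : x ≠ z) : ¬ Sim z x (T.rp true false) := by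
  intro h
  obtain ⟨g, rfl⟩ := hK
  obtain ⟨hm, hm', hmK⟩ := mirror hx hne
  rcases T.shapes_two H hx hne with ⟨b, h'⟩ | h'
  · exact T.no_perp_pair H false (h.perp (h'.symm.perp (T.perp_rp H b)))
  obtain ⟨b', h'' | h'' | h''⟩ := T.shapes H hm hmK hm'
  · exact T.no_perp_pair H false (h.perp (perp_of_root (h''.symm.root (T.root_rp H b'))))
  · have hp : HasPerp z (g⁻¹ * z * g⁻¹⁻¹) := perp_of_root (by
      rw [inv_inv]; exact h.symm.root (T.root_pair H))
    rw [inv_inv] at hp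
    exact T.no_perp_pair H b' (h''.perp hp)
  · exact T.no_sing H (g := g⁻¹) (by rwa [inv_inv]) (by rwa [inv_inv]) b' (by rwa [inv_inv])

/-- A conjugate whose product with `z` is one too has transvection type. -/
theorem z_pair {x : G} (hx : x ∈ Cz z) (hK : IsK z x) (hK' : IsK z (z * x)) (hne : x ≠ z) :
    ∃ b, Sim z x (T.rp false b) ∧ IsK z (T.rp false b) ∧ IsK z (T.rp false (!b)) := by
  have hzx : z * x ∈ Cz z := (Cz z).mul_mem H.zC hx
  have hne' : z * x ≠ z := fun e => T.conj_ne_one H hK (mul_eq_left.1 e)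
  rcases T.kinds H hx hK hne with ⟨b, h⟩ | h
  · have h' := h.mul_z
    rw [T.z_rp] at h'
    exact ⟨b, h, h.isK hK, h'.isK hK'⟩
  · have h' := h.mul_z
    rw [T.z_rp] at h'
    exact absurd h' (T.no_T H hzx hK' hne')

theorem rp_isK_of_list {b : Bool} (hb : IsK z (T.rp false b)) {x : X} (hx : x ∈ AList b) {d : G}
    (hd : T.Den x d) : IsK z d :=
  ((T.sim_iff H).2 ⟨x, hx, hd⟩).symm.isK hb

theorem den_cert (c : Bool × Bool × List (Fin 5) × V8) :
    ∃ d, T.Den (certX c) d ∧ Sim z (T.rp c.1 c.2.1) d :=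
  ⟨_, T.den_cjX c.2.2.1 c.2.2.2 (T.den_rp c.1 c.2.1),
    _, (Cz z).mul_mem (T.el_mem H _ _ _) (H.QC (T.C.mem _ _)), rfl⟩

/-- Only transvection type occurs. -/
theorem no_pair {g : G} (hg : g * z * g⁻¹ ∈ Cz z) (hne : g * z * g⁻¹ ≠ z) :
    ¬ Sim z (g * z * g⁻¹) (T.rp true true) := by
  intro hs
  obtain ⟨hm, hm', hmK⟩ := mirror hg hne
  have hs' : Sim z (g⁻¹ * z * g) (T.rp true true) := by
    rcases T.kinds H hm hmK hm' with ⟨b, h⟩ | h
    · exact absurd (hs.perp (perp_of_root (h.symm.root (T.root_rp H b)))) (T.no_perp_pair H true)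
    · exact h
  obtain ⟨k, hk, hka⟩ := exists_swap hs hs'
  set a := T.rp true true with ha
  have haC : a ∈ Cz z := T.rp_mem H _ _
  have haK : IsK z a := ⟨k, hk⟩
  have transfer : ∀ w ∈ Cz z, w * a = a * w → w ≠ a → IsK z w → IsK z (a * w) →
      ∃ b, Sim z (k * w * k⁻¹) (T.rp false b) ∧ IsK z (T.rp false b) ∧ IsK z (T.rp false (!b)) := by
    intro w hw hwa hwne hK hK'
    refine T.z_pair H (mem_Cz.2 ?_) (hK.conj k) ?_ ?_
    · calc k * w * k⁻¹ * z = k * w * k⁻¹ * (k * a * k⁻¹) := by rw [hka]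
        _ = k * (w * a) * k⁻¹ := by group
        _ = k * (a * w) * k⁻¹ := by rw [hwa]
        _ = k * a * k⁻¹ * (k * w * k⁻¹) := by group
        _ = _ := by rw [hka]
    · have := hK'.conj k
      rwa [show k * (a * w) * k⁻¹ = k * a * k⁻¹ * (k * w * k⁻¹) by group, hka] at this
    · intro e
      exact hwne (mul_left_cancel (mul_right_cancel (e.trans hka.symm)))
  obtain ⟨hok, hnd, hlen, hany, hneA⟩ := witT_ok
  have wit : ∀ p ∈ witT, ∃ d1 d2, T.Den (certX p.1) d1 ∧ Sim z (T.rp p.1.1 p.1.2.1) d1 ∧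
      Sim z (T.rp p.2.1 p.2.2.1) d2 ∧ d1 * a = a * d1 ∧ a * d1 = d2 ∧ d1 ≠ a := by
    intro p hp
    have h := List.all_eq_true.1 hok p hp
    simp only [Bool.and_eq_true, decide_eq_true_eq] at h
    have hn := List.all_eq_true.1 hneA p hp
    rw [bne_iff_ne] at hn
    obtain ⟨d1, hd1, hs1⟩ := T.den_cert H p.1
    obtain ⟨d2, hd2, hs2⟩ := T.den_cert H p.2
    refine ⟨d1, d2, hd1, hs1, hs2, (T.den_com H hd1 (T.den_rp true true)).1 h.1, ?_, ?_⟩
    · exact T.den_fun (h.2 ▸ T.den_mul (T.den_rp true true) hd1) hd2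
    · intro e
      exact hn (T.den_inj H hd1 (e ▸ T.den_rp true true))
  have hboth : ∀ b, IsK z (T.rp false b) := by
    rw [List.any_eq_true] at hany
    obtain ⟨p, hp, hpk⟩ := hany
    simp only [Bool.and_eq_true] at hpk
    obtain ⟨d1, d2, -, hs1, hs2, hcom, hmul, hne1⟩ := wit p hp
    rw [hpk.1.1.1, hpk.1.1.2] at hs1
    rw [hpk.1.2, hpk.2] at hs2
    have hd1C : d1 ∈ Cz z := by
      obtain ⟨c, hc, rfl⟩ := hs1
      exact (Cz z).mul_mem ((Cz z).mul_mem hc haC) ((Cz z).inv_mem hc)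
    obtain ⟨b, -, h1, h2⟩ := transfer d1 hd1C hcom hne1 (hs1.isK haK) (hmul ▸ hs2.isK haK)
    intro b'
    cases b <;> cases b' <;> assumption
  have inK : ∀ c : Bool × Bool, (!c.1 || c.2) = true → IsK z (T.rp c.1 c.2) := by
    rintro ⟨_ | _, b⟩ h
    · exact hboth b
    · simp only [Bool.not_true, Bool.false_or] at h
      subst h
      exact haK
  have key : ∀ x ∈ witT.map (fun p => certX p.1), ∃ y ∈ lhsT, ∃ d, T.Den x d ∧ T.Den y (k * d * k⁻¹) := by
    intro x hx
    obtain ⟨p, hp, rfl⟩ := List.mem_map.1 hx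
    obtain ⟨d1, d2, hd1, hs1, hs2, hcom, hmul, hne1⟩ := wit p hp
    have hkinds := List.all_eq_true.1 witT_kinds p hp
    rw [Bool.and_eq_true] at hkinds
    have hd1C : d1 ∈ Cz z := T.den_mem H hd1
    obtain ⟨b, hb, -, -⟩ := transfer d1 hd1C hcom hne1 (hs1.isK (inK (p.1.1, p.1.2.1) hkinds.1))
      (hmul ▸ hs2.isK (inK (p.2.1, p.2.2.1) hkinds.2))
    obtain ⟨y, hy, hy'⟩ := (T.sim_iff H).1 hb
    refine ⟨y, List.mem_filter.2 ⟨?_, ?_⟩, d1, hd1, hy'⟩
    · cases b
      · exact List.mem_append_left _ hy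
      · exact List.mem_append_right _ hy
    · refine (T.den_com H hy' (T.den_rp true true)).2 ?_
      calc k * d1 * k⁻¹ * T.rp true true = k * d1 * k⁻¹ * (k * z * k⁻¹) := by rw [hk]
        _ = k * (d1 * z) * k⁻¹ := by group
        _ = k * (z * d1) * k⁻¹ := by rw [mem_Cz.1 hd1C]
        _ = k * z * k⁻¹ * (k * d1 * k⁻¹) := by group
        _ = _ := by rw [hk]
  haveI : Nonempty X := ⟨xone⟩
  choose! f hf using key
  have hnd' : ((witT.map fun p => certX p.1).map f).Nodup := by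
    refine List.Nodup.map_on ?_ hnd
    intro x hx y hy e
    obtain ⟨-, d, hd, hd'⟩ := hf x hx
    obtain ⟨-, d', hd2, hd2'⟩ := hf y hy
    have : k * d * k⁻¹ = k * d' * k⁻¹ := T.den_fun hd' (e ▸ hd2')
    rw [mul_left_cancel (mul_right_cancel this)] at hd
    exact T.den_inj H hd hd2
  have hsub : ((witT.map fun p => certX p.1).map f) ⊆ lhsT := by
    intro y hy
    obtain ⟨x, hx, rfl⟩ := List.mem_map.1 hy
    exact (hf x hx).1
  have := (hnd'.subperm hsub).length_le
  rw [List.length_map, List.length_map, hlen, lhsT_len] at this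
  omega

/-- A conjugate is of transvection type. -/
theorem trans_type {x : G} (hx : x ∈ Cz z) (hK : IsK z x) (hne : x ≠ z) :
    ∃ b, Sim z x (T.rp false b) := by
  obtain ⟨g, rfl⟩ := hK
  exact (T.shapes_two H hx hne).resolve_right (T.no_pair H hx hne)

/-- The two transvection classes are not both fused. -/
theorem not_both (hf : IsK z (T.rp false false)) (ht : IsK z (T.rp false true)) : False := by
  obtain ⟨h, hh⟩ := hf
  set a := T.rp false false with ha
  obtain ⟨hc1, -⟩ := alist_base false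
  have hcX := List.contains_iff_mem.1 (alist_base false).2
  have hd : T.Den (xw 0 false [3]) (T.s (evalW [3])) := T.den_s [3]
  have hcK : IsK z (T.s (evalW [3])) := T.rp_isK_of_list H ⟨h, hh⟩ hcX hd
  have has : a = T.s (evalW [1]) := by rw [ha, Sp.rp, ← T.s_el]; rfl
  set c := T.s (evalW [3]) with hc
  have h13 : evalW [1] * evalW [3] = evalW [3] * evalW [1] := by
    rw [← evalW_append, ← evalW_append]
    exact evalW_eq (by decide +kernel)
  have hac : a * c = c * a := by rw [has, hc, ← map_mul, ← map_mul, h13]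
  have hne : c ≠ a := by
    intro e
    rw [has, hc] at e
    have := congrArg (img z π) e
    rw [T.sec, T.sec] at this
    have := congrArg natL this
    rw [natL_evalW, natL_evalW] at this
    exact absurd this (by decide +kernel)
  set e := h⁻¹ * c * h with he
  have heK : IsK z e := by
    have := hcK.conj h⁻¹
    rwa [inv_inv] at this
  have heC : e ∈ Cz z := by
    refine mem_Cz.2 ?_
    calc e * z = h⁻¹ * (c * (h * z * h⁻¹)) * h := by rw [he]; group
      _ = h⁻¹ * (h * z * h⁻¹ * c) * h := by rw [hh, hac]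
      _ = z * e := by rw [he]; group
  have hene : e ≠ z := fun e' => hne (by
    calc c = h * e * h⁻¹ := by rw [he]; group
      _ = a := by rw [e', hh])
  obtain ⟨b, hb⟩ := T.trans_type H heC heK hene
  have hze : IsK z (z * e) := by
    have := hb.mul_z
    rw [T.z_rp] at this
    refine this.symm.isK ?_
    cases b
    exacts [ht, ⟨h, hh⟩]
  have hacK : IsK z (a * c) := by
    have := hze.conj h
    rwa [show h * (z * e) * h⁻¹ = h * z * h⁻¹ * c by rw [he]; group, hh] at this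
  have hT : a * c = T.rp true false := by
    rw [has, hc, ← map_mul, ← evalW_append, Sp.rp, ← T.s_el]
    rfl
  refine T.no_T H (x := a * c) ?_ hacK ?_ ⟨1, (Cz z).one_mem, by rw [hT]; group⟩
  · rw [hT]; exact T.rp_mem H _ _
  · rw [hT]; exact T.rp_ne H _ _

theorem setA_img {y : X} (hy : y ∈ setA) : y.L ∈ imgA :=
  List.mem_dedup.2 (List.mem_map.2 ⟨_, hy, rfl⟩)

theorem den_sq {y : X} {d : G} (hy : T.Den y d) (h : d * d = 1) : comp y.L y.L = idL :=
  congrArg X.L (T.den_inj H (h ▸ T.den_mul hy hy) T.den_one : xmul y y = xone)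

theorem den_com_L {y y' : X} {d d' : G} (hy : T.Den y d) (hy' : T.Den y' d') (h : Commute d d') :
    comp y.L y'.L = comp y'.L y.L := by
  have := (T.den_com H hy hy').2 h
  rw [xcom, decide_eq_true_eq] at this
  exact congrArg X.L this

/-- Two pairs with product `z`, each over one transvection, lie over the same one. -/
theorem pair_line {p r s t : X} {dp dr ds dt : G} (hp : p ∈ setA) (hr : r ∈ setA) (hs : s ∈ setA)
    (ht : t ∈ setA) (hpr : p ≠ r) (hst : s ≠ t) (hdp : T.Den p dp) (hdr : T.Den r dr) (hds : T.Den s ds)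
    (hdt : T.Den t dt) (hp2 : dp * dp = 1) (e1 : p.L = r.L) (e2 : s.L = t.L)
    (heq : dp * dr * (ds * dt) = z) : p.L = s.L := by
  have hid : comp p.L r.L = idL := e1 ▸ T.den_sq H hdp hp2
  have hX : xmul (xmul p r) (xmul s t) = xz :=
    T.den_inj H (heq ▸ T.den_mul (T.den_mul hdp hdr) (T.den_mul hds hdt)) T.den_z
  have hv : xr (xmul p r).v (app (comp p.L r.L) (xmul s t).v) = 0 := congrArg X.v hX
  rw [hid, id_app, xr_eq_zero] at hv
  have mem : ∀ {u w : X}, u ∈ setA → w ∈ setA → u ≠ w → u.L = w.L → (u.L, (xmul u w).v) ∈ pairA := by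
    intro u w hu hw hne e
    refine List.mem_flatMap.2 ⟨u, hu, List.mem_map.2 ⟨w, List.mem_filter.2 ⟨hw, ?_⟩, rfl⟩⟩
    simp [e, hne.symm]
  have := List.all_eq_true.1 (List.all_eq_true.1 pairA_lines _ (mem hp hr hpr e1)) _ (mem hs ht hst e2)
  rw [Bool.or_eq_true, beq_iff_eq, bne_iff_ne] at this
  exact this.resolve_right (not_not.2 hv)

/-- Four commuting members with product `z` fill a fibre. -/
theorem quad_fibre {y1 y2 y3 y4 : X} {e1 e2 e3 e4 : G} (m1 : y1 ∈ setA) (m2 : y2 ∈ setA) (m3 : y3 ∈ setA)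
    (m4 : y4 ∈ setA) (hnd : [y1, y2, y3, y4].Nodup) (h1 : T.Den y1 e1) (h2 : T.Den y2 e2)
    (h3 : T.Den y3 e3) (h4 : T.Den y4 e4) (c12 : Commute e1 e2) (c13 : Commute e1 e3) (c23 : Commute e2 e3)
    (c24 : Commute e2 e4) (c34 : Commute e3 e4) (q1 : e1 * e1 = 1) (q4 : e4 * e4 = 1)
    (hzp : e1 * e2 * (e3 * e4) = z) :
    ∃ L ∈ imgA, [y1, y2, y3, y4].Perm (setA.filter fun x => x.L == L) := by
  have hL4 : y4.L = comp (comp y1.L y2.L) y3.L := by
    have hz' : e1 * e2 * e3 = z * e4 := by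
      rw [← hzp, mul_assoc (e1 * e2), mul_assoc e3, q4, mul_one]
    have hX : xmul (xmul y1 y2) y3 = xmul xz y4 :=
      T.den_inj H (hz' ▸ T.den_mul (T.den_mul h1 h2) h3) (T.den_mul T.den_z h4)
    have hLs : comp (comp y1.L y2.L) y3.L = comp idL y4.L := congrArg X.L hX
    rw [hLs, id_comp]
  have hquad := List.all_eq_true.1 (List.all_eq_true.1 (List.all_eq_true.1 imgA_quad _ (T.setA_img H m1))
    _ (T.setA_img H m2)) _ (T.setA_img H m3)
  dsimp only at hquad
  rw [← hL4, decide_eq_true (T.den_com_L H h1 h2 c12), decide_eq_true (T.den_com_L H h1 h3 c13),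
    decide_eq_true (T.den_com_L H h2 h3 c23), List.contains_iff_mem.2 (T.setA_img H m4)] at hquad
  simp only [Bool.and_self, Bool.not_true, Bool.false_or, decide_eq_true_eq] at hquad
  have hnd' := hnd
  simp only [List.nodup_cons, List.mem_cons, List.not_mem_nil, or_false, not_or, List.nodup_nil,
    and_true] at hnd'
  obtain ⟨⟨n12, n13, n14⟩, ⟨n23, n24⟩, n34, -⟩ := hnd'
  have all4 : y1.L = y2.L ∧ y1.L = y3.L ∧ y1.L = y4.L := by
    rcases hquad with ⟨u, w⟩ | ⟨u, w⟩ | ⟨u, w⟩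
    · have e := T.pair_line H m1 m2 m3 m4 n12 n34 h1 h2 h3 h4 q1 u w hzp
      exact ⟨u, e, e.trans w⟩
    · have e := T.pair_line H m1 m3 m2 m4 n13 n24 h1 h3 h2 h4 q1 u w
        (by rw [c23.symm.mul_mul_mul_comm e1 e4]; exact hzp)
      exact ⟨e, u, e.trans w⟩
    · have e := T.pair_line H m1 m4 m2 m3 n14 n23 h1 h4 h2 h3 q1 u w (by
        rw [← hzp, mul_assoc e1 e2, mul_assoc e1 e4]
        congr 1
        rw [← mul_assoc, ← c24.eq, mul_assoc, ← c34.eq])
      exact ⟨e, e.trans w, u⟩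
  refine ⟨y1.L, T.setA_img H m1, (hnd.subperm ?_).perm_of_length_le ?_⟩
  · intro y hy
    simp only [List.mem_cons, List.not_mem_nil, or_false] at hy
    rcases hy with rfl | rfl | rfl | rfl <;> refine List.mem_filter.2 ⟨?_, beq_iff_eq.2 ?_⟩
    exacts [m1, rfl, m2, all4.1.symm, m3, all4.2.1.symm, m4, all4.2.2.symm]
  · rw [beq_iff_eq.1 (List.all_eq_true.1 setA_facts.2 _ (T.setA_img H m1))]
    rfl

/-- The class with bit set is not fused. -/
theorem not_true (hK : IsK z (T.rp false true)) : False := by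
  obtain ⟨g, hg⟩ := hK
  set a := T.rp false true with ha
  have hnot : ¬ IsK z (T.rp false false) := fun h => T.not_both H h ⟨g, hg⟩
  have only : ∀ x ∈ Cz z, IsK z x → x ≠ z → Sim z x a := by
    intro x hx hK hne
    obtain ⟨b, hb⟩ := T.trans_type H hx hK hne
    cases b
    · exact absurd (hb.isK hK) hnot
    · exact hb
  have haC : g * z * g⁻¹ ∈ Cz z := hg ▸ T.rp_mem H _ _
  have hane : g * z * g⁻¹ ≠ z := hg ▸ T.rp_ne H _ _
  obtain ⟨hm, hm', hmK⟩ := mirror haC hane
  obtain ⟨k, hk, hka⟩ := exists_swap (only _ haC ⟨g, rfl⟩ hane) (only _ hm hmK hm')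
  obtain ⟨hqok, hqlen, hqdist⟩ := quadA_ok
  let xsOf : List (List (Fin 5) × V8) → List X := fun q => q.map fun c => cjX c.1 c.2 (repX false true)
  have memA : ∀ q ∈ quadA, ∀ x ∈ xsOf q, ∃ y, (∃ d, T.Den x d ∧ T.Den y (k * d * k⁻¹)) ∧ y ∈ setA := by
    intro q hq x hx
    have h := List.all_eq_true.1 hqok q hq
    simp only [Bool.and_eq_true, List.all_eq_true] at h
    obtain ⟨c, -, rfl⟩ := List.mem_map.1 hx
    obtain ⟨hcom, hnx⟩ := h.2 _ hx
    have hd := T.den_cjX c.1 c.2 (T.den_rp false true)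
    set d := T.el 0 false (evalW c.1) * T.C.j c.2 false * T.rp false true *
      (T.el 0 false (evalW c.1) * T.C.j c.2 false)⁻¹ with hdd
    have hda : d * a = a * d := (T.den_com H hd (T.den_rp false true)).1 hcom
    have hdC : d ∈ Cz z := T.den_mem H hd
    have hdK : IsK z d := IsK.conj (z := z) ⟨g, hg⟩ _
    have hyC : k * d * k⁻¹ ∈ Cz z := by
      refine mem_Cz.2 ?_
      calc k * d * k⁻¹ * z = k * d * k⁻¹ * (k * a * k⁻¹) := by rw [hka]
        _ = k * (d * a) * k⁻¹ := by group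
        _ = k * (a * d) * k⁻¹ := by rw [hda]
        _ = k * a * k⁻¹ * (k * d * k⁻¹) := by group
        _ = _ := by rw [hka]
    have hyne : k * d * k⁻¹ ≠ z := fun e => by
      rw [bne_iff_ne] at hnx
      exact hnx (T.den_inj H hd (mul_left_cancel (mul_right_cancel (e.trans hka.symm)) ▸ T.den_rp false true))
    obtain ⟨y, hy, hy'⟩ := (T.sim_iff H).1 (only _ hyC (hdK.conj k) hyne)
    refine ⟨y, ⟨d, hd, hy'⟩, List.mem_filter.2 ⟨hy, (T.den_com H hy' (T.den_rp false true)).2 ?_⟩⟩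
    calc k * d * k⁻¹ * T.rp false true = k * d * k⁻¹ * (k * z * k⁻¹) := by rw [hk]
      _ = k * (d * z) * k⁻¹ := by group
      _ = k * (z * d) * k⁻¹ := by rw [mem_Cz.1 hdC]
      _ = k * z * k⁻¹ * (k * d * k⁻¹) := by group
      _ = _ := by rw [hk]
  -- four commuting conjugates with product `z` lie over one transvection
  have fibre : ∀ q ∈ quadA, ∀ x ∈ xsOf q, ∀ y, ∀ d, T.Den x d → T.Den y (k * d * k⁻¹) → y ∈ setA := by
    intro q hq x hx y d hd hd'
    obtain ⟨y', ⟨d', hd1, hd1'⟩, hy'⟩ := memA q hq x hx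
    rw [T.den_fun hd1 hd] at hd1'
    rwa [T.den_inj H hd' hd1']
  haveI : Nonempty X := ⟨xone⟩
  have memU : ∀ x, (∃ q ∈ quadA, x ∈ xsOf q) → ∃ y, (∃ d, T.Den x d ∧ T.Den y (k * d * k⁻¹)) ∧ y ∈ setA :=
    fun x ⟨q, hq, hx⟩ => memA q hq x hx
  choose! f hf hfA using memU
  have finj : ∀ q ∈ quadA, ∀ x ∈ xsOf q, ∀ q' ∈ quadA, ∀ y ∈ xsOf q', f x = f y → x = y := by
    intro q hq x hx q' hq' y hy e
    obtain ⟨d, hd, hd'⟩ := hf x ⟨q, hq, hx⟩
    obtain ⟨d', hd2, hd2'⟩ := hf y ⟨q', hq', hy⟩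
    have : k * d * k⁻¹ = k * d' * k⁻¹ := T.den_fun hd' (e ▸ hd2')
    rw [mul_left_cancel (mul_right_cancel this)] at hd
    exact T.den_inj H hd hd2
  have oneL : ∀ q ∈ quadA, ∃ L ∈ imgA,
      ((xsOf q).map f).Perm (setA.filter fun x => x.L == L) := by
    intro q hq
    have h := List.all_eq_true.1 hqok q hq
    simp only [Bool.and_eq_true, decide_eq_true_eq, List.all_eq_true] at h
    obtain ⟨⟨⟨⟨h4, hndx⟩, hprod⟩, hcom⟩, -⟩ := h
    obtain ⟨x1, x2, x3, x4, hxs⟩ := List.length_eq_four.1 h4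
    change xsOf q = [x1, x2, x3, x4] at hxs
    change (xsOf q).Nodup at hndx
    change (xsOf q).foldr xmul xone = repX false true at hprod
    rw [hxs] at hndx hprod
    replace hcom : ∀ x ∈ [x1, x2, x3, x4], ∀ y ∈ [x1, x2, x3, x4], xcom x y = true := by
      rw [← hxs]; exact hcom
    have m : ∀ x ∈ [x1, x2, x3, x4], ∃ q ∈ quadA, x ∈ xsOf q := fun x hx => ⟨q, hq, hxs ▸ hx⟩
    obtain ⟨d1, hd1, hy1⟩ := hf x1 (m _ (by simp))
    obtain ⟨d2, hd2, hy2⟩ := hf x2 (m _ (by simp))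
    obtain ⟨d3, hd3, hy3⟩ := hf x3 (m _ (by simp))
    obtain ⟨d4, hd4, hy4⟩ := hf x4 (m _ (by simp))
    have hA1 := hfA x1 (m _ (by simp))
    have hA2 := hfA x2 (m _ (by simp))
    have hA3 := hfA x3 (m _ (by simp))
    have hA4 := hfA x4 (m _ (by simp))
    have comG : ∀ {x y : X} {d d' : G}, x ∈ [x1, x2, x3, x4] → y ∈ [x1, x2, x3, x4] → T.Den x d →
        T.Den y d' → Commute d d' := fun hx hy hd hd' => (T.den_com H hd hd').1 (hcom _ hx _ hy)
    have c23 := comG (by simp) (by simp) hd2 hd3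
    have c24 := comG (by simp) (by simp) hd2 hd4
    have c34 := comG (by simp) (by simp) hd3 hd4
    have hp : d1 * d2 * d3 * d4 = a := by
      simp only [List.foldr_cons, List.foldr_nil] at hprod
      have := T.den_fun (hprod ▸ T.den_mul hd1 (T.den_mul hd2 (T.den_mul hd3 (T.den_mul hd4 T.den_one))))
        (T.den_rp false true)
      simpa [mul_assoc] using this
    have c12 := comG (by simp) (by simp) hd1 hd2
    have c13 := comG (by simp) (by simp) hd1 hd3
    have hK1 : ∀ {x : X} {d : G}, x ∈ [x1, x2, x3, x4] → T.Den x d →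
        k * d * k⁻¹ * (k * d * k⁻¹) = 1 := by
      intro x d hx hd
      have hx' : x ∈ xsOf q := hxs ▸ hx
      obtain ⟨c, -, e⟩ := List.mem_map.1 hx'
      subst e
      rw [T.den_fun hd (T.den_cjX c.1 c.2 (T.den_rp false true))]
      exact T.conj_sq H ((IsK.conj (z := z) ⟨g, hg⟩ _).conj k)
    have hcj : ∀ {d d' : G}, Commute d d' → Commute (k * d * k⁻¹) (k * d' * k⁻¹) := fun h => by
      simpa using h.map (MulAut.conj k).toMonoidHom
    have hzp : k * d1 * k⁻¹ * (k * d2 * k⁻¹) * (k * d3 * k⁻¹ * (k * d4 * k⁻¹)) = z := by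
      rw [← hka, ← hp]
      group
    have hndF : [f x1, f x2, f x3, f x4].Nodup := by
      refine List.Nodup.map_on (f := f) (l := [x1, x2, x3, x4]) ?_ hndx
      intro x hx y hy e
      exact finj q hq x (hxs ▸ hx) q hq y (hxs ▸ hy) e
    obtain ⟨L, hL, hperm⟩ := T.quad_fibre H hA1 hA2 hA3 hA4 hndF hy1 hy2 hy3 hy4 (hcj c12) (hcj c13)
      (hcj c23) (hcj c24) (hcj c34) (hK1 (by simp) hd1) (hK1 (by simp) hd4) hzp
    exact ⟨L, hL, by rw [hxs]; exact hperm⟩
  have hget : ∀ i : Fin 14, quadA.getD i.1 [] ∈ quadA := fun i => by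
    rw [List.getD_eq_getElem _ _ (by rw [hqlen]; exact i.2)]
    exact List.getElem_mem _
  choose F hF hFp using fun i => oneL _ (hget i)
  have hFinj : Function.Injective F := by
    intro i j e
    by_contra hne
    have h := List.all_eq_true.1 (List.all_eq_true.1 hqdist i (List.mem_finRange i)) j (List.mem_finRange j)
    simp only [hne, decide_false, Bool.false_or, List.any_eq_true, Bool.not_eq_true',
      ← Bool.not_eq_true, List.contains_iff_mem] at h
    obtain ⟨c, hc, hnot⟩ := h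
    have hx : cjX c.1 c.2 (repX false true) ∈ xsOf (quadA.getD i.1 []) := List.mem_map.2 ⟨c, hc, rfl⟩
    have hperm := (hFp i).trans (e ▸ (hFp j).symm)
    obtain ⟨y, hy, hfy⟩ := List.mem_map.1 (hperm.subset (List.mem_map_of_mem hx))
    exact hnot (finj _ (hget j) y hy _ (hget i) _ hx hfy ▸ hy)
  have hnd' : ((List.finRange 14).map F).Nodup := (List.nodup_finRange 14).map hFinj
  have hsub : ((List.finRange 14).map F) ⊆ imgA := by
    intro L hL
    obtain ⟨i, -, rfl⟩ := List.mem_map.1 hL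
    exact hF i
  have := (hnd'.subperm hsub).length_le
  rw [List.length_map, List.length_finRange, setA_facts.1] at this
  omega

/-- The conjugates in the centraliser. -/
theorem classes (hni : ∃ g : G, g * z * g⁻¹ ∈ Cz z ∧ g * z * g⁻¹ ≠ z) (c : G) :
    (c ∈ Cz z ∧ IsK z c ∧ c ≠ z) ↔ ∃ x ∈ AList false, T.Den x c := by
  have hnt : ¬ IsK z (T.rp false true) := T.not_true H
  have hA : IsK z (T.rp false false) := by
    obtain ⟨g, hg, hne⟩ := hni
    obtain ⟨b, hb⟩ := T.trans_type H hg ⟨g, rfl⟩ hne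
    cases b
    · exact hb.isK ⟨g, rfl⟩
    · exact absurd (hb.isK ⟨g, rfl⟩) hnt
  constructor
  · rintro ⟨hc, hK, hne⟩
    obtain ⟨b, hb⟩ := T.trans_type H hc hK hne
    cases b
    · exact (T.sim_iff H).1 hb
    · exact absurd (hb.isK hK) hnt
  · rintro ⟨x, hx, hd⟩
    have hs := (T.sim_iff H).2 ⟨x, hx, hd⟩
    refine ⟨T.den_mem H hd, hs.symm.isK hA, ?_⟩
    rintro rfl
    obtain ⟨d, hd', e⟩ := hs
    refine T.rp_ne H false false ?_
    rw [← e, mem_Cz.1 hd']
    group

end Sp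

end CfsgLib.USixType
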