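import Cfsg.Agent.Lib.USixType.CaseB
import Cfsg.Agent.Lib.USixType.Action

/-!
Lifts of `SU₄(2)` acting on coordinates without signs; the two sorts of extensions by the centre.
-/

set_option autoImplicit false
set_option linter.unusedSectionVars false
set_option linter.style.haveILetI false
set_option maxRecDepth 100000

open Cfsg CfsgLib.Extraspecial

namespace CfsgLib.USixType

/-- Conjugators from the first transposition to the five transvections of a line. -/
def fiveW : Fin 5 → List (Fin 5) :=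
  ![[], [2, 3, 1, 2], [0, 4, 0], [2, 0, 4, 2, 3, 1, 0, 2], [0, 2, 0, 4, 3, 1, 2, 0]]

/-- Conjugators of the pair of commuting transpositions to the pairs among the first four. -/
def pairW : List (Fin 4 × Fin 4 × List (Fin 5)) := [
  (0, 1, []),
  (0, 2, [0, 4, 0, 2, 3, 1, 2, 0, 4, 0]),
  (0, 3, [2, 0, 4, 0, 2, 0, 0, 4, 2, 0]),
  (1, 2, [0, 4, 0, 2, 3, 1, 2]),
  (1, 3, [2, 0, 4, 3, 2, 0, 4, 2, 0]),
  (2, 3, [2, 0, 4, 2, 0, 0, 2])]

/-- Two commuting involutions permuting four of the five regularly. -/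
def levW : Fin 2 → List (Fin 5) := ![[2, 3, 1, 2], [0, 0, 4, 2, 0, 4, 3, 2, 0, 0, 4, 3, 2, 0]]

/-- Conjugators to the involutions of the Sylow subgroup. -/
def invTab : List (Bool × List (Fin 5)) := [
  (false, []),
  (false, [2, 3, 1, 2]),
  (false, [0, 4, 0]),
  (true, []),
  (true, [2, 3, 1, 2, 0, 4, 0]),
  (true, [0, 4, 0]),
  (true, [0, 2, 3, 1, 2, 0, 4, 3, 0, 2]),
  (true, [0, 4, 2, 3, 0, 2, 0, 4, 0, 2]),
  (true, [0, 2, 3, 1, 2, 0, 4, 2, 0, 2, 0]),
  (true, [2, 0, 4, 2, 0, 0]),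
  (true, [0, 4, 0, 2]),
  (true, [4, 3, 2, 0, 4, 2, 0, 0]),
  (true, [2, 0, 0, 4, 2, 0]),
  (true, [4, 3, 2, 0, 0, 4, 2, 0]),
  (true, [0, 4, 3, 0, 2]),
  (true, [3, 2, 0, 4, 2, 0, 0]),
  (true, [4, 2, 0, 4, 2, 0, 0]),
  (true, [3, 2, 0, 0, 4, 2, 0]),
  (true, [4, 2, 0, 0, 4, 2, 0]),
  (false, [2, 0, 4, 2, 3, 1, 0, 2]),
  (false, [0, 2, 0, 4, 3, 1, 2, 0]),
  (true, [0, 2, 0, 4, 0, 2, 0]),
  (true, [0, 0, 2, 1, 0, 4, 3, 2, 0, 0]),
  (true, [2, 3, 0, 2, 0, 4, 3, 2, 0]),
  (true, [2, 0, 4, 2, 0, 0, 2]),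
  (true, [2, 3, 0, 0, 2, 0, 0, 4, 3, 2, 0, 0]),
  (true, [2, 0, 0, 4, 2, 0, 2])]

/-- The word of a representative of a class of involutions. -/
def repW : Bool → List (Fin 5)
  | false => [1]
  | true => [1, 3]

/-- The word of a transvection of the line. -/
def fW (i : Fin 5) : List (Fin 5) := fiveW i ++ [1] ++ invW (fiveW i)

theorem fW_first : linW gL (fW 0) = linW gL [1] ∧ linW gL (fW 1) = linW gL [3] := by decide +kernel

theorem five_prod : linW gL (fW 0 ++ fW 1 ++ (fW 2 ++ fW 3)) = linW gL (fW 4) := by decide +kernel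

theorem pairW_ok : pairW.all (fun p =>
    decide (linW gL (p.2.2 ++ [1] ++ invW p.2.2) = linW gL (fW p.1.castSucc)) &&
      decide (linW gL (p.2.2 ++ [3] ++ invW p.2.2) = linW gL (fW p.2.1.castSucc))) = true := by
  decide +kernel

theorem pairW_all : ∀ i j : Fin 4, i < j → ∃ p ∈ pairW, p.1 = i ∧ p.2.1 = j := by decide +kernel

theorem invTab_ok : (plist gL (sylPg gL)).all (fun L => !decide (comp L L = idL) || decide (L = idL) ||
    invTab.any fun p => decide (linW gL (p.2 ++ repW p.1 ++ invW p.2) = L)) = true := by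
  decide +kernel

theorem dual_check' : ∀ m : V8, ∀ i : Fin 8,
    bb bA (Fin.ofNat 256 ((m.1 &&& 85) * 2 ||| (m.1 &&& 170) / 2) : V8) (un i) = m.1.testBit i.1 := by
  decide +kernel

theorem of_bits : ∀ b0 b1 b2 b3 b4 b5 b6 b7 : Bool, ∀ i : Fin 8,
    (Fin.ofNat 256 ((cond b0 1 0) + (cond b1 2 0) + (cond b2 4 0) + (cond b3 8 0) + (cond b4 16 0) + (cond b5 32 0) +
      (cond b6 64 0) + (cond b7 128 0)) : V8).1.testBit i.1 = ![b0, b1, b2, b3, b4, b5, b6, b7] i := by
  decide +kernel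

theorem dual_check (m : V8) : ∃ w : V8, ∀ i : Fin 8, bb bA w (un i) = m.1.testBit i.1 :=
  ⟨_, dual_check' m⟩

theorem natL_L {S : Fin 5 → Lin} (M : Mdl S) (hS : S = gL) (g : G4) : M.L g = natL g := by
  subst hS
  have hg : g ∈ Subgroup.closure (Set.range gen) := by rw [gen_top]; exact Subgroup.mem_top g
  induction hg using Subgroup.closure_induction with
  | mem x hx => obtain ⟨k, rfl⟩ := hx; rw [M.gen_eq, natL_gen]
  | one => rw [M.one, natL_one]
  | mul x y _ _ hx hy => rw [M.mul, natL_mul, hx, hy]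
  | inv x _ hx =>
    calc M.L x⁻¹ = comp (M.L x⁻¹) (comp (natL x) (natL x⁻¹)) := by
          rw [← natL_mul, mul_inv_cancel, natL_one, comp_id]
      _ = natL x⁻¹ := by rw [← comp_assoc, ← hx, ← M.mul, inv_mul_cancel, M.one, id_comp]

theorem inv_class {g : G4} (hg : orderOf g = 2) :
    ∃ (k : Bool) (h : G4), g = h * evalW (repW k) * h⁻¹ := by
  obtain ⟨h, hh⟩ := natM.conj_into (Or.inl rfl) (n := 1) (g := g) (by rw [pow_one]; exact hg)
  change natL (h * g * h⁻¹) ∈ _ at hh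
  have h2 := List.all_eq_true.1 invTab_ok _ hh
  have hsq : comp (natL (h * g * h⁻¹)) (natL (h * g * h⁻¹)) = idL := by
    rw [← natL_mul, show h * g * h⁻¹ * (h * g * h⁻¹) = h * (g * g) * h⁻¹ by group, ← pow_two,
      (orderOf_eq_prime_iff.1 hg).1, mul_one, mul_inv_cancel, natL_one]
  have hne : natL (h * g * h⁻¹) ≠ idL := by
    rw [← natL_one]
    intro e
    have h1 : g = 1 := conj_eq_one_iff.1 (natL_inj e)
    rw [h1, orderOf_one] at hg
    exact absurd hg (by norm_num)
  simp only [hsq, hne, decide_true, decide_false, Bool.not_true, Bool.false_or, List.any_eq_true,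
    decide_eq_true_eq] at h2
  obtain ⟨⟨k, w⟩, -, e⟩ := h2
  refine ⟨k, h⁻¹ * evalW w, ?_⟩
  rw [← natL_evalW] at e
  have e' := natL_inj e
  rw [evalW_append, evalW_append, invW_eval] at e'
  calc g = h⁻¹ * (h * g * h⁻¹) * h := by group
    _ = _ := by rw [← e']; group

theorem four_sq {K : Type*} [Group K] {a b c d u e : K} (hu : ∀ x : K, u * x = x * u) (huu : u * u = 1)
    (he : ∀ x : K, e * x = x * e) (hee : e * e = 1) (ha : a * a = e) (hb : b * b = e) (hc : c * c = e)
    (hd : d * d = e) (hba : b * a = u * (a * b)) (hdc : d * c = u * (c * d))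
    (hca : c * a = u * (a * c)) (hcb : c * b = u * (b * c)) (hda : d * a = u * (a * d))
    (hdb : d * b = u * (b * d)) : a * b * (c * d) * (a * b * (c * d)) = 1 := by
  have pr : ∀ a b : K, a * a = e → b * b = e → b * a = u * (a * b) → a * b * (a * b) = u := by
    intro a b ha hb hba
    calc a * b * (a * b) = a * (b * a) * b := by group
      _ = (a * u) * a * (b * b) := by rw [hba]; group
      _ = u * (a * a) * (b * b) := by rw [← hu a]; group
      _ = u := by rw [ha, hb, mul_assoc, hee, mul_one]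
  have mv : ∀ x, x * a = u * (a * x) → x * b = u * (b * x) → x * (a * b) = a * b * x := by
    intro x h1 h2
    calc x * (a * b) = x * a * b := by group
      _ = u * a * (x * b) := by rw [h1]; group
      _ = (u * a * u) * b * x := by rw [h2]; group
      _ = _ := by rw [mul_assoc u a u, ← hu a, ← mul_assoc u, huu, one_mul]
  have hcom : c * d * (a * b) = a * b * (c * d) := by
    calc c * d * (a * b) = c * (d * (a * b)) := by group
      _ = c * (a * b) * d := by rw [mv d hda hdb]; group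
      _ = _ := by rw [mv c hca hcb]; group
  calc a * b * (c * d) * (a * b * (c * d)) = a * b * (c * d * (a * b)) * (c * d) := by group
    _ = (a * b * (a * b)) * (c * d * (c * d)) := by rw [hcom]; group
    _ = 1 := by rw [pr a b ha hb hba, pr c d hc hd hdc, huu]

namespace Co

variable {G : Type*} [Group G] {z : G} {Q : Subgroup G} {π : ↥(Cz z) →* G4} (C : Co z Q π bA gL)
include C

theorem j_inv (v : V8) (b : Bool) : (C.j v b)⁻¹ = C.j v (b ^^ qq bA v) := by
  refine inv_eq_of_mul_eq_one_right ?_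
  rw [C.mul, xr_self, ← C.j_one, qq]
  congr 1
  cases b <;> cases bA v v <;> rfl

variable [Finite G] (H : Pre z Q π)
include H

/-- The lifts without signs. -/
def Lh : Subgroup G where
  carrier := {c | c ∈ Cz z ∧ ∀ v b, c * C.j v b * c⁻¹ = C.j (app (natL (img z π c)) v) b}
  one_mem' := ⟨(Cz z).one_mem, fun v b => by rw [H.img_one, natL_one, id_app]; group⟩
  mul_mem' := by
    rintro a c ⟨ha, ha'⟩ ⟨hc, hc'⟩
    refine ⟨(Cz z).mul_mem ha hc, fun v b => ?_⟩
    rw [H.img_mul ha hc, natL_mul, app_comp, ← ha', ← hc']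
    group
  inv_mem' := by
    rintro a ⟨ha, ha'⟩
    refine ⟨(Cz z).inv_mem ha, fun v b => ?_⟩
    have h := ha' (app (natL (img z π a)⁻¹) v) b
    rw [← app_comp, ← natL_mul, mul_inv_cancel, natL_one, id_app] at h
    rw [H.img_inv ha, ← h]
    group

theorem Lh_Cz {c : G} (hc : c ∈ C.Lh H) : c ∈ Cz z := hc.1

theorem Lh_conj {c : G} (hc : c ∈ C.Lh H) (v : V8) (b : Bool) :
    c * C.j v b * c⁻¹ = C.j (app (natL (img z π c)) v) b := hc.2 v b

theorem z_Lh : z ∈ C.Lh H := by
  refine ⟨H.zC, fun v b => ?_⟩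
  rw [H.img_Q H.zQ, natL_one, id_app, C.z_mul]; rw [H.st.inv_z, C.mul_z, Bool.not_not]

theorem exists_lift (g : G4) : ∃ c ∈ C.Lh H, img z π c = g := by
  classical
  obtain ⟨c, hc, rfl⟩ := H.lift g
  choose δ hδ using C.conj_bit hc
  have hadd : ∀ v w, δ (xr v w) = (δ v ^^ δ w) := fun v w => by
    have h : c * (C.j v false * C.j w false) * c⁻¹ = c * C.j v false * c⁻¹ * (c * C.j w false * c⁻¹) := by group
    rw [hδ, hδ, C.mul, C.mul, hδ] at h
    have h2 := (C.inj _ _ _ _ h).2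
    rw [natL_L C.M rfl, bA_natL] at h2
    revert h2
    cases δ (xr v w) <;> cases δ v <;> cases δ w <;> cases bA v w <;> decide
  obtain ⟨m, hm⟩ : ∃ m : V8, ∀ i : Fin 8, m.1.testBit i.1 = δ (un i) := by
    have hm := of_bits (δ (un 0)) (δ (un 1)) (δ (un 2)) (δ (un 3)) (δ (un 4)) (δ (un 5)) (δ (un 6))
      (δ (un 7))
    exact ⟨_, fun i => by rw [hm i]; fin_cases i <;> rfl⟩
  obtain ⟨w, hw⟩ := dual_check m
  have hall : ∀ v, δ v = bb bA w v := by
    intro v
    let d1 : V8 → V8 → Bool := fun a x => cb a 0 && δ x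
    let d2 : V8 → V8 → Bool := fun a x => cb a 0 && bb bA w x
    have h1 : Bil d1 := ⟨fun a x y => by simp only [d1, cb_xr, Bool.and_xor_distrib_right],
      fun a x y => by simp only [d1, hadd]; cases cb a 0 <;> simp⟩
    have h2 : Bil d2 := ⟨fun a x y => by simp only [d2, cb_xr, Bool.and_xor_distrib_right],
      fun a x y => by simp only [d2, bA_bil.bb_right]; cases cb a 0 <;> simp⟩
    have h := h1.ext h2 (fun i j => by simp only [d1, d2, hw, hm]) 1 v
    simpa [d1, d2, cb] using h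
  refine ⟨c * C.j w false, ⟨(Cz z).mul_mem hc (H.QC (C.mem _ _)), fun v b => ?_⟩, ?_⟩
  · have e : C.j w false * C.j v b * (C.j w false)⁻¹ = C.j v (b ^^ bb bA w v) := by
      rw [C.j_inv, C.mul, C.mul, xr_comm w v, xr_assoc, xr_self, xr_zero, bA_bil.left, qq, bb]
      congr 1
      cases b <;> cases bA w v <;> cases bA v w <;> cases bA w w <;> rfl
    rw [H.img_mul hc (H.QC (C.mem _ _)), H.img_Q (C.mem _ _), mul_one, mul_inv_rev,
      show c * C.j w false * C.j v b * ((C.j w false)⁻¹ * c⁻¹) =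
        c * (C.j w false * C.j v b * (C.j w false)⁻¹) * c⁻¹ by group, e, hδ, natL_L C.M rfl, ← hall]
    congr 1
    cases b <;> cases δ v <;> rfl
  · rw [H.img_mul hc (H.QC (C.mem _ _)), H.img_Q (C.mem _ _), mul_one]

theorem Lh_ker {c : G} (hc : c ∈ C.Lh H) (h : img z π c = 1) : c = 1 ∨ c = z := by
  have hQ : c ∈ Q := (H.img_eq_one hc.1).1 h
  refine H.st.eq_of_forall hQ fun q hq => ?_
  obtain ⟨v, b, rfl⟩ := C.surj q hq
  have := hc.2 v b
  rw [h, natL_one, id_app] at this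
  exact (mul_inv_eq_iff_eq_mul.1 this).symm

theorem Lh_eq {c d : G} (hc : c ∈ C.Lh H) (hd : d ∈ C.Lh H) (h : img z π c = img z π d) :
    c = d ∨ c = z * d := by
  have := C.Lh_ker H ((C.Lh H).mul_mem hc ((C.Lh H).inv_mem hd))
    (by rw [H.img_mul hc.1 ((Cz z).inv_mem hd.1), H.img_inv hd.1, h, mul_inv_cancel])
  exact this.imp mul_inv_eq_one.1 mul_inv_eq_iff_eq_mul.1

theorem z_central {c : G} (hc : c ∈ C.Lh H) : z * c = c * z := (mem_Cz.1 hc.1).symm

/-- Conjugate pairs have conjugate commutators and squares. -/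
theorem Lh_comm_transfer {a b a' b' : G} (ha : a ∈ C.Lh H) (hb : b ∈ C.Lh H) (ha' : a' ∈ C.Lh H)
    (hb' : b' ∈ C.Lh H) {h : G4} (e1 : h * img z π a * h⁻¹ = img z π a')
    (e2 : h * img z π b * h⁻¹ = img z π b') {u : G} (hu : u = 1 ∨ u = z) (hab : b * a = u * (a * b)) :
    b' * a' = u * (a' * b') := by
  obtain ⟨k, hk, rfl⟩ := C.exists_lift H h
  have hk' := (C.Lh H).inv_mem hk
  have hc1 := C.Lh_eq H ha' ((C.Lh H).mul_mem ((C.Lh H).mul_mem hk ha) hk')
    (by rw [H.img_conj hk.1 ha.1, e1])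
  have hc2 := C.Lh_eq H hb' ((C.Lh H).mul_mem ((C.Lh H).mul_mem hk hb) hk')
    (by rw [H.img_conj hk.1 hb.1, e2])
  have huk : k * u = u * k := by
    rcases hu with rfl | rfl
    · group
    · exact (C.z_central H hk).symm
  have base : k * b * k⁻¹ * (k * a * k⁻¹) = u * (k * a * k⁻¹ * (k * b * k⁻¹)) := by
    calc k * b * k⁻¹ * (k * a * k⁻¹) = k * (b * a) * k⁻¹ := by group
      _ = (k * u) * (a * b) * k⁻¹ := by rw [hab]; group
      _ = _ := by rw [huk]; group
  set A := k * a * k⁻¹ with hA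
  set B := k * b * k⁻¹ with hB
  have hzA : z * A = A * z := C.z_central H ((C.Lh H).mul_mem ((C.Lh H).mul_mem hk ha) hk')
  have hzB : z * B = B * z := C.z_central H ((C.Lh H).mul_mem ((C.Lh H).mul_mem hk hb) hk')
  have hzu : z * u = u * z := by rcases hu with rfl | rfl <;> simp
  rcases hc1 with rfl | rfl <;> rcases hc2 with rfl | rfl
  · exact base
  · calc z * B * A = z * (B * A) := by group
      _ = (z * u) * A * B := by rw [base]; group
      _ = u * ((z * A) * B) := by rw [hzu]; group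
      _ = u * (A * (z * B)) := by rw [hzA]; group
  · calc B * (z * A) = (B * z) * A := by group
      _ = z * (B * A) := by rw [← hzB]; group
      _ = (z * u) * A * B := by rw [base]; group
      _ = _ := by rw [hzu]; group
  · rw [(show Commute z B from hzB).symm.mul_mul_mul_comm z A,
      (show Commute z A from hzA).symm.mul_mul_mul_comm z B, H.z2, one_mul, one_mul]
    exact base

theorem Lh_sq_transfer {a a' : G} (ha : a ∈ C.Lh H) (ha' : a' ∈ C.Lh H) {h : G4}
    (e1 : h * img z π a * h⁻¹ = img z π a') {u : G} (hu : u = 1 ∨ u = z) (haa : a * a = u) : a' * a' = u := by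
  obtain ⟨k, hk, rfl⟩ := C.exists_lift H h
  have hm := (C.Lh H).mul_mem ((C.Lh H).mul_mem hk ha) ((C.Lh H).inv_mem hk)
  have huk : k * u * k⁻¹ = u := by
    rcases hu with rfl | rfl
    · group
    · rw [← C.z_central H hk]; group
  have base : k * a * k⁻¹ * (k * a * k⁻¹) = u := by
    calc k * a * k⁻¹ * (k * a * k⁻¹) = k * (a * a) * k⁻¹ := by group
      _ = u := by rw [haa, huk]
  rcases C.Lh_eq H ha' hm (by rw [H.img_conj hk.1 ha.1, e1]) with rfl | rfl
  · exact base
  · rw [(show Commute z (k * a * k⁻¹) from C.z_central H hm).symm.mul_mul_mul_comm z _, H.z2, one_mul]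
    exact base

theorem comm_dichotomy {a b : G} (ha : a ∈ C.Lh H) (hb : b ∈ C.Lh H)
    (h : img z π a * img z π b = img z π b * img z π a) : ∃ u, (u = 1 ∨ u = z) ∧ b * a = u * (a * b) := by
  rcases C.Lh_eq H ((C.Lh H).mul_mem hb ha) ((C.Lh H).mul_mem ha hb)
    (by rw [H.img_mul hb.1 ha.1, H.img_mul ha.1 hb.1, h]) with e | e
  · exact ⟨1, Or.inl rfl, by rw [one_mul]; exact e⟩
  · exact ⟨z, Or.inr rfl, e⟩

/-- The lift of a transvection is an involution. -/
theorem transvection_sq {a : G} (ha : a ∈ C.Lh H) (hai : img z π a = gen 1) : a * a = 1 := by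
  have hfix : ∀ i, ∃ b ∈ C.Lh H, img z π b = evalW (fW i) := fun i => C.exists_lift H _
  choose b hb hbi using hfix
  have himg : ∀ i, img z π (b i) = evalW (fiveW i) * gen 1 * (evalW (fiveW i))⁻¹ := fun i => by
    rw [hbi, fW, evalW_append, evalW_append, invW_eval, evalW_single]
  obtain ⟨e, he, hee⟩ : ∃ e, (e = 1 ∨ e = z) ∧ a * a = e := by
    refine ⟨a * a, C.Lh_ker H ((C.Lh H).mul_mem ha ha) ?_, rfl⟩
    rw [H.img_mul ha.1 ha.1, hai]
    exact sk_mul_self 0
  have hsq : ∀ i, b i * b i = e := fun i => C.Lh_sq_transfer H ha (hb i) (by rw [hai, himg]) he hee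
  have hp01 : img z π (b 0) = gen 1 ∧ img z π (b 1) = gen 3 := by
    constructor <;> rw [hbi]
    · rw [← evalW_single 1]; exact evalW_eq fW_first.1
    · rw [← evalW_single 3]; exact evalW_eq fW_first.2
  have hs13 : gen 1 * gen 3 = gen 3 * gen 1 := by
    have h : linW gL [1, 3] = linW gL [3, 1] := by decide +kernel
    simpa [evalW] using evalW_eq h
  obtain ⟨u, hu, hu01⟩ := C.comm_dichotomy H (hb 0) (hb 1) (by rw [hp01.1, hp01.2, hs13])
  have hpair : ∀ i j : Fin 4, i < j →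
      b j.castSucc * b i.castSucc = u * (b i.castSucc * b j.castSucc) := by
    intro i j hij
    obtain ⟨⟨i', j', w⟩, hp, rfl, rfl⟩ := pairW_all i j hij
    have h := List.all_eq_true.1 pairW_ok _ hp
    simp only [Bool.and_eq_true, decide_eq_true_eq] at h
    refine C.Lh_comm_transfer H (hb 0) (hb 1) (hb _) (hb _) (h := evalW w) ?_ ?_ hu hu01
    · rw [hp01.1, hbi, ← evalW_single 1, ← invW_eval, ← evalW_append, ← evalW_append]
      exact evalW_eq h.1
    · rw [hp01.2, hbi, ← evalW_single 3, ← invW_eval, ← evalW_append, ← evalW_append]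
      exact evalW_eq h.2
  -- work in the lifts, where `u` and `e` are central
  have hcen : ∀ x : G, x = 1 ∨ x = z → ∀ c : C.Lh H, x * (c : G) = c * x := by
    rintro x (rfl | rfl) c
    · simp
    · exact C.z_central H c.2
  have hmemz : ∀ x : G, x = 1 ∨ x = z → x ∈ C.Lh H := by
    rintro x (rfl | rfl)
    exacts [(C.Lh H).one_mem, C.z_Lh H]
  have hxx : ∀ x : G, x = 1 ∨ x = z → x * x = 1 := by
    rintro x (rfl | rfl)
    exacts [one_mul _, H.z2]
  have key := four_sq (K := C.Lh H) (a := ⟨b 0, hb 0⟩) (b := ⟨b 1, hb 1⟩) (c := ⟨b 2, hb 2⟩)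
    (d := ⟨b 3, hb 3⟩) (u := ⟨u, hmemz u hu⟩) (e := ⟨e, hmemz e he⟩)
    (fun c => Subtype.ext (hcen u hu c)) (Subtype.ext (hxx u hu))
    (fun c => Subtype.ext (hcen e he c)) (Subtype.ext (hxx e he))
    (Subtype.ext (hsq 0)) (Subtype.ext (hsq 1)) (Subtype.ext (hsq 2)) (Subtype.ext (hsq 3))
    (Subtype.ext (hpair 0 1 (by decide))) (Subtype.ext (hpair 2 3 (by decide)))
    (Subtype.ext (hpair 0 2 (by decide))) (Subtype.ext (hpair 1 2 (by decide)))
    (Subtype.ext (hpair 0 3 (by decide))) (Subtype.ext (hpair 1 3 (by decide)))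
  have key' : b 0 * b 1 * (b 2 * b 3) * (b 0 * b 1 * (b 2 * b 3)) = 1 := congrArg Subtype.val key
  have hP : b 0 * b 1 * (b 2 * b 3) ∈ C.Lh H :=
    (C.Lh H).mul_mem ((C.Lh H).mul_mem (hb 0) (hb 1)) ((C.Lh H).mul_mem (hb 2) (hb 3))
  have h4 := C.Lh_sq_transfer H hP (hb 4) (h := 1) (by
    rw [one_mul, inv_one, mul_one, H.img_mul ((Cz z).mul_mem (hb 0).1 (hb 1).1) ((Cz z).mul_mem (hb 2).1 (hb 3).1),
      H.img_mul (hb 0).1 (hb 1).1, H.img_mul (hb 2).1 (hb 3).1, hbi, hbi, hbi, hbi, hbi, ← evalW_append,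
      ← evalW_append, ← evalW_append]
    exact evalW_eq five_prod) (Or.inl rfl) key'
  rw [hee, ← hsq 4, h4]

end Co

end CfsgLib.USixType
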