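import Cfsg.Agent.Lib.USixType.Extension

/-!
Computing in `C(z) = J ⋊ SU₄(2)`.
-/

set_option autoImplicit false
set_option linter.unusedSectionVars false
set_option linter.style.haveILetI false
set_option maxRecDepth 100000

open Cfsg CfsgLib.Extraspecial

namespace CfsgLib.USixType

/-- An element of the computational model. -/
structure X where
  v : V8
  b : Bool
  L : Lin
deriving DecidableEq

/-- Multiplication in the model. -/
def xmul (x y : X) : X := ⟨xr x.v (app x.L y.v), (x.b ^^ y.b) ^^ bA x.v (app x.L y.v), comp x.L y.L⟩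

/-- The identity of the model. -/
def xone : X := ⟨0, false, idL⟩

/-- The central involution of the model. -/
def xz : X := ⟨0, true, idL⟩

/-- An element given by a word. -/
def xw (v : V8) (b : Bool) (w : List (Fin 5)) : X := ⟨v, b, linW gL w⟩

/-- Commutation in the model. -/
def xcom (x y : X) : Bool := decide (xmul x y = xmul y x)

/-- Conjugation by the product of a word and a translation. -/
def cjX (w : List (Fin 5)) (u : V8) (x : X) : X :=
  xmul (xmul (xmul (xw 0 false w) (xw u false [])) x) (xmul (xw u (qq bA u) []) (xw 0 false (invW w)))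

/-- Coordinates with a complement. -/
structure Sp {G : Type*} [Group G] (z : G) (Q : Subgroup G) (π : ↥(Cz z) →* G4) where
  C : Co z Q π bA gL
  s : G4 →* G
  mem : ∀ g, s g ∈ Cz z
  sec : ∀ g, img z π (s g) = g
  act : ∀ g v b, s g * C.j v b * (s g)⁻¹ = C.j (app (natL g) v) b

namespace Sp

variable {G : Type*} [Group G] {z : G} {Q : Subgroup G} {π : ↥(Cz z) →* G4} (T : Sp z Q π)
include T

/-- The element with given coordinates. -/
def el (v : V8) (b : Bool) (g : G4) : G := T.C.j v b * T.s g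

theorem el_mul (v : V8) (b : Bool) (g : G4) (w : V8) (d : Bool) (h : G4) :
    T.el v b g * T.el w d h =
      T.el (xr v (app (natL g) w)) ((b ^^ d) ^^ bA v (app (natL g) w)) (g * h) := by
  rw [el, el, el, ← T.C.mul, ← T.act, map_mul]
  group

/-- The element of a point of the model. -/
def Den (x : X) (c : G) : Prop := ∃ g, natL g = x.L ∧ T.el x.v x.b g = c

theorem den_mul {x y : X} {c d : G} (hx : T.Den x c) (hy : T.Den y d) : T.Den (xmul x y) (c * d) := by
  obtain ⟨g, hg, rfl⟩ := hx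
  obtain ⟨h, hh, rfl⟩ := hy
  exact ⟨g * h, by rw [natL_mul, hg, hh]; rfl, by rw [T.el_mul, hg]; rfl⟩

theorem den_fun {x : X} {c d : G} (hx : T.Den x c) (hy : T.Den x d) : c = d := by
  obtain ⟨g, hg, rfl⟩ := hx
  obtain ⟨h, hh, rfl⟩ := hy
  rw [natL_inj (hg.trans hh.symm)]

theorem den_one : T.Den xone 1 :=
  ⟨1, natL_one, by rw [el, map_one, mul_one]; exact T.C.j_one⟩

theorem den_z : T.Den xz z :=
  ⟨1, natL_one, by rw [el, map_one, mul_one]; exact T.C.j_z⟩

theorem den_word (v : V8) (b : Bool) (w : List (Fin 5)) : T.Den (xw v b w) (T.el v b (evalW w)) :=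
  ⟨evalW w, natL_evalW w, rfl⟩

theorem den_s (w : List (Fin 5)) : T.Den (xw 0 false w) (T.s (evalW w)) :=
  ⟨evalW w, natL_evalW w, by show T.C.j 0 false * _ = _; rw [T.C.j_one, one_mul]⟩

theorem den_j (v : V8) (b : Bool) : T.Den (xw v b []) (T.C.j v b) :=
  ⟨1, natL_one, by show T.C.j v b * T.s 1 = _; rw [map_one, mul_one]⟩

theorem den_inv {x y : X} {c : G} (hx : T.Den x c) {d : G} (hy : T.Den y d) (h : xmul x y = xone) :
    c⁻¹ = d :=
  inv_eq_of_mul_eq_one_right (T.den_fun (h ▸ T.den_mul hx hy) T.den_one)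

theorem el_mem [Finite G] (H : Pre z Q π) (v : V8) (b : Bool) (g : G4) : T.el v b g ∈ Cz z :=
  (Cz z).mul_mem (H.QC (T.C.mem v b)) (T.mem g)

theorem el_img [Finite G] (H : Pre z Q π) (v : V8) (b : Bool) (g : G4) : img z π (T.el v b g) = g := by
  rw [el, H.img_mul (H.QC (T.C.mem v b)) (T.mem g), H.img_Q (T.C.mem v b), T.sec, one_mul]

theorem el_inj [Finite G] (H : Pre z Q π) {v w : V8} {b d : Bool} {g h : G4} (e : T.el v b g = T.el w d h) :
    v = w ∧ b = d ∧ g = h := by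
  have hg : g = h := by rw [← T.el_img H v b g, e, T.el_img H]
  subst hg
  obtain ⟨h1, h2⟩ := T.C.inj _ _ _ _ (mul_right_cancel e)
  exact ⟨h1, h2, rfl⟩

theorem el_surj [Finite G] (H : Pre z Q π) {c : G} (hc : c ∈ Cz z) : ∃ v b g, T.el v b g = c := by
  set g := img z π c
  have hq : c * (T.s g)⁻¹ ∈ Q := by
    refine (H.img_eq_one ((Cz z).mul_mem hc ((Cz z).inv_mem (T.mem g)))).1 ?_
    rw [H.img_mul hc ((Cz z).inv_mem (T.mem g)), H.img_inv (T.mem g), T.sec, mul_inv_cancel]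
  obtain ⟨v, b, h⟩ := T.C.surj _ hq
  exact ⟨v, b, g, by rw [el, h]; group⟩

theorem exists_den [Finite G] (H : Pre z Q π) {c : G} (hc : c ∈ Cz z) : ∃ x, T.Den x c := by
  obtain ⟨v, b, g, rfl⟩ := T.el_surj H hc
  exact ⟨⟨v, b, natL g⟩, g, rfl, rfl⟩

theorem den_inj [Finite G] (H : Pre z Q π) {x y : X} {c : G} (hx : T.Den x c) (hy : T.Den y c) : x = y := by
  obtain ⟨g, hg, rfl⟩ := hx
  obtain ⟨h, hh, e⟩ := hy
  obtain ⟨e1, e2, e3⟩ := T.el_inj H e
  cases x; cases y
  simp_all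

theorem den_mem [Finite G] (H : Pre z Q π) {x : X} {c : G} (hx : T.Den x c) : c ∈ Cz z := by
  obtain ⟨g, -, rfl⟩ := hx
  exact T.el_mem H _ _ _

theorem den_com [Finite G] (H : Pre z Q π) {x y : X} {c d : G} (hx : T.Den x c) (hy : T.Den y d) :
    xcom x y = true ↔ c * d = d * c := by
  rw [xcom, decide_eq_true_eq]
  exact ⟨fun e => T.den_fun (e ▸ T.den_mul hx hy) (T.den_mul hy hx),
    fun e => T.den_inj H (e ▸ T.den_mul hx hy) (T.den_mul hy hx)⟩

theorem den_cjX (w : List (Fin 5)) (u : V8) {x : X} {c : G} (hx : T.Den x c) :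
    T.Den (cjX w u x) (T.el 0 false (evalW w) * T.C.j u false * c * (T.el 0 false (evalW w) * T.C.j u false)⁻¹) := by
  have e1 : T.el 0 false (evalW w) = T.s (evalW w) := by rw [el, T.C.j_one, one_mul]
  rw [e1, mul_inv_rev, T.C.j_inv, Bool.false_xor, ← map_inv, ← invW_eval]
  exact T.den_mul (T.den_mul (T.den_mul (T.den_s w) (T.den_j u false)) hx)
    (T.den_mul (T.den_j u _) (T.den_s _))

end Sp

/-- Isolation or a complement. -/
theorem exists_sp {G : Type*} [Group G] [Finite G] {z : G} {Q : Subgroup G} {π : ↥(Cz z) →* G4}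
    (H : Pre z Q π) : (∀ g : G, g * z * g⁻¹ ∈ Cz z → g * z * g⁻¹ = z) ∨ Nonempty (Sp z Q π) := by
  obtain ⟨β, S, hM, ⟨C⟩⟩ := H.exists_co
  rcases hM with ⟨rfl, rfl⟩ | ⟨rfl, rfl⟩ | ⟨rfl, rfl⟩
  · obtain ⟨a1, h1, i1⟩ := C.exists_lift H (gen 1)
    obtain ⟨a3, h3, i3⟩ := C.exists_lift H (gen 3)
    obtain ⟨u, hu, h⟩ := C.comm_dichotomy H h1 h3 (by
      rw [i1, i3]
      have h : linW gL [1, 3] = linW gL [3, 1] := by decide +kernel
      simpa [evalW] using evalW_eq h)
    rcases hu with rfl | rfl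
    · obtain ⟨s, hs⟩ := C.exists_section H h1 h3 i1 i3 (by rwa [one_mul] at h)
      refine Or.inr ⟨⟨C, s, fun g => (hs g).1.1, fun g => (hs g).2, fun g v b => ?_⟩⟩
      rw [C.Lh_conj H (hs g).1 v b, (hs g).2]
    · exact Or.inl fun g hg => C.isolated_of_anti H h1 h3 i1 i3 h g hg
  · exact Or.inl fun g hg => C.isolatedB H (Or.inr (Or.inl ⟨rfl, rfl⟩)) g hg
  · exact Or.inl fun g hg => C.isolatedB H (Or.inr (Or.inr ⟨rfl, rfl⟩)) g hg

end CfsgLib.USixType
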