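import Cfsg.Agent.Lib.USixType.Control
import Cfsg.Agent.Lib.FischerClass.Models
import Cfsg.Agent.Lib.FischerClass.FromO2
import Cfsg.Agent.Lib.FischerClass.UnitSeven

/-!
The group is `U₆(2)`: lines of five points, and the number of neighbours fixes the dimension.
-/

set_option autoImplicit false
set_option linter.unusedSectionVars false
set_option linter.style.haveILetI false
set_option maxRecDepth 100000

open Cfsg CfsgLib.Extraspecial
open CfsgLib.HePres (K4)
open CfsgLib.FischerClass (UP UV uh uop mkU pad e7 kc uh_add_left uh_add_right uh_smul_left uh_smul_right)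
open CfsgLib.ThreeTransp.StarPairs (nbr)

namespace CfsgLib.USixType

/-- Codes of isotropic vectors in five coordinates. -/
def wTab : List (Fin 5 → ℕ) := [![0, 0, 0, 1, 1], ![0, 0, 0, 1, 2], ![0, 0, 0, 1, 3], ![0, 0, 1, 0, 1], ![0, 0, 1, 0, 2], ![0, 0, 1, 0, 3], ![0, 0, 1, 1, 0], ![0, 0, 1, 2, 0], ![0, 0, 1, 3, 0], ![0, 1, 0, 0, 1], ![0, 1, 0, 0, 2], ![0, 1, 0, 0, 3], ![0, 1, 0, 1, 0], ![0, 1, 0, 2, 0], ![0, 1, 0, 3, 0], ![0, 1, 1, 0, 0], ![0, 1, 1, 1, 1], ![0, 1, 1, 1, 2], ![0, 1, 1, 1, 3], ![0, 1, 1, 2, 1], ![0, 1, 1, 2, 2], ![0, 1, 1, 2, 3], ![0, 1, 1, 3, 1], ![0, 1, 1, 3, 2], ![0, 1, 1, 3, 3], ![0, 1, 2, 0, 0], ![0, 1, 2, 1, 1], ![0, 1, 2, 1, 2], ![0, 1, 2, 1, 3], ![0, 1, 2, 2, 1], ![0, 1, 2, 2, 2], ![0, 1, 2, 2, 3], ![0, 1, 2, 3, 1], ![0, 1, 2, 3, 2], ![0, 1, 2, 3, 3], ![0, 1, 3, 0, 0], ![0, 1, 3, 1, 1], ![0, 1, 3, 1, 2], ![0, 1, 3, 1, 3], ![0, 1, 3, 2, 1], ![0, 1, 3, 2, 2], ![0, 1, 3, 2, 3], ![0, 1, 3, 3, 1], ![0, 1, 3, 3, 2], ![0, 1, 3, 3, 3], ![1, 0,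 0, 0, 1]]

/-- The same in the last five of seven coordinates. -/
def wVec (i : Fin 46) : Fin 7 → K4 :=
  let c := wTab.getD i.1 (fun _ => 0)
  ![kc 0, kc 0, kc (c 0), kc (c 1), kc (c 2), kc (c 3), kc (c 4)]

theorem wVec_facts : (∀ i, wVec i 0 = 0 ∧ wVec i 1 = 0 ∧ wVec i ≠ 0 ∧ uh (wVec i) (wVec i) = 0) ∧
    ∀ i j : Fin 46, ∀ k : K4, k • wVec i = wVec j → i = j ∧ k = 1 := by
  decide +kernel

theorem line_sym : (AList false).all (fun x => lineF.all fun l => xcom x l == xcom x xbase) = true := by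
  decide +kernel

theorem bb_nondeg : ∀ v : V8, (∀ i : Fin 8, bb bA v (un i) = false) → v = 0 := by decide +kernel

namespace Sp

variable {G : Type*} [Group G] [Finite G] {z : G} {Q : Subgroup G} {π : ↥(Cz z) →* G4} (T : Sp z Q π)
  (H : Pre z Q π) (hni : ∃ g : G, g * z * g⁻¹ ∈ Cz z ∧ g * z * g⁻¹ ≠ z)
include T H hni

theorem trans_group : IsThreeTranspositionGroup {x | IsK z x} := by
  refine ⟨⟨fun d hd => orderOf_eq_prime_iff.2 ⟨by rw [pow_two]; exact T.conj_sq H hd, T.conj_ne_one H hd⟩,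
    fun d hd e he => ?_⟩, fun g d hd => IsK.conj hd g, ?_⟩
  · rcases T.comp_three H hni (T.comp_eq H hni hd) (T.comp_eq H hni he) with h | h
    · left
      rw [pow_two, h.symm.mul_mul_mul_comm, T.conj_sq H hd, T.conj_sq H he, one_mul]
    · exact Or.inr h
  · rw [eq_top_iff, ← T.gen_comp_top H hni]
    exact Subgroup.closure_mono fun x hx => hx.1

theorem prim : IsPrimitiveUnderConj {x | IsK z x} := by
  have hA := T.adj_base H hni
  refine ⟨?_, ⟨z, isK_self, _, hA.2.1, hA.2.2.symm⟩, fun B hB hblock => ?_⟩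
  · rintro _ ⟨g, rfl⟩ _ ⟨h, rfl⟩
    exact ⟨h * g⁻¹, by group⟩
  by_cases hBs : B.Subsingleton
  · exact Or.inl hBs
  right
  have stab : ∀ {g u : G}, u ∈ B → g * u * g⁻¹ ∈ B → ∀ v ∈ B, g * v * g⁻¹ ∈ B := by
    intro g u hu hgu v hv
    rcases hblock g with h | h
    · rw [← h]; exact ⟨v, hv, rfl⟩
    · exact absurd hgu (Set.disjoint_left.1 h ⟨u, hu, rfl⟩)
  have flip : ∀ {d u : G}, u ∈ B → IsK z d → Commute d u → ∀ v ∈ B, d * v * d⁻¹ ∈ B := fun hu hd h =>
    stab hu (by rw [h.eq, mul_inv_cancel_right]; exact hu)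
  have braid : ∀ {x y : G}, IsK z x → IsK z y → ¬ Commute x y → x * y * x⁻¹ = y * x * y⁻¹ := by
    intro x y hx hy hne
    have h := braid_conj (T.conj_sq H hx) (T.conj_sq H hy)
      ((T.comp_three H hni (T.comp_eq H hni hx) (T.comp_eq H hni hy)).resolve_left hne)
    have xi := inv_eq_of_mul_eq_one_right (T.conj_sq H hx)
    have yi := inv_eq_of_mul_eq_one_right (T.conj_sq H hy)
    rw [mul_inv_rev, xi, yi] at h
    rw [xi, yi]
    calc x * y * x = x * y * x * (y * x) * (y * x)⁻¹ := by group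
      _ = y * (x * y) := by rw [h, mul_inv_rev, xi, yi]
      _ = _ := by group
  obtain ⟨b0, hb0, b1, hb1, hne⟩ := Set.not_subsingleton_iff.1 hBs
  obtain ⟨g, hg⟩ : IsK z b0 := hB hb0
  subst hg
  -- translate the block to `z`
  set B' : Set G := (fun x => g⁻¹ * x * g) '' B with hB'
  have hz : z ∈ B' := ⟨_, hb0, by group⟩
  have hB'K : B' ⊆ {x | IsK z x} := by
    rintro _ ⟨x, hx, rfl⟩
    have := (hB hx : IsK z x).conj g⁻¹
    rwa [inv_inv] at this
  have stab' : ∀ {h u : G}, u ∈ B' → h * u * h⁻¹ ∈ B' → ∀ v ∈ B', h * v * h⁻¹ ∈ B' := by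
    rintro h _ ⟨u, hu, rfl⟩ ⟨w, hw, e⟩ _ ⟨v, hv, rfl⟩
    refine ⟨g * h * g⁻¹ * v * (g * h * g⁻¹)⁻¹, stab hu ?_ v hv, by group⟩
    rwa [show g * h * g⁻¹ * u * (g * h * g⁻¹)⁻¹ = g * (h * (g⁻¹ * u * g) * h⁻¹) * g⁻¹ by group, ← e,
      show g * (g⁻¹ * w * g) * g⁻¹ = w by group]
  have flip' : ∀ {d u : G}, u ∈ B' → Commute d u → ∀ v ∈ B', d * v * d⁻¹ ∈ B' := fun hu h =>
    stab' hu (by rw [h.eq, mul_inv_cancel_right]; exact hu)
  -- some neighbour of `z` lies in it
  obtain ⟨a, ha, haB⟩ : ∃ a, Adj z a ∧ a ∈ B' := by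
    obtain ⟨v, hvB, hvz⟩ : ∃ v ∈ B', v ≠ z :=
      ⟨g⁻¹ * b1 * g, ⟨_, hb1, rfl⟩, fun e => hne (by rw [← e]; group)⟩
    by_cases hzv : Commute z v
    · exact ⟨v, ⟨commute_z.1 hzv, hB'K hvB, hvz⟩, hvB⟩
    obtain ⟨m, hm, hzm, hmv⟩ := T.comp_common H hni z_comp (T.comp_eq H hni (hB'K hvB))
    have hmz : z ≠ m := fun e => hzv (e ▸ hmv)
    have hmv' : v ≠ m := fun e => hzv (e ▸ hzm)
    obtain ⟨k, hk⟩ := id hm
    subst hk
    have back : ∀ {u w : G}, Commute (k⁻¹ * u * k) w ↔ Commute u (k * w * k⁻¹) := fun {u w} => by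
      rw [← commute_cj (g := k), show k * (k⁻¹ * u * k) * k⁻¹ = u by group]
    obtain ⟨x', hx', hxne, hx1, hx2⟩ := T.apart_adj H hni (T.adj_at H hni isK_self hzm.symm hmz)
      (T.adj_at H hni (hB'K hvB) hmv hmv') (fun h => hzv (by
        have := back.1 h
        rwa [show k * (k⁻¹ * v * k) * k⁻¹ = v by group] at this))
    set x := k * x' * k⁻¹ with hx
    have hzx : Commute z x := back.1 hx1
    have hxv : ¬ Commute x v := fun h => hx2 (back.2 (hx ▸ h.symm))
    have hxK : IsK z x := hx'.2.1.conj k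
    have hxz : x ≠ z := fun e => hxne (by rw [← e, hx]; group)
    refine ⟨x, ⟨commute_z.1 hzx, hxK, hxz⟩, ?_⟩
    have h1 : x * v * x⁻¹ ∈ B' := flip' hz hzx.symm v hvB
    rw [braid hxK (hB'K hvB) hxv] at h1
    have h2 := flip' hvB (Commute.refl v) _ h1
    have vi := inv_eq_of_mul_eq_one_right (T.conj_sq H (hB'K hvB))
    rwa [vi, show v * (v * x * v) * v = v * v * x * (v * v) by group, T.conj_sq H (hB'K hvB), one_mul,
      mul_one] at h2
  have step : ∀ {u c : G}, Adj z u → u ∈ B' → Adj z c → ¬ Commute u c → c ∈ B' := by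
    intro u c hu huB hc hne'
    have h3 := (T.comp_three H hni (T.adj_comp H hni hu) (T.adj_comp H hni hc)).resolve_left hne'
    have hz' : Commute (u * c) z := ((commute_z.2 hu.1).symm.mul_left (commute_z.2 hc.1).symm)
    have := flip' hz hz' u huB
    rwa [braid_conj (T.conj_sq H hu.2.1) (T.conj_sq H hc.2.1) h3] at this
  have hAB : ∀ c, Adj z c → c ∈ B' := by
    intro c hc
    by_cases hac : Commute a c
    · obtain ⟨e, he, hae, hce⟩ := T.noncomm_adj H hni ha hc hac
      exact step he (step ha haB he hae) hc fun h => hce h.symm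
    · exact step ha haB hc hac
  have hnear : ∀ x, IsK z x → Commute z x → x ∈ B' := fun x hx hc => by
    by_cases hxz : x = z
    · exact hxz ▸ hz
    · exact hAB x ⟨commute_z.1 hc, hx, hxz⟩
  refine Set.Subset.antisymm hB fun x hx => ?_
  suffices g⁻¹ * x * g ∈ B' by
    obtain ⟨y, hy, e⟩ := this
    rwa [← mul_left_cancel (mul_right_cancel e)]
  have hx' : IsK z (g⁻¹ * x * g) := by
    have := (hx : IsK z x).conj g⁻¹
    rwa [inv_inv] at this
  obtain ⟨-, m, hm, hzm, hmx⟩ := T.comp_eq H hni hx'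
  obtain ⟨k, rfl⟩ := hm
  set y := g⁻¹ * x * g with hy
  have h2 := stab' hz (hnear _ ⟨k, rfl⟩ hzm) (k⁻¹ * y * k) (hnear _ (by
    have := hx'.conj k⁻¹
    rwa [inv_inv] at this) (by
      rw [← commute_cj (g := k), show k * (k⁻¹ * y * k) * k⁻¹ = y by group]
      exact hmx))
  rwa [show k * (k⁻¹ * y * k) * k⁻¹ = y by group] at h2

theorem nbr_z : nbr {x | IsK z x} z = {a | Adj z a} := by
  ext a
  exact ⟨fun h => ⟨commute_z.1 h.2.2, h.1, h.2.1⟩, fun h => ⟨h.2.1, h.2.2, commute_z.2 h.1⟩⟩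

theorem lines : FischerO2.Lines {x | IsK z x} := by
  have hA := T.adj_base H hni
  refine ⟨T.trans_group H hni, T.prim H hni, ⟨z, isK_self, _, hA.2.1, hA.2.2.symm, commute_z.2 hA.1⟩,
    z, isK_self, T.rp false false, ?_, ?_⟩
  · rw [T.nbr_z H hni]; exact hA
  obtain ⟨b, hb, hbA, -⟩ := T.setF_den H hni (x := ⟨5, true, gL 1⟩) (List.contains_iff_mem.1
    (Bool.and_eq_true_iff.1 (Bool.and_eq_true_iff.1
      (List.all_eq_true.1 lineF_facts.1 _ (List.mem_cons_self ..))).1).1)
  refine ⟨b, by rw [T.nbr_z H hni]; exact hbA, fun e => ?_, fun y hy => ?_⟩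
  · have := T.den_inj H hb (e ▸ T.den_rp false false)
    exact absurd this (by decide +kernel)
  rw [T.nbr_z H hni] at hy
  obtain ⟨xy, hxy, hyd⟩ := (T.adj_den H hni).1 hy
  have h := List.all_eq_true.1 (List.all_eq_true.1 line_sym xy hxy) ⟨5, true, gL 1⟩ (List.mem_cons_self ..)
  rw [beq_iff_eq] at h
  constructor
  · intro hc
    exact ((T.den_com H hyd hb).1 (h.trans ((T.den_com H hyd (T.den_rp false false)).2 hc.symm.eq))).symm
  · intro hc
    exact ((T.den_com H hyd (T.den_rp false false)).1 (h.symm.trans ((T.den_com H hyd hb).2 hc.symm.eq))).symm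

theorem line_base : (FischerO2.line {x | IsK z x} z (T.rp false false)).ncard = 5 := by
  classical
  have hA := T.adj_base H hni
  have hr : T.Den xbase (T.rp false false) := T.den_rp false false
  obtain ⟨hlF, hlN, -⟩ := lineF_facts
  have hex : ∀ l ∈ lineF, ∃ y, T.Den l y ∧ Adj z y ∧ Commute (T.rp false false) y := fun l hl =>
    T.setF_den H hni (List.contains_iff_mem.1
      (Bool.and_eq_true_iff.1 (Bool.and_eq_true_iff.1 (List.all_eq_true.1 hlF l hl)).1).1)
  haveI : Nonempty G := ⟨1⟩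
  choose! yf hyd hyA hya using hex
  have key : FischerO2.line {x | IsK z x} z (T.rp false false) =
      ↑((z :: T.rp false false :: lineF.map yf).toFinset) := by
    ext u
    rw [List.coe_toFinset, Set.mem_setOf_eq, List.mem_cons, List.mem_cons, List.mem_map]
    constructor
    · rintro ⟨huK, hall⟩
      by_cases huz : u = z
      · exact Or.inl huz
      right
      have huA : Adj z u := ⟨commute_z.1 (hall z ⟨isK_self, Commute.refl z, (commute_z.2 hA.1).symm⟩).symm,
        huK, huz⟩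
      obtain ⟨xu, hxu, hud⟩ := (T.adj_den H hni).1 huA
      have h := List.all_eq_true.1 line_perp xu hxu
      simp only [Bool.or_eq_true, Bool.not_eq_true', beq_iff_eq, List.contains_iff_mem] at h
      rcases h with (h | h) | h
      · refine absurd ?_ (Bool.eq_false_iff.1 h)
        rw [List.all_eq_true]
        intro y hy
        obtain ⟨c, hc, hcA, hac⟩ := T.setF_den H hni hy
        exact (T.den_com H hud hc).2 (hall c ⟨hcA.2.1, commute_z.2 hcA.1, hac⟩).eq
      · exact Or.inl (T.den_fun hud (h ▸ hr))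
      · exact Or.inr ⟨xu, h, T.den_fun (hyd xu h) hud⟩
    · rintro (rfl | rfl | ⟨l, hl, rfl⟩)
      · exact ⟨isK_self, fun y hy => hy.2.1⟩
      · exact ⟨hA.2.1, fun y hy => hy.2.2⟩
      refine ⟨(hyA l hl).2.1, fun y hy => ?_⟩
      by_cases hyz : y = z
      · exact hyz ▸ (commute_z.2 (hyA l hl).1).symm
      obtain ⟨xy, hxy, hd⟩ := (T.adj_den H hni).1 (⟨commute_z.1 hy.2.1, hy.1, hyz⟩ : Adj z y)
      have h := List.all_eq_true.1 (List.all_eq_true.1 line_sym xy hxy) l hl
      rw [beq_iff_eq] at h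
      exact ((T.den_com H hd (hyd l hl)).1 (h.trans ((T.den_com H hd hr).2 hy.2.2.symm.eq))).symm
  rw [key, Set.ncard_coe_finset, List.toFinset_card_of_nodup]
  · rfl
  rw [List.nodup_cons, List.nodup_cons]
  refine ⟨?_, ?_, hlN.map_on fun l hl l' hl' e => ?_⟩
  · rw [List.mem_cons, List.mem_map, not_or]
    exact ⟨hA.2.2.symm, fun ⟨l, hl, e⟩ => (hyA l hl).2.2 e⟩
  · rw [List.mem_map]
    rintro ⟨l, hl, e⟩
    have hne := (Bool.and_eq_true_iff.1 (Bool.and_eq_true_iff.1 (List.all_eq_true.1 hlF l hl)).1).2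
    rw [bne_iff_ne] at hne
    exact hne (T.den_inj H (hyd l hl) (e ▸ hr))
  · exact T.den_inj H (hyd l hl) (e ▸ hyd l' hl')

theorem unit5 : FischerO2.Unit5 {x | IsK z x} := by
  have L := T.lines H hni
  have hA := T.adj_base H hni
  refine ⟨L, fun x hx a ha => ?_⟩
  obtain ⟨g, rfl, rfl⟩ := L.exists_map_pair (x := z) (a := T.rp false false) isK_self
    (by rw [T.nbr_z H hni]; exact hA) hx ha
  rw [← T.line_base H hni, ← Set.ncard_image_of_injective
    (FischerO2.line {x | IsK z x} z (T.rp false false)) (f := fun u => g * u * g⁻¹)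
    fun u w e => mul_left_cancel (mul_right_cancel e)]
  congr 1
  ext u
  constructor
  · intro hu
    have h := FischerO2.line_conj L.closed g⁻¹ hu
    rw [show g⁻¹ * (g * z * g⁻¹) * g⁻¹⁻¹ = z by group,
      show g⁻¹ * (g * T.rp false false * g⁻¹) * g⁻¹⁻¹ = T.rp false false by group] at h
    exact ⟨_, h, by group⟩
  · rintro ⟨w, hw, rfl⟩
    exact FischerO2.line_conj L.closed g hw

theorem center_bot : Subgroup.center G = ⊥ := by
  rw [eq_bot_iff]
  intro c hc
  rw [Subgroup.mem_center_iff] at hc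
  obtain ⟨v, b, g, e⟩ := T.el_surj H (mem_Cz.2 (hc z).symm : c ∈ Cz z)
  have key : ∀ w, app (natL g) w = w ∧ bA v w = bA w v := by
    intro w
    have h := hc (T.el w false 1)
    rw [← e, T.el_mul, T.el_mul, natL_one, id_app] at h
    obtain ⟨h1, h2, -⟩ := T.el_inj H h
    rw [xr_comm w v] at h1
    have hw := (xr_left_cancel h1).symm
    rw [hw] at h2
    refine ⟨hw, ?_⟩
    revert h2
    cases b <;> cases bA v w <;> cases bA w v <;> simp
  have hg : g = 1 := natL_inj (by rw [natL_one]; exact lin_ext fun w => by rw [(key w).1, id_app])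
  have hv : v = 0 := bb_nondeg v fun i => by rw [bb, (key _).2, Bool.xor_self]
  subst hg hv
  rw [Subgroup.mem_bot]
  cases b
  · rw [← e, ← T.j_el, T.C.j_one]
  · exfalso
    obtain ⟨h, -, hne⟩ := hni
    have : c = z := by rw [← e, ← T.j_el]; exact T.C.j_z
    refine hne ?_
    rw [← this, hc h, mul_inv_cancel_right]

theorem nbr_card : (nbr {x | IsK z x} z).ncard = 180 := by
  rw [T.nbr_z H hni, ← T.adj_card H hni]
  exact (Nat.card_coe_set_eq _).symm

/-- The group is `U₆(2)`. -/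
theorem psu_six : Nonempty (G ≃* Cfsg.PSU 6 K4 2) := by
  classical
  obtain ⟨n, hn, f, C⟩ := FischerClass.unit_coords (T.unit5 H hni)
  have L := T.lines H hni
  have hnb : ∀ p : UP n, ({q | q ≠ p ∧ uh p.1.rep q.1.rep = 0} : Set (UP n)).ncard = 180 := by
    intro p
    have hp : f p ∈ {x | IsK z x} := C.range ▸ Set.mem_range_self p
    have himg : nbr {x | IsK z x} (f p) = f '' {q | q ≠ p ∧ uh p.1.rep q.1.rep = 0} := by
      have hiff : ∀ q, Commute (f p) (f q) ↔ uh p.1.rep q.1.rep = 0 := fun q => by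
        have hp2 : f p * f p = 1 := T.conj_sq H hp
        rw [← FischerClass.uop_eq_iff p q]
        constructor
        · intro h
          apply C.inj
          rw [C.conj, h.eq, mul_assoc, hp2, mul_one]
        · intro h
          have := congrArg f h
          rw [C.conj] at this
          show f p * f q = f q * f p
          conv_rhs => rw [← this]
          rw [mul_assoc (f p * f q), hp2, mul_one]
      ext y
      constructor
      · intro hy
        obtain ⟨q, rfl⟩ : ∃ q, f q = y := by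
          have := hy.1
          rwa [← C.range] at this
        exact ⟨q, ⟨fun e => hy.2.1 (e ▸ rfl), (hiff q).1 hy.2.2⟩, rfl⟩
      · rintro ⟨q, ⟨hne, hq⟩, rfl⟩
        exact ⟨C.range ▸ Set.mem_range_self q, fun e => hne (C.inj e), (hiff q).2 hq⟩
    rw [← Set.ncard_image_of_injective _ C.inj, ← himg, L.nbr_ncard_eq hp isK_self, T.nbr_card H hni]
  obtain ⟨p0, -⟩ : ∃ p, f p = z := by
    have : z ∈ Set.range f := C.range ▸ (isK_self : IsK z z)
    exact this
  have hn6 : n = 6 := by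
    by_contra hne
    rcases (by omega : n ≤ 5 ∨ 7 ≤ n) with h5 | h7
    · obtain ⟨i, hi⟩ := Function.ne_iff.1 p0.1.rep_nonzero
      set v0 : UV n := Pi.single i 1
      have hv0 : uh v0 p0.1.rep ≠ 0 := by
        simp only [uh, hermForm, v0, Pi.single_apply, ite_mul, one_mul, zero_mul, Finset.sum_ite_eq',
          Finset.mem_univ, if_true]
        exact pow_ne_zero 2 hi
      set S := {q : UP n | q ≠ p0 ∧ uh p0.1.rep q.1.rep = 0}
      let F : S × {c : K4 // c ≠ 0} × K4 → UV n := fun x => x.2.1.1 • x.1.1.1.rep + x.2.2 • v0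
      have hF : Function.Injective F := by
        rintro ⟨⟨q, hq⟩, ⟨c, hc⟩, t⟩ ⟨⟨q', hq'⟩, ⟨c', hc'⟩, t'⟩ e
        have h1 := congrArg (fun w => uh w p0.1.rep) e
        simp only [F, uh_add_left, uh_smul_left, FischerClass.uh_zero_iff.2 hq.2, FischerClass.uh_zero_iff.2 hq'.2,
          mul_zero, zero_add] at h1
        obtain rfl := mul_right_cancel₀ hv0 h1
        have h2 : c • q.1.rep = c' • q'.1.rep := add_right_cancel e
        have hqq : q = q' := FischerClass.eq_of_rep (c := c⁻¹ * c') (by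
          rw [mul_smul, ← h2, smul_smul, inv_mul_cancel₀ hc, one_smul])
        subst hqq
        obtain rfl := smul_left_injective K4 q.1.rep_nonzero h2
        rfl
      have := Nat.card_le_card_of_injective F hF
      rw [Nat.card_prod, Nat.card_prod, Nat.card_coe_set_eq, hnb p0] at this
      have h3 : Nat.card {c : K4 // c ≠ 0} = 3 := by
        rw [Nat.card_eq_fintype_card]; decide +kernel
      rw [h3, Nat.card_eq_fintype_card, Nat.card_eq_fintype_card, Fintype.card_fun, Fintype.card_fin,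
        K4.card_eq] at this
      have : 4 ^ n ≤ 4 ^ 5 := Nat.pow_le_pow_right (by norm_num) h5
      omega
    · obtain ⟨hw, hwd⟩ := wVec_facts
      obtain ⟨hee, -⟩ : uh e7 e7 = 0 ∧ True := ⟨FischerClass.prog_checks.2.1, trivial⟩
      have he0 : pad n e7 ≠ 0 := fun e => by
        have h := congrFun (FischerClass.pad_inj h7 (u := e7) (v := 0) (e.trans (funext fun i => by
          simp only [pad, Pi.zero_apply]; split <;> rfl))) 0
        exact absurd h (by decide +kernel)
      set p := mkU (pad n e7) he0 ((FischerClass.uh_pad h7 e7 e7).trans hee) with hp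
      let w : Fin 46 × K4 → Fin 7 → K4 := fun x => wVec x.1 + x.2 • e7
      have away : ∀ i, FischerClass.Away (wVec i) := fun i => ⟨(hw i).1, (hw i).2.1⟩
      have hwiso : ∀ x, uh (pad n (w x)) (pad n (w x)) = 0 := fun x => by
        rw [FischerClass.uh_pad h7]
        simp only [w, uh_add_left, uh_add_right, uh_smul_left, uh_smul_right, (away x.1).uh_e.1, (away x.1).uh_e.2,
          (hw x.1).2.2.2, hee, mul_zero, add_zero]
      have hw0 : ∀ x, pad n (w x) ≠ 0 := fun x e => (hw x.1).2.2.1 (FischerClass.eq_zero_of_e (away x.1)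
        (FischerClass.pad_inj h7 (u := w x) (v := 0) (e.trans (funext fun i => by
          simp only [pad, Pi.zero_apply]; split <;> rfl))))
      let F : Fin 46 × K4 → UP n := fun x => mkU (pad n (w x)) (hw0 x) (hwiso x)
      have split : ∀ (i j : Fin 46) (s t k : K4), k • w (i, s) = w (j, t) → k • wVec i = wVec j ∧ k * s = t := by
        intro i j s t k e
        have h0 := congrFun e 0
        simp only [w, Pi.smul_apply, Pi.add_apply, (away i).1, (away j).1, smul_eq_mul, zero_add,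
          show e7 0 = 1 from rfl, mul_one] at h0
        refine ⟨?_, h0⟩
        simp only [w, smul_add, smul_smul, h0] at e
        exact add_right_cancel e
      have hF : Function.Injective F := by
        rintro ⟨i, s⟩ ⟨j, t⟩ e
        obtain ⟨k, hk⟩ := FischerClass.mkU_eq_iff.1 e
        rw [← FischerClass.pad_smul] at hk
        obtain ⟨h1, h2⟩ := split j i t s k (FischerClass.pad_inj h7 hk)
        obtain ⟨rfl, rfl⟩ := hwd j i k h1
        rw [one_mul] at h2
        rw [h2]
      have hsub : Set.range F ⊆ {q | q ≠ p ∧ uh p.1.rep q.1.rep = 0} := by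
        rintro _ ⟨x, rfl⟩
        refine ⟨fun e => ?_, ?_⟩
        · obtain ⟨k, hk⟩ := FischerClass.mkU_eq_iff.1 e
          rw [← FischerClass.pad_smul] at hk
          have hk' := FischerClass.pad_inj h7 hk
          refine (hw x.1).2.2.1 (FischerClass.eq_zero_of_e (away x.1) (t := x.2 - k) ?_)
          rw [sub_smul, hk']
          simp [w]
        · obtain ⟨a, -, ea⟩ := FischerClass.mkU_rep _ he0 ((FischerClass.uh_pad h7 e7 e7).trans hee)
          obtain ⟨b, -, eb⟩ := FischerClass.mkU_rep _ (hw0 x) (hwiso x)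
          rw [hp, ea, eb, uh_smul_left, uh_smul_right, FischerClass.uh_pad h7]
          simp [w, uh_add_right, uh_smul_right, (away x.1).uh_e.2, hee]
      have := Set.ncard_le_ncard hsub (Set.toFinite _)
      rw [hnb p, Set.ncard_range_of_injective hF, Nat.card_prod, Nat.card_eq_fintype_card,
        Nat.card_eq_fintype_card, Fintype.card_fin, K4.card_eq] at this
      omega
  subst hn6
  exact ⟨((FischerClass.psu_model (n := 6) (by norm_num)).iso (T.trans_group H hni) (T.center_bot H hni) C).choose⟩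

end Sp

end CfsgLib.USixType
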