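import Cfsg.Agent.Lib.USixType.Split

/-!
Coordinates for a faithful action of `SU₄(2)` on a group of order 256 in terms of generators.
-/

set_option autoImplicit false
set_option linter.unusedSectionVars false
set_option linter.style.haveILetI false
set_option maxRecDepth 100000

namespace CfsgLib.USixType

/-- A faithful matrix representation with given matrices of the generators. -/
structure Mdl (G : Fin 5 → Lin) where
  L : G4 → Lin
  mul : ∀ g h, L (g * h) = comp (L g) (L h)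
  one : L 1 = idL
  gen_eq : ∀ k, L (gen k) = G k
  inj : Function.Injective L

/-- The natural representation. -/
noncomputable def natM : Mdl gL := ⟨natL, natL_mul, natL_one, natL_gen, natL_inj⟩

namespace Mdl

variable {G : Fin 5 → Lin} (M : Mdl G)
include M

theorem evalW_L : ∀ w, M.L (evalW w) = linW G w
  | [] => M.one
  | k :: w => by rw [evalW, M.mul, M.gen_eq, evalW_L w]; rfl

theorem word {v w : List (Fin 5)} (h : linW gL v = linW gL w) : linW G v = linW G w := by
  rw [← M.evalW_L, ← M.evalW_L, evalW_eq h]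

end Mdl

namespace Act

variable {V : Type*} [AddCommGroup V] (A : Act V)
include A

theorem fix_ne {i : Fin 14} (hi : i ≠ 0) {x : EI} (hx : ev i x ≠ 0) {v : V} (hv : v ∈ A.R i)
    (hv0 : v ≠ 0) : A.φ (eE x) v ≠ v := fun e => hv0 (by
  have h := A.eE_sum hi hx hv
  rw [eE_add, A.app_mul, e, e, A.two, zero_add] at h
  exact h)

theorem sq_eq {i : Fin 14} (hi : i ≠ 0) {x : EI} (hx : ev i x ≠ 0) {v : V} (hv : v ∈ A.R i) :
    A.φ (eE (x + x)) v = v + A.φ (eE x) v := by
  have h := A.eE_sum hi hx hv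
  exact (eq_neg_of_add_eq_zero_right h).trans (A.neg_eq _)

theorem plane {i : Fin 14} (hi : i ≠ 0) (hc : Nat.card (A.R i) = 4) {x : EI} (hx : ev i x ≠ 0)
    {v : V} (hv : v ∈ A.R i) (hv0 : v ≠ 0) {w : V} (hw : w ∈ A.R i) :
    w = 0 ∨ w = v ∨ w = A.φ (eE x) v ∨ w = v + A.φ (eE x) v := by
  haveI : Finite V := Nat.finite_of_card_ne_zero (by rw [A.card]; norm_num)
  set a := A.φ (eE x) v with ha
  have ha0 : a ≠ 0 := fun e => hv0 ((A.φ (eE x)).injective (by rw [map_zero]; exact e))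
  have hne : a ≠ v := A.fix_ne hi hx hv hv0
  have hs0 : v + a ≠ 0 := fun e => hne ((eq_neg_of_add_eq_zero_right e).trans (A.neg_eq v))
  let f : Fin 4 → A.R i :=
    ![0, ⟨v, hv⟩, ⟨a, A.eE_mem x hv⟩, ⟨v + a, add_mem hv (A.eE_mem x hv)⟩]
  have hinj : Function.Injective f := by
    intro p q e
    have e' := congrArg Subtype.val e
    fin_cases p <;> fin_cases q <;>
      simp [f, hv0, hv0.symm, ha0, ha0.symm, hne, hne.symm, hs0, hs0.symm] at e' ⊢
  have hb : Function.Bijective f :=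
    (Nat.bijective_iff_injective_and_card f).2 ⟨hinj, by rw [hc, Nat.card_eq_fintype_card, Fintype.card_fin]⟩
  obtain ⟨p, hp⟩ := hb.2 ⟨w, hw⟩
  have hp' := congrArg Subtype.val hp
  fin_cases p
  · exact Or.inl hp'.symm
  · exact Or.inr (Or.inl hp'.symm)
  · exact Or.inr (Or.inr (Or.inl hp'.symm))
  · exact Or.inr (Or.inr (Or.inr hp'.symm))

/-- An involution commuting with an element of order three on a plane fixes the plane. -/
theorem plane_fix {k : Fin 3} {i : Fin 14} (hi : i ≠ 0) (hc : Nat.card (A.R i) = 4)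
    (h : ∀ y, fc i y = fc i (sig k y)) {x : EI} (hx : ev i x ≠ 0) (hs : ev i (sig k x) = ev i x)
    {v : V} (hv : v ∈ A.R i) : A.φ (gen (sk k)) v = v := by
  by_cases hv0 : v = 0
  · rw [hv0, map_zero]
  set s := A.φ (gen (sk k)) with hsdef
  set a := A.φ (eE x) v with ha
  have hsv : s v ∈ A.R i := A.s_R h hv
  have hcomm : s a = A.φ (eE x) (s v) := by
    rw [hsdef, ha, ← A.app_mul, sk_eE, A.app_mul]
    exact A.eE_same hs hsv
  have hss : s (s v) = v := A.s_s k v
  have hne := A.fix_ne hi hx hv hv0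
  have hsq := A.sq_eq hi hx hv
  rcases A.plane hi hc hx hv hv0 hsv with e | e | e | e
  · exact absurd (s.injective (e.trans (map_zero s).symm)) hv0
  · exact e
  · exfalso
    rw [e, hcomm, e, ← A.app_mul, ← eE_add, hsq] at hss
    exact hv0 (by simpa [ha] using hss)
  · exfalso
    rw [e, map_add, hcomm, e, map_add, ← A.app_mul, ← eE_add, hsq] at hss
    have h2 : v + a + (a + (v + a)) = a := by
      rw [show v + a + (a + (v + a)) = (v + v) + (a + a) + a by abel, A.two, A.two]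
      simp
    exact hne (h2.symm.trans hss)

/-- Coordinates. -/
structure Frame {W : Type*} [AddCommGroup W] (B : Act W) where
  e : V8 ≃ W
  add : ∀ a b, e (xr a b) = e a + e b

namespace Frame

variable {A} (F : A.Frame)
include F

theorem e_zero : F.e 0 = 0 := by
  have h := F.add 0 0
  rw [xr_self, A.two] at h
  exact h

/-- The matrix of an element. -/
noncomputable def L (g : G4) : Lin := ofFun fun v => F.e.symm (A.φ g (F.e v))

theorem app_L (g : G4) (v : V8) : app (F.L g) v = F.e.symm (A.φ g (F.e v)) :=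
  app_ofFun (fun a b => F.e.injective (by simp only [Equiv.apply_symm_apply, F.add, map_add])) v

theorem e_L (g : G4) (v : V8) : F.e (app (F.L g) v) = A.φ g (F.e v) := by
  rw [F.app_L, Equiv.apply_symm_apply]

theorem L_mul (g h : G4) : F.L (g * h) = comp (F.L g) (F.L h) :=
  lin_ext fun v => F.e.injective (by rw [app_comp, F.e_L, F.e_L, F.e_L, A.app_mul])

theorem L_one : F.L 1 = idL :=
  lin_ext fun v => F.e.injective (by rw [F.e_L, A.app_one, id_app])

theorem L_inj : Function.Injective F.L := fun g h e => by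
  have h1 : g * h⁻¹ = 1 := A.faith _ fun v => by
    obtain ⟨x, hx⟩ := F.e.surjective (A.φ h⁻¹ v)
    have h2 := congrArg (fun T => F.e (app T x)) e
    simp only [F.e_L, hx, ← A.app_mul, mul_inv_cancel] at h2
    rw [h2, A.app_one]
  exact mul_inv_eq_one.1 h1

/-- The representation of a frame. -/
noncomputable def mdl {G : Fin 5 → Lin} (h : ∀ k, F.L (gen k) = G k) : Mdl G :=
  ⟨F.L, F.L_mul, F.L_one, h, F.L_inj⟩

theorem L_eq {g : G4} {T : Lin} (h : ∀ i, A.φ g (F.e (un i)) = F.e (app T (un i))) : F.L g = T := by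
  have e : ∀ i, app (F.L g) (un i) = app T (un i) := fun i => F.e.injective ((F.e_L g _).trans (h i))
  obtain ⟨a0, a1, a2, a3, a4, a5, a6, a7⟩ := app_units (F.L g)
  obtain ⟨b0, b1, b2, b3, b4, b5, b6, b7⟩ := app_units T
  have := e 0; have := e 1; have := e 2; have := e 3; have := e 4; have := e 5; have := e 6; have := e 7
  revert a0 a1 a2 a3 a4 a5 a6 a7 b0 b1 b2 b3 b4 b5 b6 b7
  rcases hL : F.L g with ⟨⟩
  cases T
  intros
  simp_all [un]

end Frame

/-- The combination of eight vectors. -/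
def comb {W : Type*} [AddCommMonoid W] (b : Fin 8 → W) (v : V8) : W := ∑ i : Fin 8, cond (cb v i) (b i) 0

theorem comb_xr (b : Fin 8 → V) (v w : V8) : comb b (xr v w) = comb b v + comb b w := by
  rw [comb, comb, comb, ← Finset.sum_add_distrib]
  exact Finset.sum_congr rfl fun i _ => by
    rw [cb_xr]; cases cb v i <;> cases cb w i <;> simp [A.two]

omit A in
theorem cb_un : ∀ i j : Fin 8, cb (un i) j = decide (i = j) := by decide +kernel

theorem comb_un (b : Fin 8 → V) (i : Fin 8) : comb b (un i) = b i := by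
  rw [comb, Finset.sum_eq_single i]
  · simp [cb_un]
  · intro j _ hj; simp [cb_un, Ne.symm hj]
  · simp

/-- The range of a combination. -/
def span (b : Fin 8 → V) : AddSubgroup V where
  carrier := Set.range (comb b)
  zero_mem' := ⟨0, by simp [comb, cb_zero]⟩
  add_mem' := by rintro _ _ ⟨v, rfl⟩ ⟨w, rfl⟩; exact ⟨xr v w, A.comb_xr b v w⟩
  neg_mem' := by rintro _ ⟨v, rfl⟩; exact ⟨v, (A.neg_eq _).symm⟩

theorem mem_span (b : Fin 8 → V) (i : Fin 8) : b i ∈ A.span b := ⟨un i, A.comb_un b i⟩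

theorem frame_of (b : Fin 8 → V) (h : ∀ i, ∀ v ∈ A.R i, v ∈ A.span b) :
    ∃ F : A.Frame, ∀ i, F.e (un i) = b i := by
  haveI : Finite V := Nat.finite_of_card_ne_zero (by rw [A.card]; norm_num)
  have hsur : Function.Surjective (comb b) := fun v => by
    have : v ∈ A.span b := A.P_sum v ▸ sum_mem fun i _ => h i _ (A.P_mem i v)
    exact this
  have hb : Function.Bijective (comb b) := (Nat.bijective_iff_surjective_and_card _).2
    ⟨hsur, by rw [A.card, Nat.card_eq_fintype_card, Fintype.card_fin]⟩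
  exact ⟨⟨Equiv.ofBijective _ hb, A.comb_xr b⟩, A.comb_un b⟩

theorem triv_R {i : Fin 14} (h : Nat.card (A.R i) = 1) {v : V} (hv : v ∈ A.R i) : v = 0 := by
  haveI := (Nat.card_eq_one_iff_unique.1 h).1
  exact congrArg Subtype.val (Subsingleton.elim (⟨v, hv⟩ : A.R i) 0)

end Act

/-! ### Four planes -/

/-- The vectors fixed by the last two transpositions. -/
def fixA : List V8 := [0, 1, 2, 3, 84, 85, 86, 87, 168, 169, 170, 171, 252, 253, 254, 255]

theorem fixA_all : ∀ v, app (gL 2) v = v → app (gL 3) v = v → fixA.contains v = true := by decide +kernel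

/-- A candidate for the fifth generator. -/
def candA (u w : V8) : Lin :=
  ⟨u, w, app (gL 1) u, app (gL 1) w, app (gL 2) (app (gL 1) u), app (gL 2) (app (gL 1) w),
    app (gL 3) (app (gL 2) (app (gL 1) u)), app (gL 3) (app (gL 2) (app (gL 1) w))⟩

/-- Replacing the fifth generator. -/
def withY (G : Fin 5 → Lin) (T : Lin) : Fin 5 → Lin := ![G 0, G 1, G 2, G 3, T]

/-- The relations fixing the fifth generator. -/
def relY : List (List (Fin 5) × List (Fin 5)) :=
  [([4, 4], []), ([4, 1], [1, 4]), ([0, 4, 0, 4, 0, 4, 0, 4], []), ([0, 1, 4, 0, 1, 4, 0, 1, 4], [])]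

theorem relY_gL : relY.all (fun p => decide (linW gL p.1 = linW gL p.2)) = true := by decide +kernel

theorem candA_check : fixA.all (fun u => fixA.all fun w =>
    !(relY.all fun p => decide (linW (withY gL (candA u w)) p.1 = linW (withY gL (candA u w)) p.2)) ||
      decide (candA u w = gL 4)) = true := by
  decide +kernel

theorem comm_words : ∀ k : Fin 5, k = 1 ∨ k = 2 ∨ k = 3 → linW gL [4, k] = linW gL [k, 4] := by
  decide +kernel

namespace Act

variable {V : Type*} [AddCommGroup V] (A : Act V)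
include A

set_option maxHeartbeats 1000000 in
/-- Four planes: the natural representation. -/
theorem natural (hA : ∀ i, Nat.card (A.R i) = pat 1 4 1 1 i) :
    ∃ F : A.Frame, ∀ k, F.L (gen k) = gL k := by
  haveI : Finite V := Nat.finite_of_card_ne_zero (by rw [A.card]; norm_num)
  have hc1 : Nat.card (A.R 1) = 4 := hA 1
  haveI : Nontrivial (A.R 1) := Finite.one_lt_card_iff_nontrivial.1 (by omega)
  obtain ⟨⟨u, hu⟩, hu0⟩ := exists_ne (0 : A.R 1)
  have hu0' : u ≠ 0 := fun e => hu0 (Subtype.ext e)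
  obtain ⟨q12, q23, q34, -⟩ := orbits
  have q12' : ∀ x, fc 2 x = fc 1 (sig 0 x) := fun x => by rw [q12 (sig 0 x), sig_sig]
  have q23' : ∀ x, fc 3 x = fc 2 (sig 1 x) := fun x => by rw [q23 (sig 1 x), sig_sig]
  have q34' : ∀ x, fc 4 x = fc 3 (sig 2 x) := fun x => by rw [q34 (sig 2 x), sig_sig]
  set w := A.φ (gen 0) u with hw
  have hwR : w ∈ A.R 1 := by rw [hw, ← eE_gen]; exact A.eE_mem _ hu
  set b : Fin 8 → V := ![u, w, A.φ (gen 1) u, A.φ (gen 1) w, A.φ (gen 2) (A.φ (gen 1) u),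
    A.φ (gen 2) (A.φ (gen 1) w), A.φ (gen 3) (A.φ (gen 2) (A.φ (gen 1) u)),
    A.φ (gen 3) (A.φ (gen 2) (A.φ (gen 1) w))] with hb
  have hx1 : ev 1 (1, 0, 0) ≠ 0 := by decide
  have pl : ∀ v ∈ A.R 1, v = 0 ∨ v = u ∨ v = w ∨ v = u + w := fun v hv => by
    have := A.plane (by decide) hc1 hx1 hu hu0' hv
    rwa [eE_gen] at this
  have hm := A.mem_span b
  have h1 : ∀ v ∈ A.R 1, v ∈ A.span b := fun v hv => by
    rcases pl v hv with e | e | e | e <;> rw [e]
    exacts [zero_mem _, hm 0, hm 1, add_mem (hm 0) (hm 1)]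
  have h2 : ∀ v ∈ A.R 2, v ∈ A.span b := fun v hv => by
    rw [← A.s_s 0 v]
    rcases pl _ (A.s_R q12' hv) with e | e | e | e <;> rw [e]
    · rw [map_zero]; exact zero_mem _
    · exact hm 2
    · exact hm 3
    · rw [map_add]; exact add_mem (hm 2) (hm 3)
  have h3 : ∀ v ∈ A.R 3, v ∈ A.span b := fun v hv => by
    rw [← A.s_s 1 v, ← A.s_s 0 (A.φ (gen (sk 1)) v)]
    rcases pl _ (A.s_R q12' (A.s_R q23' hv)) with e | e | e | e <;> rw [e]
    · rw [map_zero, map_zero]; exact zero_mem _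
    · exact hm 4
    · exact hm 5
    · rw [map_add, map_add]; exact add_mem (hm 4) (hm 5)
  have h4 : ∀ v ∈ A.R 4, v ∈ A.span b := fun v hv => by
    rw [← A.s_s 2 v, ← A.s_s 1 (A.φ (gen (sk 2)) v), ← A.s_s 0 (A.φ (gen (sk 1)) (A.φ (gen (sk 2)) v))]
    rcases pl _ (A.s_R q12' (A.s_R q23' (A.s_R q34' hv))) with e | e | e | e <;> rw [e]
    · rw [map_zero, map_zero, map_zero]; exact zero_mem _
    · exact hm 6
    · exact hm 7
    · rw [map_add, map_add, map_add]; exact add_mem (hm 6) (hm 7)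
  obtain ⟨F, hF⟩ := A.frame_of b fun i v hv => by
    by_cases hi : i = 1 ∨ i = 2 ∨ i = 3 ∨ i = 4
    · rcases hi with rfl | rfl | rfl | rfl
      exacts [h1 v hv, h2 v hv, h3 v hv, h4 v hv]
    · have key : ∀ j : Fin 14, ¬(j = 1 ∨ j = 2 ∨ j = 3 ∨ j = 4) → pat 1 4 1 1 j = 1 := by decide
      have : pat 1 4 1 1 i = 1 := key i hi
      rw [A.triv_R ((hA i).trans this) hv]
      exact zero_mem _
  -- the planes
  have r0 : b 0 ∈ A.R 1 := hu
  have r1 : b 1 ∈ A.R 1 := hwR
  have r2 : b 2 ∈ A.R 2 := A.s_R (k := 0) q12 hu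
  have r3 : b 3 ∈ A.R 2 := A.s_R (k := 0) q12 hwR
  have r4 : b 4 ∈ A.R 3 := A.s_R (k := 1) q23 r2
  have r5 : b 5 ∈ A.R 3 := A.s_R (k := 1) q23 r3
  have r6 : b 6 ∈ A.R 4 := A.s_R (k := 2) q34 r4
  have r7 : b 7 ∈ A.R 4 := A.s_R (k := 2) q34 r5
  have f01 : ∀ v ∈ A.R 1, A.φ (gen 2) v = v ∧ A.φ (gen 3) v = v := fun v hv =>
    ⟨A.plane_fix (k := 1) (by decide) hc1 (by decide +kernel) (x := (1, 0, 0)) hx1 (by decide) hv,
      A.plane_fix (k := 2) (by decide) hc1 (by decide +kernel) (x := (1, 0, 0)) hx1 (by decide) hv⟩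
  have f2 : ∀ v ∈ A.R 2, A.φ (gen 3) v = v := fun v hv =>
    A.plane_fix (k := 2) (by decide) (hA 2) (by decide +kernel) (x := (1, 0, 0)) (by decide) (by decide) hv
  have f3 : ∀ v ∈ A.R 3, A.φ (gen 1) v = v := fun v hv =>
    A.plane_fix (k := 0) (by decide) (hA 3) (by decide +kernel) (x := (0, 1, 0)) (by decide) (by decide) hv
  have f4 : ∀ v ∈ A.R 4, A.φ (gen 1) v = v ∧ A.φ (gen 2) v = v := fun v hv =>
    ⟨A.plane_fix (k := 0) (by decide) (hA 4) (by decide +kernel) (x := (0, 0, 1)) (by decide) (by decide) hv,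
      A.plane_fix (k := 1) (by decide) (hA 4) (by decide +kernel) (x := (0, 0, 1)) (by decide) (by decide) hv⟩
  have ss : ∀ (k : Fin 3) v, A.φ (gen (sk k)) (A.φ (gen (sk k)) v) = v := A.s_s
  have e0w : A.φ (gen 0) w = u + w := by
    rw [hw, ← eE_gen, ← A.app_mul, ← eE_add]
    exact A.sq_eq (by decide) hx1 hu
  have conj1 : ∀ v ∈ A.R 1, A.φ (gen 0) (A.φ (gen 1) v) = A.φ (gen 1) (A.φ (gen 0) (A.φ (gen 0) v)) := by
    intro v _
    rw [← A.app_mul, ← A.app_mul, ← A.app_mul, ← eE_gen]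
    have h : sig 0 ((1, 0, 0) + (1, 0, 0)) = (1, 0, 0) := by decide
    have := sk_eE 0 ((1, 0, 0) + (1, 0, 0))
    rw [h, eE_add, ← mul_assoc] at this
    exact congrArg (fun g => A.φ g v) this.symm
  have e0fix : ∀ i : Fin 14, ev i (1, 0, 0) = 0 → ∀ v ∈ A.R i, A.φ (gen 0) v = v := fun i hi v hv => by
    rw [← eE_gen]; exact A.eE_fix hi hv
  have G0 : F.L (gen 0) = gL 0 := F.L_eq fun i => by
    have hT : ∀ i, A.φ (gen 0) (b i) = ![b 1, b 0 + b 1, b 2 + b 3, b 2, b 4, b 5, b 6, b 7] i := by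
      intro i
      fin_cases i
      exacts [rfl, e0w,
        (show A.φ (gen 0) (A.φ (gen 1) u) = A.φ (gen 1) u + A.φ (gen 1) w by
          rw [conj1 u hu, ← hw, e0w, map_add]),
        (show A.φ (gen 0) (A.φ (gen 1) w) = A.φ (gen 1) u by
          rw [conj1 w hwR, e0w, map_add, ← hw, e0w, add_left_comm, A.two, add_zero]),
        e0fix 3 (by decide) _ r4, e0fix 3 (by decide) _ r5, e0fix 4 (by decide) _ r6,
        e0fix 4 (by decide) _ r7]
    have ht : ∀ i, app (gL 0) (un i) =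
        ![un 1, xr (un 0) (un 1), xr (un 2) (un 3), un 2, un 4, un 5, un 6, un 7] i := by decide +kernel
    rw [hF, hT, ht]
    fin_cases i <;> simp [F.add, hF]
  have G1 : F.L (gen 1) = gL 1 := F.L_eq fun i => by
    have hT : ∀ i, A.φ (gen 1) (b i) = b (![2, 3, 0, 1, 4, 5, 6, 7] i) := by
      intro i
      fin_cases i
      exacts [rfl, rfl, ss 0 u, ss 0 w, f3 _ r4, f3 _ r5, (f4 _ r6).1, (f4 _ r7).1]
    have ht : ∀ i, app (gL 1) (un i) = un (![2, 3, 0, 1, 4, 5, 6, 7] i) := by decide +kernel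
    rw [hF, hT, ht, hF]
  have G2 : F.L (gen 2) = gL 2 := F.L_eq fun i => by
    have hT : ∀ i, A.φ (gen 2) (b i) = b (![0, 1, 4, 5, 2, 3, 6, 7] i) := by
      intro i
      fin_cases i
      exacts [(f01 _ r0).1, (f01 _ r1).1, rfl, rfl, ss 1 _, ss 1 _, (f4 _ r6).2, (f4 _ r7).2]
    have ht : ∀ i, app (gL 2) (un i) = un (![0, 1, 4, 5, 2, 3, 6, 7] i) := by decide +kernel
    rw [hF, hT, ht, hF]
  have G3 : F.L (gen 3) = gL 3 := F.L_eq fun i => by
    have hT : ∀ i, A.φ (gen 3) (b i) = b (![0, 1, 2, 3, 6, 7, 4, 5] i) := by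
      intro i
      fin_cases i
      exacts [(f01 _ r0).2, (f01 _ r1).2, f2 _ r2, f2 _ r3, rfl, rfl, ss 2 _, ss 2 _]
    have ht : ∀ i, app (gL 3) (un i) = un (![0, 1, 2, 3, 6, 7, 4, 5] i) := by decide +kernel
    rw [hF, hT, ht, hF]
  refine ⟨F, ?_⟩
  set Y := F.L (gen 4) with hY
  set G : Fin 5 → Lin := withY gL Y with hG
  let M : Mdl G := F.mdl fun k => by fin_cases k <;> first | exact G0 | exact G1 | exact G2 | exact G3 | rfl
  have hcom : ∀ k : Fin 5, k = 1 ∨ k = 2 ∨ k = 3 → ∀ v, app Y (app (G k) v) = app (G k) (app Y v) := fun k hk v => by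
    have h := M.word (comm_words k hk)
    simp only [linW, comp_id] at h
    have h' := congrArg (fun T => app T v) h
    simp only [app_comp] at h'
    exact h'
  have c1 := hcom 1 (by simp); have c2 := hcom 2 (by simp); have c3 := hcom 3 (by simp)
  change ∀ v, app Y (app (gL 1) v) = app (gL 1) (app Y v) at c1
  change ∀ v, app Y (app (gL 2) v) = app (gL 2) (app Y v) at c2
  change ∀ v, app Y (app (gL 3) v) = app (gL 3) (app Y v) at c3
  obtain ⟨y0, y1, y2, y3, y4, y5, y6, y7⟩ := app_units Y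
  have hYeq : Y = candA (app Y 1) (app Y 2) := by
    have e4 : app Y 4 = app (gL 1) (app Y 1) := c1 1
    have e8 : app Y 8 = app (gL 1) (app Y 2) := c1 2
    have e16 : app Y 16 = app (gL 2) (app Y 4) := c2 4
    have e32 : app Y 32 = app (gL 2) (app Y 8) := c2 8
    have e64 : app Y 64 = app (gL 3) (app Y 16) := c3 16
    have e128 : app Y 128 = app (gL 3) (app Y 32) := c3 32
    rw [candA, ← e4, ← e8, ← e16, ← e32, ← e64, ← e128, y0, y1, y2, y3, y4, y5, y6, y7]
  have fx : ∀ x : V8, app (gL 2) x = x → app (gL 3) x = x → fixA.contains (app Y x) = true := fun x a c =>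
    fixA_all _ (by rw [← c2, a]) (by rw [← c3, c])
  have key := List.all_eq_true.1 (List.all_eq_true.1 candA_check (app Y 1)
    (List.contains_iff_mem.1 (fx 1 (by decide +kernel) (by decide +kernel)))) (app Y 2)
    (List.contains_iff_mem.1 (fx 2 (by decide +kernel) (by decide +kernel)))
  rw [← hYeq] at key
  have hrel : (relY.all fun p => decide (linW (withY gL Y) p.1 = linW (withY gL Y) p.2)) = true :=
    List.all_eq_true.2 fun p hp => decide_eq_true (M.word (of_decide_eq_true (List.all_eq_true.1 relY_gL p hp)))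
  rw [hrel] at key
  intro k
  fin_cases k
  exacts [G0, G1, G2, G3, of_decide_eq_true key]

end Act

end CfsgLib.USixType
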