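import Cfsg.Agent.Lib.USixType.Vec
import Cfsg.Agent.Lib.Classical.UnitaryTrans
import Cfsg.Agent.Lib.Fischer.UnitaryClass
import Cfsg.Agent.Lib.HePres.Sp4

/-!
`SU₄(2)` acting on `Fin 256`: generators, words and the transvections.
-/

set_option autoImplicit false
set_option linter.unusedSectionVars false
set_option maxRecDepth 100000

namespace CfsgLib.USixType

open Cfsg
open CfsgLib.HePres (K4)
open CfsgLib.Classical.Herm (app_mul app_one ext_app h_app)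

/-- The group. -/
abbrev G4 : Type := ↥(Cfsg.SU 4 K4 2)

/-- A vector over the field with four elements. -/
def dec (v : V8) : Fin 4 → K4 :=
  fun i => ⟨⟨(v.1 >>> (2 * i.1)) % 4, Nat.mod_lt _ (by norm_num)⟩⟩

/-- The code of a vector over the field with four elements. -/
def enc (x : Fin 4 → K4) : V8 :=
  ⟨((x 0).code.1 + 4 * (x 1).code.1 + 16 * (x 2).code.1 + 64 * (x 3).code.1) % 256,
    Nat.mod_lt _ (by norm_num)⟩

theorem enc_dec : ∀ v, enc (dec v) = v := by decide +kernel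

theorem dec_enc : ∀ x, dec (enc x) = x := by decide +kernel

theorem k4_code_add (a b : Fin 4) : (⟨a⟩ : K4) + ⟨b⟩ =
    ⟨⟨(a.1 ^^^ b.1) % 4, Nat.mod_lt _ (by norm_num)⟩⟩ := rfl

theorem dec_xr (a b : V8) : dec (xr a b) = dec a + dec b := funext fun i => by
  rw [Pi.add_apply, dec, dec, dec, k4_code_add]
  refine congrArg K4.mk (Fin.ext ?_)
  show ((a.1 ^^^ b.1) >>> (2 * i.1)) % 4 =
    (((a.1 >>> (2 * i.1)) % 4) ^^^ ((b.1 >>> (2 * i.1)) % 4)) % 4
  have e : ∀ x y : ℕ, (x ^^^ y) % 4 = ((x % 4) ^^^ (y % 4)) % 4 := fun x y => by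
    rw [show 4 = 2 ^ 2 from rfl, ← Nat.xor_mod_two_pow, Nat.mod_mod]
  rw [Nat.shiftRight_xor_distrib]
  exact e _ _

theorem enc_add (x y : Fin 4 → K4) : enc (x + y) = xr (enc x) (enc y) := by
  rw [← dec_enc x, ← dec_enc y, ← dec_xr, enc_dec, enc_dec, enc_dec]

/-- The matrix over the field with two elements of an element. -/
noncomputable def natL (g : G4) : Lin := ofFun fun v => enc (Classical.Herm.app g (dec v))

theorem app_natL (g : G4) (v : V8) : app (natL g) v = enc (Classical.Herm.app g (dec v)) :=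
  app_ofFun (fun a b => by rw [dec_xr, Classical.Herm.app_add, enc_add]) v

theorem natL_mul (g h : G4) : natL (g * h) = comp (natL g) (natL h) :=
  lin_ext fun v => by rw [app_comp, app_natL, app_natL, app_natL, dec_enc, app_mul]

theorem natL_one : natL 1 = idL :=
  lin_ext fun v => by rw [app_natL, app_one, enc_dec, id_app]

theorem natL_inj : Function.Injective natL := fun g h e => ext_app fun x => by
  have h1 := congrArg (fun L => dec (app L (enc x))) e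
  simpa only [app_natL, dec_enc] using h1

/-- The form, by codes. -/
def hc (v w : V8) : K4 := Cfsg.hermForm 4 K4 2 (dec v) (dec w)

theorem hc_natL (g : G4) (v w : V8) : hc (app (natL g) v) (app (natL g) w) = hc v w := by
  simp only [hc, app_natL, dec_enc, h_app]

theorem bit_add : ∀ a b : K4, (a + b).code.1.testBit 0 = (a.code.1.testBit 0 ^^ b.code.1.testBit 0) := by
  decide +kernel

theorem bA_units : ∀ i j, bA (un i) (un j) = (hc (un i) (un j)).code.1.testBit 0 := by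
  unfold hc Cfsg.hermForm
  decide +kernel

theorem herm_add_left (a b c : Fin 4 → K4) :
    Cfsg.hermForm 4 K4 2 (a + b) c = Cfsg.hermForm 4 K4 2 a c + Cfsg.hermForm 4 K4 2 b c := by
  simp only [Cfsg.hermForm, Pi.add_apply, add_mul, Finset.sum_add_distrib]

theorem k4_frob : ∀ a b : K4, (a + b) ^ 2 = a ^ 2 + b ^ 2 := by simp only [pow_two]; decide +kernel

theorem herm_add_right (a b c : Fin 4 → K4) :
    Cfsg.hermForm 4 K4 2 c (a + b) = Cfsg.hermForm 4 K4 2 c a + Cfsg.hermForm 4 K4 2 c b := by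
  simp only [Cfsg.hermForm, Pi.add_apply, k4_frob, mul_add, Finset.sum_add_distrib]

theorem bA_eq (v w : V8) : bA v w = (hc v w).code.1.testBit 0 :=
  bA_bil.ext (γ := fun v w => (hc v w).code.1.testBit 0)
    ⟨fun a b c => by simp only [hc, dec_xr, herm_add_left, bit_add],
      fun a b c => by simp only [hc, dec_xr, herm_add_right, bit_add]⟩ bA_units v w

/-- The unitary cocycle is invariant. -/
theorem bA_natL (g : G4) (v w : V8) : bA (app (natL g) v) (app (natL g) w) = bA v w := by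
  rw [bA_eq, bA_eq, hc_natL]

/-! ### Generators -/

/-- The matrices of the generators. -/
def gmat : Fin 5 → Matrix (Fin 4) (Fin 4) K4 :=
  ![!![⟨2⟩, 0, 0, 0; 0, ⟨3⟩, 0, 0; 0, 0, 1, 0; 0, 0, 0, 1],
    !![0, 1, 0, 0; 1, 0, 0, 0; 0, 0, 1, 0; 0, 0, 0, 1],
    !![1, 0, 0, 0; 0, 0, 1, 0; 0, 1, 0, 0; 0, 0, 0, 1],
    !![1, 0, 0, 0; 0, 1, 0, 0; 0, 0, 0, 1; 0, 0, 1, 0],
    !![0, 1, 1, 1; 1, 0, 1, 1; 1, 1, 0, 1; 1, 1, 1, 0]]

theorem gmat_det : ∀ k, (gmat k).det = 1 := by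
  decide +kernel

theorem gmat_unit : ∀ k i j, ∑ l, gmat k l i * (gmat k l j * gmat k l j) = if i = j then 1 else 0 := by
  decide +kernel

theorem gmat_mem (k : Fin 5) (u v : Fin 4 → K4) :
    Cfsg.hermForm 4 K4 2 ((gmat k).mulVec u) ((gmat k).mulVec v) = Cfsg.hermForm 4 K4 2 u v := by
  have hs : ∀ (a : Fin 4 → K4), (∑ i, a i) ^ 2 = ∑ i, (a i) ^ 2 := fun a => by
    simp only [Fin.sum_univ_four, k4_frob]
  have key := gmat_unit k
  simp only [Cfsg.hermForm, Matrix.mulVec, dotProduct, hs, Finset.sum_mul, Finset.mul_sum, mul_pow]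
  rw [Finset.sum_comm]
  refine Finset.sum_congr rfl fun i _ => ?_
  rw [Finset.sum_comm]
  have e : ∀ j, ∑ l, gmat k l j * u j * (gmat k l i ^ 2 * v i ^ 2) =
      (if j = i then 1 else 0) * (u j * v i ^ 2) := fun j => by
    rw [← key j i, Finset.sum_mul]
    exact Finset.sum_congr rfl fun l _ => by ring
  rw [Finset.sum_congr rfl fun j _ => e j]
  simp only [ite_mul, one_mul, zero_mul, Finset.sum_ite_eq', Finset.mem_univ, if_true]

/-- The generators. -/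
def gen (k : Fin 5) : G4 := ⟨⟨gmat k, gmat_det k⟩, fun u v => gmat_mem k u v⟩

/-- Their matrices over the field with two elements. -/
def gL : Fin 5 → Lin :=
  ![⟨2, 3, 12, 4, 16, 32, 64, 128⟩, ⟨4, 8, 1, 2, 16, 32, 64, 128⟩, ⟨1, 2, 16, 32, 4, 8, 64, 128⟩,
    ⟨1, 2, 4, 8, 64, 128, 16, 32⟩, ⟨84, 168, 81, 162, 69, 138, 21, 42⟩]

theorem gL_check : ∀ k, ∀ v : Fin 8, app (gL k) (un v) = enc ((gmat k).mulVec (dec (un v))) := by
  decide +kernel

theorem natL_gen (k : Fin 5) : natL (gen k) = gL k := by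
  have h := gL_check k
  obtain ⟨h0, h1, h2, h3, h4, h5, h6, h7⟩ := app_units (gL k)
  rw [← ofFun_app (gL k)]
  show ofFun (fun v => enc ((gmat k).mulVec (dec v))) = ofFun (app (gL k))
  simp only [ofFun, Lin.mk.injEq]
  exact ⟨(h 0).symm, (h 1).symm, (h 2).symm, (h 3).symm, (h 4).symm, (h 5).symm, (h 6).symm, (h 7).symm⟩

/-- The value of a word. -/
def evalW : List (Fin 5) → G4
  | [] => 1
  | k :: w => gen k * evalW w

/-- The matrix of a word over given matrices. -/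
def linW (g : Fin 5 → Lin) : List (Fin 5) → Lin
  | [] => idL
  | k :: w => comp (g k) (linW g w)

theorem natL_evalW : ∀ w, natL (evalW w) = linW gL w
  | [] => natL_one
  | k :: w => by rw [evalW, natL_mul, natL_gen, natL_evalW w]; rfl

theorem evalW_eq {v w : List (Fin 5)} (h : linW gL v = linW gL w) : evalW v = evalW w :=
  natL_inj (by rw [natL_evalW, natL_evalW, h])

theorem evalW_append : ∀ v w, evalW (v ++ w) = evalW v * evalW w
  | [], w => (one_mul _).symm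
  | k :: v, w => by rw [List.cons_append, evalW, evalW, evalW_append v w, mul_assoc]

/-! ### The transvections -/

/-- Words moving the centre `5` of the second generator to every isotropic vector. -/
def tvTab : List (Fin 256 × List (Fin 5)) := [
  (5, []), (14, [0]), (17, [2]), (11, [0, 0]), (50, [2, 0]), (91, [4, 0]), (18, [0, 2]),
  (20, [1, 2]), (65, [3, 2]), (35, [2, 0, 0]), (94, [4, 0, 0]), (51, [0, 2, 0]), (56, [1, 2, 0]),
  (194, [3, 2, 0]), (103, [4, 2, 0]), (85, [0, 4, 0]), (19, [0, 0, 2]), (24, [1, 0, 2]),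
  (6, [2, 0, 2]), (66, [3, 0, 2]), (237, [4, 0, 2]), (28, [0, 1, 2]), (68, [3, 1, 2]),
  (33, [0, 2, 0, 0]), (44, [1, 2, 0, 0]), (131, [3, 2, 0, 0]), (118, [4, 2, 0, 0]),
  (49, [0, 0, 2, 0]), (60, [1, 0, 2, 0]), (15, [2, 0, 2, 0]), (195, [3, 0, 2, 0]),
  (52, [0, 1, 2, 0]), (200, [3, 1, 2, 0]), (109, [4, 1, 2, 0]), (151, [4, 3, 2, 0]),
  (7, [2, 0, 0, 2]), (67, [3, 0, 0, 2]), (185, [4, 0, 0, 2]), (36, [2, 1, 0, 2]),
  (72, [3, 1, 0, 2]), (231, [4, 1, 0, 2]), (9, [1, 2, 0, 2]), (249, [4, 2, 0, 2]),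
  (189, [4, 3, 0, 2]), (234, [0, 4, 0, 2]), (76, [3, 0, 1, 2]), (182, [4, 0, 1, 2]),
  (80, [2, 3, 1, 2]), (34, [0, 0, 2, 0, 0]), (129, [3, 0, 2, 0, 0]), (222, [4, 0, 2, 0, 0]),
  (40, [0, 1, 2, 0, 0]), (140, [3, 1, 2, 0, 0]), (121, [4, 1, 2, 0, 0]), (214, [4, 3, 2, 0, 0]),
  (127, [0, 4, 2, 0, 0]), (13, [2, 0, 0, 2, 0]), (193, [3, 0, 0, 2, 0]), (155, [4, 0, 0, 2, 0]),
  (204, [3, 1, 0, 2, 0]), (196, [3, 0, 1, 2, 0]), (158, [4, 0, 1, 2, 0]), (224, [2, 3, 1, 2, 0]),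
  (157, [4, 3, 1, 2, 0]), (106, [0, 4, 1, 2, 0]), (173, [4, 2, 0, 0, 2]), (233, [4, 3, 0, 0, 2]),
  (132, [3, 2, 1, 0, 2]), (219, [4, 2, 1, 0, 2]), (96, [2, 3, 1, 0, 2]), (183, [4, 3, 1, 0, 2]),
  (246, [4, 1, 2, 0, 2]), (186, [0, 4, 3, 0, 2]), (191, [4, 0, 4, 0, 2]), (112, [2, 3, 0, 1, 2]),
  (230, [4, 3, 0, 1, 2]), (10, [2, 0, 0, 2, 0, 0]), (130, [3, 0, 0, 2, 0, 0]),
  (126, [4, 3, 0, 2, 0, 0]), (136, [3, 0, 1, 2, 0, 0]), (176, [2, 3, 1, 2, 0, 0]),
  (217, [4, 3, 1, 2, 0, 0]), (223, [0, 4, 3, 2, 0, 0]), (213, [4, 0, 4, 2, 0, 0]),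
  (167, [4, 2, 0, 0, 2, 0]), (107, [4, 3, 0, 0, 2, 0]), (149, [0, 4, 0, 0, 2, 0]),
  (240, [2, 3, 1, 0, 2, 0]), (208, [2, 3, 0, 1, 2, 0]), (110, [4, 3, 0, 1, 2, 0]),
  (181, [4, 2, 3, 1, 2, 0]), (154, [0, 4, 3, 1, 2, 0]), (170, [0, 4, 2, 0, 0, 2]),
  (144, [2, 3, 2, 1, 0, 2]), (123, [4, 3, 2, 1, 0, 2]), (159, [4, 2, 3, 1, 0, 2]),
  (255, [0, 4, 1, 2, 0, 2]), (174, [2, 0, 4, 3, 0, 2]), (239, [4, 0, 4, 3, 0, 2]),
  (218, [4, 2, 3, 0, 1, 2]), (160, [2, 3, 0, 1, 2, 0, 0]), (229, [4, 2, 3, 1, 2, 0, 0]),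
  (247, [2, 0, 4, 3, 2, 0, 0]), (117, [4, 0, 4, 3, 2, 0, 0]), (101, [0, 4, 3, 0, 0, 2, 0]),
  (122, [4, 2, 3, 0, 1, 2, 0]), (190, [0, 4, 2, 3, 1, 2, 0]), (166, [2, 0, 4, 3, 1, 2, 0]),
  (111, [4, 2, 3, 2, 1, 0, 2]), (153, [0, 4, 2, 3, 1, 0, 2]), (171, [0, 2, 0, 4, 3, 0, 2]),
  (251, [4, 2, 0, 4, 3, 0, 2]), (215, [0, 4, 2, 3, 0, 1, 2]), (238, [0, 4, 2, 3, 1, 2, 0, 0]),
  (253, [0, 2, 0, 4, 3, 2, 0, 0]), (93, [4, 2, 0, 4, 3, 2, 0, 0]), (89, [2, 0, 4, 3, 0, 0, 2, 0]),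
  (119, [0, 4, 2, 3, 0, 1, 2, 0]), (187, [0, 0, 4, 2, 3, 1, 2, 0]),
  (175, [0, 2, 0, 4, 3, 1, 2, 0]), (169, [1, 2, 0, 4, 3, 1, 2, 0]),
  (105, [0, 4, 2, 3, 2, 1, 0, 2]), (150, [0, 0, 4, 2, 3, 1, 0, 2]),
  (165, [2, 0, 4, 2, 3, 1, 0, 2]), (254, [4, 0, 2, 0, 4, 3, 0, 2]),
  (245, [0, 4, 2, 0, 4, 3, 0, 2]), (221, [0, 0, 4, 2, 3, 0, 1, 2]),
  (235, [0, 0, 4, 2, 3, 1, 2, 0, 0]), (250, [2, 0, 4, 2, 3, 1, 2, 0, 0]),
  (87, [4, 0, 2, 0, 4, 3, 2, 0, 0]), (90, [0, 4, 2, 0, 4, 3, 2, 0, 0]),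
  (86, [0, 2, 0, 4, 3, 0, 0, 2, 0]), (125, [0, 0, 4, 2, 3, 0, 1, 2, 0]),
  (95, [2, 0, 4, 2, 3, 0, 1, 2, 0]), (102, [0, 0, 4, 2, 3, 2, 1, 0, 2])]

theorem tv_good : tvTab.all (fun p => app (linW gL p.2) 5 == p.1) = true := by decide +kernel

theorem tv_all : ∀ x : V8, x ≠ 0 → hc x x = 0 → (tvTab.any fun p => p.1 == x) = true := by
  unfold hc Cfsg.hermForm
  decide +kernel

theorem s1_table : ∀ v : V8, app (gL 1) v = enc (fun i => dec v i + hc v 5 * dec 5 i) := by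
  unfold hc Cfsg.hermForm
  decide +kernel

theorem five_iso : Cfsg.hermForm 4 K4 2 (dec 5) (dec 5) = 0 := by
  unfold Cfsg.hermForm
  decide +kernel

theorem s1_herm (u : Fin 4 → K4) : Classical.Herm.app (gen 1) u =
    u + Cfsg.hermForm 4 K4 2 u (dec 5) • dec 5 := by
  have h := congrArg dec (s1_table (enc u))
  rw [← natL_gen, app_natL, dec_enc, dec_enc] at h
  exact (show Classical.Herm.app (gen 1) u = _ from h).trans (by simp only [hc, dec_enc]; rfl)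

theorem rank_gen :
    (((gen 1 : Matrix.SpecialLinearGroup (Fin 4) K4) : Matrix (Fin 4) (Fin 4) K4) - 1).rank = 1 := by
  have hM : ((gen 1 : Matrix.SpecialLinearGroup (Fin 4) K4) : Matrix (Fin 4) (Fin 4) K4) - 1 =
      Matrix.vecMulVec (dec 5) (fun i => dec 5 i ^ 2) :=
    Fischer.sub_eq_of_apply fun x => by
      refine (s1_herm x).trans ?_
      congr 2
      simp only [hermForm, dotProduct, mul_comm]
  rw [hM]
  refine Fischer.rank_vecMulVec_eq_one (fun e => absurd (congrFun e 0) (by decide +kernel)) fun e =>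
    absurd (congrFun e 0) (by simp only [pow_two]; decide +kernel)

theorem gen_top : Subgroup.closure (Set.range gen) = ⊤ := by
  set N := Subgroup.closure (Set.range gen) with hN
  have hev : ∀ w, evalW w ∈ N := by
    intro w
    induction w with
    | nil => exact one_mem _
    | cons k w ih => exact mul_mem (Subgroup.subset_closure ⟨k, rfl⟩) ih
  have hcls := Fischer.unitary_class (F := K4) K4.card_eq (n := 4) le_rfl
  rw [eq_top_iff, ← hcls.2.2, Subgroup.closure_le]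
  intro t ht
  obtain ⟨d, hd, hD⟩ := hcls.2.1
  have hs : gen 1 ∈ {g : G4 | (((g : Matrix.SpecialLinearGroup (Fin 4) K4) : Matrix (Fin 4) (Fin 4) K4) - 1).rank = 1} :=
    rank_gen
  rw [hD] at hs ht
  obtain ⟨g, rfl⟩ := isConj_iff.1 (IsConj.trans (IsConj.symm hs) ht)
  -- the centre of the conjugate
  set x := enc (Classical.Herm.app g (dec 5)) with hx
  have hx0 : x ≠ 0 := fun e => by
    have h := congrArg (fun v => enc (Classical.Herm.app g⁻¹ (dec v))) e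
    simp only [hx, dec_enc, Classical.Herm.app_inv, enc_dec] at h
    rw [← app_natL, app_zero] at h
    exact absurd h (by decide)
  have hxx : hc x x = 0 := by
    rw [hx, hc, dec_enc, h_app]
    exact five_iso
  obtain ⟨⟨y, w⟩, hp, hy⟩ := List.any_eq_true.1 (tv_all x hx0 hxx)
  have hw := List.all_eq_true.1 tv_good _ hp
  simp only [beq_iff_eq] at hy hw
  subst hy
  have key : ∀ (h : G4) (v : Fin 4 → K4), Classical.Herm.app (h * gen 1 * h⁻¹) v =
      v + Cfsg.hermForm 4 K4 2 v (Classical.Herm.app h (dec 5)) • Classical.Herm.app h (dec 5) := by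
    intro h v
    obtain ⟨u, rfl⟩ : ∃ u, v = Classical.Herm.app h u := ⟨_, (Classical.Herm.app_inv' h v).symm⟩
    rw [app_mul, app_mul, Classical.Herm.app_inv, s1_herm, Classical.Herm.app_add, Classical.Herm.app_smul, h_app]
  have e : g * gen 1 * g⁻¹ = evalW w * gen 1 * (evalW w)⁻¹ := ext_app fun v => by
    have h2 : Classical.Herm.app g (dec 5) = Classical.Herm.app (evalW w) (dec 5) := by
      have h3 := congrArg dec hw
      rw [← natL_evalW, app_natL, dec_enc] at h3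
      rw [h3, hx, dec_enc]
    rw [key, key, h2]
  rw [e]
  exact mul_mem (mul_mem (hev w) (Subgroup.subset_closure ⟨1, rfl⟩)) (inv_mem (hev w))

end CfsgLib.USixType
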