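import Cfsg.Agent.Lib.USixType.SU

/-!
An elementary abelian group of order 256 under `SU₄(2)`, split by the diagonal group of order 27.
-/

set_option autoImplicit false
set_option linter.unusedSectionVars false
set_option linter.style.haveILetI false
set_option maxRecDepth 100000

namespace CfsgLib.USixType

/-- Parameters of the diagonal group. -/
abbrev EI : Type := ZMod 3 × ZMod 3 × ZMod 3

/-- Words for the diagonal elements. -/
def ew (x : EI) : List (Fin 5) :=
  (List.replicate x.1.val [(0 : Fin 5)]).flatten ++ ((List.replicate x.2.1.val [2, 0, 2, 0, 0]).flatten ++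
    (List.replicate x.2.2.val [3, 2, 0, 2, 3, 2, 0, 0, 2]).flatten)

/-- The diagonal elements. -/
def eE (x : EI) : G4 := evalW (ew x)

/-- The matrices of the diagonal elements. -/
def eTab : List Lin := [
  ⟨1, 2, 4, 8, 16, 32, 64, 128⟩, ⟨1, 2, 4, 8, 32, 48, 192, 64⟩, ⟨1, 2, 4, 8, 48, 16, 128, 192⟩,
  ⟨1, 2, 8, 12, 48, 16, 64, 128⟩, ⟨1, 2, 8, 12, 16, 32, 192, 64⟩, ⟨1, 2, 8, 12, 32, 48, 128, 192⟩,
  ⟨1, 2, 12, 4, 32, 48, 64, 128⟩, ⟨1, 2, 12, 4, 48, 16, 192, 64⟩, ⟨1, 2, 12, 4, 16, 32, 128, 192⟩,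
  ⟨2, 3, 12, 4, 16, 32, 64, 128⟩, ⟨2, 3, 12, 4, 32, 48, 192, 64⟩, ⟨2, 3, 12, 4, 48, 16, 128, 192⟩,
  ⟨2, 3, 4, 8, 48, 16, 64, 128⟩, ⟨2, 3, 4, 8, 16, 32, 192, 64⟩, ⟨2, 3, 4, 8, 32, 48, 128, 192⟩,
  ⟨2, 3, 8, 12, 32, 48, 64, 128⟩, ⟨2, 3, 8, 12, 48, 16, 192, 64⟩, ⟨2, 3, 8, 12, 16, 32, 128, 192⟩,
  ⟨3, 1, 8, 12, 16, 32, 64, 128⟩, ⟨3, 1, 8, 12, 32, 48, 192, 64⟩, ⟨3, 1, 8, 12, 48, 16, 128, 192⟩,
  ⟨3, 1, 12, 4, 48, 16, 64, 128⟩, ⟨3, 1, 12, 4, 16, 32, 192, 64⟩, ⟨3, 1, 12, 4, 32, 48, 128, 192⟩,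
  ⟨3, 1, 4, 8, 32, 48, 64, 128⟩, ⟨3, 1, 4, 8, 48, 16, 192, 64⟩, ⟨3, 1, 4, 8, 16, 32, 128, 192⟩]

/-- The matrix of a diagonal element. -/
def eL (x : EI) : Lin := eTab.getD (9 * x.1.val + 3 * x.2.1.val + x.2.2.val) idL

theorem eL_check : ∀ x : EI, linW gL (ew x) = eL x := by decide +kernel

theorem eL_mul : ∀ x y : EI, comp (eL x) (eL y) = eL (x + y) := by decide +kernel

theorem natL_eE (x : EI) : natL (eE x) = eL x := by rw [eE, natL_evalW, eL_check]

theorem eE_add (x y : EI) : eE (x + y) = eE x * eE y :=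
  natL_inj (by rw [natL_mul, natL_eE, natL_eE, natL_eE, eL_mul])

theorem eE_zero : eE 0 = 1 := by
  have h : linW gL (ew 0) = linW gL [] := by decide +kernel
  exact (evalW_eq h).trans rfl

theorem eE_gen : eE (1, 0, 0) = gen 0 := by
  have h : linW gL (ew (1, 0, 0)) = linW gL [0] := by decide +kernel
  exact (evalW_eq h).trans (mul_one _)

/-- The permutations of the diagonal group by the three fundamental permutations. -/
def sig : Fin 3 → EI → EI :=
  ![fun x => (x.2.1 - x.1, x.2.1, x.2.2), fun x => (x.1, x.1 + x.2.2 - x.2.1, x.2.2),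
    fun x => (x.1, x.2.1, x.2.1 - x.2.2)]

/-- The generator of a fundamental permutation. -/
def sk : Fin 3 → Fin 5 := ![1, 2, 3]

theorem sig_check : ∀ k x, comp (gL (sk k)) (eL x) = comp (eL (sig k x)) (gL (sk k)) := by
  decide +kernel

theorem sk_sq : ∀ k, linW gL [sk k, sk k] = linW gL [] := by decide +kernel

theorem sk_mul_self (k : Fin 3) : gen (sk k) * gen (sk k) = 1 := by
  have h := evalW_eq (sk_sq k)
  simpa [evalW] using h

theorem sk_eE (k : Fin 3) (x : EI) : gen (sk k) * eE x = eE (sig k x) * gen (sk k) :=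
  natL_inj (by rw [natL_mul, natL_mul, natL_eE, natL_eE, natL_gen, sig_check])

/-- The functionals: zero, the four coordinates, the three sums and the six differences. -/
def chi : Fin 14 → EI :=
  ![(0, 0, 0), (1, 0, 0), (2, 1, 0), (0, 2, 1), (0, 0, 2), (0, 1, 0), (1, 2, 1), (1, 0, 2),
    (2, 2, 0), (1, 1, 2), (1, 0, 1), (2, 2, 2), (2, 1, 1), (0, 2, 2)]

/-- The value of a functional. -/
def ev (i : Fin 14) (x : EI) : ZMod 3 :=
  (chi i).1 * x.1 + (chi i).2.1 * x.2.1 + (chi i).2.2 * x.2.2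

/-- The number of a parameter. -/
def ix (x : EI) : ℕ := 9 * x.1.val + 3 * x.2.1.val + x.2.2.val

/-- The idempotents of the group algebra, as sets of parameters. -/
def masks : List ℕ :=
  [134217727, 134217216, 16748536, 62512366, 115043766, 132379128, 108455662,
    57596854, 119308280, 97467118, 95795126, 64444254, 112061278, 91929950]

/-- The idempotents of the group algebra. -/
def fc (i : Fin 14) (x : EI) : Bool := (masks.getD i.1 0).testBit (ix x)

/-- The sum of Booleans, modulo two. -/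
def par {α : Type*} [Fintype α] (f : α → Bool) : Bool := decide (Odd (Finset.univ.filter fun a => f a = true).card)

/-- The product in the group algebra. -/
def conv (f g : EI → Bool) (z : EI) : Bool := par fun x => f x && g (z - x)

theorem conv_fc : ∀ i j, ∀ z, conv (fc i) (fc j) z = if i = j then fc i z else false := by
  decide +kernel

theorem sum_fc : ∀ z, par (fun i => fc i z) = decide (z = 0) := by decide +kernel

/-- Translation in the group algebra. -/
def shift (x : EI) (f : EI → Bool) (z : EI) : Bool := f (z - x)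

theorem shift_fc : ∀ i x, ev i x = 0 → ∀ z, shift x (fc i) z = fc i z := by decide +kernel

theorem fpf_fc : ∀ i : Fin 14, i ≠ 0 → ∀ x, ev i x ≠ 0 →
    ∀ z, (fc i z ^^ shift x (fc i) z ^^ shift (x + x) (fc i) z) = false := by decide +kernel

theorem sig_sig : ∀ k x, sig k (sig k x) = x := by decide +kernel

theorem sig_bij (k : Fin 3) : Function.Bijective (sig k) :=
  Function.Involutive.bijective (sig_sig k)

theorem conv_comm (f g : EI → Bool) (z : EI) : conv f g z = conv g f z := by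
  unfold conv par
  congr 2
  exact Finset.card_equiv (Equiv.subLeft z) fun x => by simp [and_comm]

theorem orbits : (∀ x, fc 1 x = fc 2 (sig 0 x)) ∧ (∀ x, fc 2 x = fc 3 (sig 1 x)) ∧
    (∀ x, fc 3 x = fc 4 (sig 2 x)) ∧ (∀ x, fc 5 x = fc 6 (sig 1 x)) ∧ (∀ x, fc 6 x = fc 7 (sig 2 x)) ∧
    (∀ x, fc 8 x = fc 9 (sig 1 x)) ∧ (∀ x, fc 9 x = fc 10 (sig 2 x)) ∧ (∀ x, fc 9 x = fc 11 (sig 0 x)) ∧
    (∀ x, fc 11 x = fc 12 (sig 2 x)) ∧ (∀ x, fc 12 x = fc 13 (sig 1 x)) := by
  decide +kernel

/-- An additive group of exponent two with an action. -/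
structure Act (V : Type*) [AddCommGroup V] where
  φ : G4 → V ≃+ V
  mul : ∀ g h v, φ (g * h) v = φ g (φ h v)
  two : ∀ v : V, v + v = 0
  card : Nat.card V = 256
  faith : ∀ g, (∀ v, φ g v = v) → g = 1

namespace Act

variable {V : Type*} [AddCommGroup V] (A : Act V)
include A

theorem app_mul (g h : G4) (v : V) : A.φ (g * h) v = A.φ g (A.φ h v) := A.mul g h v

theorem app_one (v : V) : A.φ 1 v = v := by
  refine (A.φ 1).injective ?_
  rw [← A.app_mul, one_mul]

theorem neg_eq (v : V) : -v = v := neg_eq_of_add_eq_zero_left (A.two v)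

theorem sum_const {α : Type*} (s : Finset α) (v : V) :
    ∑ _a ∈ s, v = cond (decide (Odd s.card)) v 0 := by
  rw [Finset.sum_const]
  rcases Nat.even_or_odd s.card with h | h
  · obtain ⟨k, hk⟩ := h
    rw [hk, show decide (Odd (k + k)) = false by simp, cond_false, add_nsmul, A.two]
  · rw [decide_eq_true h]
    obtain ⟨k, hk⟩ := h
    rw [hk, cond_true, two_mul, add_nsmul, add_nsmul, A.two, zero_add, one_nsmul]

theorem sum_cond {α : Type*} [Fintype α] (f : α → Bool) (v : V) :
    ∑ a, cond (f a) v 0 = cond (par f) v 0 := by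
  rw [par, ← A.sum_const, Finset.sum_filter]
  exact Finset.sum_congr rfl fun a _ => by cases f a <;> simp

/-- The action of the group algebra. -/
def act (f : EI → Bool) (v : V) : V := ∑ x, cond (f x) (A.φ (eE x) v) 0

theorem act_add (f : EI → Bool) (v w : V) : A.act f (v + w) = A.act f v + A.act f w := by
  rw [act, act, act, ← Finset.sum_add_distrib]
  exact Finset.sum_congr rfl fun x _ => by cases f x <;> simp

theorem act_sum {α : Type*} (s : Finset α) (f : EI → Bool) (v : α → V) :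
    A.act f (∑ a ∈ s, v a) = ∑ a ∈ s, A.act f (v a) :=
  map_sum (AddMonoidHom.mk' (A.act f) (A.act_add f)) v s

theorem act_conv (f g : EI → Bool) (v : V) : A.act f (A.act g v) = A.act (conv f g) v := by
  have h1 : A.act f (A.act g v) = ∑ x, ∑ y, cond (f x && g y) (A.φ (eE (x + y)) v) 0 := by
    refine Finset.sum_congr rfl fun x _ => ?_
    cases f x
    · simp
    · simp only [cond_true, Bool.true_and, act, map_sum]
      exact Finset.sum_congr rfl fun y _ => by
        cases g y
        · simp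
        · simp only [cond_true, eE_add, A.app_mul]
  have h2 : ∀ x, ∑ y, cond (f x && g y) (A.φ (eE (x + y)) v) 0 =
      ∑ z, cond (f x && g (z - x)) (A.φ (eE z) v) 0 := fun x =>
    Fintype.sum_equiv (Equiv.addLeft x) _ _ fun y => by simp
  rw [h1, Finset.sum_congr rfl fun x _ => h2 x, Finset.sum_comm]
  exact Finset.sum_congr rfl fun z _ => A.sum_cond _ _

theorem act_delta (v : V) : A.act (fun z => decide (z = 0)) v = v := by
  rw [act, Finset.sum_eq_single (0 : EI)]
  · simp [eE_zero, A.app_one]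
  · intro b _ hb; simp [hb]
  · simp

/-- The projections. -/
def P (i : Fin 14) (v : V) : V := A.act (fc i) v

theorem P_add (i : Fin 14) (v w : V) : A.P i (v + w) = A.P i v + A.P i w := A.act_add _ _ _

theorem P_sum (v : V) : ∑ i, A.P i v = v := by
  conv_rhs => rw [← A.act_delta v]
  rw [funext fun z => (sum_fc z).symm]
  show ∑ i, ∑ x, cond (fc i x) (A.φ (eE x) v) 0 = _
  rw [Finset.sum_comm]
  exact Finset.sum_congr rfl fun x _ => A.sum_cond _ _

theorem P_P (i j : Fin 14) (v : V) : A.P i (A.P j v) = if i = j then A.P i v else 0 := by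
  rw [P, P, A.act_conv, funext (conv_fc i j)]
  by_cases h : i = j
  · simp only [if_pos h]; rfl
  · simp [if_neg h, act]

/-- The components. -/
def R (i : Fin 14) : AddSubgroup V where
  carrier := {v | A.P i v = v}
  add_mem' {a b} ha hb := by
    simp only [Set.mem_setOf_eq] at ha hb ⊢
    rw [A.P_add, ha, hb]
  zero_mem' := by
    have h := A.P_add i 0 0
    rw [add_zero] at h
    exact left_eq_add.1 h
  neg_mem' {a} ha := by simpa [A.neg_eq] using ha

theorem mem_R {i : Fin 14} {v : V} : v ∈ A.R i ↔ A.P i v = v := Iff.rfl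

theorem P_mem (i : Fin 14) (v : V) : A.P i v ∈ A.R i := by rw [A.mem_R, A.P_P, if_pos rfl]

theorem P_other {i j : Fin 14} (h : i ≠ j) {v : V} (hv : v ∈ A.R j) : A.P i v = 0 := by
  rw [← A.mem_R.1 hv, A.P_P, if_neg h]

/-- The group is the product of the components. -/
theorem card_prod : ∏ i, Nat.card (A.R i) = 256 := by
  haveI : Finite V := Nat.finite_of_card_ne_zero (by rw [A.card]; norm_num)
  rw [← Nat.card_pi, ← A.card]
  refine Nat.card_congr (Equiv.ofBijective (fun w : ∀ i, A.R i => ∑ i, (w i : V))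
    ⟨fun a b e => funext fun i => Subtype.ext ?_, fun v => ⟨fun i => ⟨A.P i v, A.P_mem i v⟩, A.P_sum v⟩⟩)
  have key : ∀ w : ∀ i, A.R i, A.P i (∑ j, (w j : V)) = (w i : V) := fun w => by
    rw [P, A.act_sum, Finset.sum_eq_single i]
    · exact A.mem_R.1 (w i).2
    · intro j _ hj; exact A.P_other (Ne.symm hj) (w j).2
    · simp
  rw [← key a, ← key b]
  exact congrArg (A.P i) e

theorem phi_shift (x : EI) (f : EI → Bool) (v : V) : A.φ (eE x) (A.act f v) = A.act (shift x f) v := by
  rw [act, map_sum]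
  refine Fintype.sum_equiv (Equiv.addLeft x) _ _ fun y => ?_
  cases h : f y <;> simp [shift, h, eE_add, A.app_mul]

theorem eE_fix {i : Fin 14} {x : EI} (h : ev i x = 0) {v : V} (hv : v ∈ A.R i) : A.φ (eE x) v = v := by
  rw [← A.mem_R.1 hv, P, A.phi_shift, funext (shift_fc i x h)]

theorem eE_same {i : Fin 14} {x y : EI} (h : ev i x = ev i y) {v : V} (hv : v ∈ A.R i) :
    A.φ (eE x) v = A.φ (eE y) v := by
  have h0 : ev i (x - y) = 0 := by
    have e : ev i (x - y) = ev i x - ev i y := by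
      simp only [ev, Prod.fst_sub, Prod.snd_sub]; ring
    rw [e, h, sub_self]
  conv_lhs => rw [show x = y + (x - y) by abel, eE_add, A.app_mul, A.eE_fix h0 hv]

theorem eE_mem {i : Fin 14} (x : EI) {v : V} (hv : v ∈ A.R i) : A.φ (eE x) v ∈ A.R i := by
  have hc : conv (fc i) (shift x fun z => decide (z = 0)) = conv (shift x fun z => decide (z = 0)) (fc i) :=
    funext fun z => conv_comm _ _ z
  have he : ∀ w, A.φ (eE x) w = A.act (shift x fun z => decide (z = 0)) w := fun w => by
    rw [← A.phi_shift, A.act_delta]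
  rw [A.mem_R, P, he, A.act_conv, hc, ← A.act_conv]
  exact congrArg _ (A.mem_R.1 hv)

theorem eE_sum {i : Fin 14} (hi : i ≠ 0) {x : EI} (hx : ev i x ≠ 0) {v : V} (hv : v ∈ A.R i) :
    v + A.φ (eE x) v + A.φ (eE (x + x)) v = 0 := by
  have e : ∀ f g : EI → Bool, A.act f v + A.act g v = A.act (fun z => f z ^^ g z) v := fun f g => by
    simp only [act, ← Finset.sum_add_distrib]
    exact Finset.sum_congr rfl fun z _ => by cases f z <;> cases g z <;> simp [A.two]
  rw [← A.mem_R.1 hv, P, A.phi_shift, A.phi_shift, e, e, funext (fpf_fc i hi x hx)]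
  simp [act]

/-- A nontrivial component off the centraliser has at least four elements. -/
theorem four_le {i : Fin 14} (hi : i ≠ 0) (h : Nat.card (A.R i) ≠ 1) : 4 ≤ Nat.card (A.R i) := by
  haveI : Finite V := Nat.finite_of_card_ne_zero (by rw [A.card]; norm_num)
  have key : ∀ i : Fin 14, i ≠ 0 → ∃ x, ev i x = 1 := by decide +kernel
  obtain ⟨x, hx⟩ := key i hi
  have hxx : ev i (x + x) = 2 := by
    have e : ev i (x + x) = ev i x + ev i x := by simp only [ev, Prod.fst_add, Prod.snd_add]; ring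
    rw [e, hx]; rfl
  have hR : Nontrivial (A.R i) := Finite.one_lt_card_iff_nontrivial.1 (by
    have := Nat.card_pos (α := A.R i); omega)
  obtain ⟨⟨v, hv⟩, hv0⟩ := exists_ne (0 : A.R i)
  have hv0' : v ≠ 0 := fun e => hv0 (Subtype.ext e)
  set a := A.φ (eE x) v with ha
  set b := A.φ (eE (x + x)) v with hb
  have hsum : v + a + b = 0 := A.eE_sum hi (by rw [hx]; decide) hv
  have hne : a ≠ v := fun e => hv0' (by
    have h2 : b = v := by rw [hb, eE_add, A.app_mul, ← ha, e, ← ha, e]
    rw [e, h2, A.two, zero_add] at hsum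
    exact hsum)
  have ha0 : a ≠ 0 := fun e => hv0' ((A.φ (eE x)).injective (by rw [map_zero]; exact e))
  have hb0 : b ≠ 0 := fun e => hv0' ((A.φ (eE (x + x))).injective (by rw [map_zero]; exact e))
  have hab : b = v + a := by
    rw [← add_eq_zero_iff_eq_neg.1 (show b + (v + a) = 0 by rw [add_comm]; exact hsum) |>.trans (A.neg_eq _)]
  let f : Fin 4 → A.R i := ![0, ⟨v, hv⟩, ⟨a, A.eE_mem x hv⟩, ⟨b, A.eE_mem _ hv⟩]
  have hinj : Function.Injective f := by
    intro p q e
    have e' := congrArg Subtype.val e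
    fin_cases p <;> fin_cases q <;> simp [f, hab, hv0', hv0'.symm, ha0, ha0.symm, hne, hne.symm] at e' ⊢ <;>
      exact absurd e' (by first | exact (hab ▸ hb0) | exact fun h => (hab ▸ hb0) h.symm)
  simpa using Nat.card_le_card_of_injective f hinj

theorem s_P (k : Fin 3) (i j : Fin 14) (h : ∀ x, fc i x = fc j (sig k x)) (v : V) :
    A.φ (gen (sk k)) (A.P i v) = A.P j (A.φ (gen (sk k)) v) := by
  rw [P, P, act, act, map_sum]
  refine Fintype.sum_bijective (sig k) (sig_bij k) _ _ fun x => ?_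
  rw [← h x]
  cases fc i x
  · simp
  · simp only [cond_true, ← A.app_mul, sk_eE]

theorem s_R {k : Fin 3} {i j : Fin 14} (h : ∀ x, fc i x = fc j (sig k x)) {v : V} (hv : v ∈ A.R i) :
    A.φ (gen (sk k)) v ∈ A.R j := by
  rw [A.mem_R, ← A.s_P k i j h, A.mem_R.1 hv]

theorem s_s (k : Fin 3) (v : V) : A.φ (gen (sk k)) (A.φ (gen (sk k)) v) = v := by
  rw [← A.app_mul, sk_mul_self, A.app_one]

theorem card_eq {k : Fin 3} {i j : Fin 14} (h : ∀ x, fc i x = fc j (sig k x)) :
    Nat.card (A.R i) = Nat.card (A.R j) := by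
  have h' : ∀ x, fc j x = fc i (sig k x) := fun x => by rw [h (sig k x), sig_sig]
  exact Nat.card_congr
    { toFun := fun v => ⟨A.φ (gen (sk k)) v, A.s_R h v.2⟩
      invFun := fun v => ⟨A.φ (gen (sk k)) v, A.s_R h' v.2⟩
      left_inv := fun v => Subtype.ext (A.s_s k v)
      right_inv := fun v => Subtype.ext (A.s_s k v) }

/-- The size pattern of the components. -/
def pat (d a b c : ℕ) (i : Fin 14) : ℕ :=
  ![d, a, a, a, a, b, b, b, c, c, c, c, c, c] i

omit A in
theorem prod_pat (d a b c : ℕ) : ∏ i, pat d a b c i = d * (a ^ 4 * (b ^ 3 * c ^ 6)) := by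
  simp only [pat, Fin.prod_univ_succ, Fin.prod_univ_zero, Matrix.cons_val_zero, Matrix.cons_val_succ]
  ring

theorem card_pat (i : Fin 14) : Nat.card (A.R i) =
    pat (Nat.card (A.R 0)) (Nat.card (A.R 1)) (Nat.card (A.R 5)) (Nat.card (A.R 8)) i := by
  obtain ⟨q12, q23, q34, q56, q67, q8, q9, q11, q12', q13⟩ := orbits
  have e2 := (A.card_eq q12).symm
  have e3 := (A.card_eq q23).symm.trans e2
  have e4 := (A.card_eq q34).symm.trans e3
  have e6 := (A.card_eq q56).symm
  have e7 := (A.card_eq q67).symm.trans e6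
  have e9 := (A.card_eq q8).symm
  have e10 := (A.card_eq q9).symm.trans e9
  have e11 := (A.card_eq q11).symm.trans e9
  have e12 := (A.card_eq q12').symm.trans e11
  have e13 := (A.card_eq q13).symm.trans e12
  fin_cases i
  exacts [rfl, rfl, e2, e3, e4, rfl, e6, e7, rfl, e9, e10, e11, e12, e13]

/-- Either four planes, or three planes and a fixed plane. -/
theorem cases :
    (∀ i, Nat.card (A.R i) = pat 1 4 1 1 i) ∨ (∀ i, Nat.card (A.R i) = pat 4 1 4 1 i) := by
  haveI : Finite V := Nat.finite_of_card_ne_zero (by rw [A.card]; norm_num)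
  have hp := A.card_prod
  rw [Finset.prod_congr rfl fun i _ => A.card_pat i, prod_pat] at hp
  have h4a := A.four_le (i := 1) (by decide)
  have h4b := A.four_le (i := 5) (by decide)
  have h4c := A.four_le (i := 8) (by decide)
  have hd0 : 0 < Nat.card (A.R 0) := Nat.card_pos
  have ha0 : 0 < Nat.card (A.R 1) := Nat.card_pos
  have hb0 : 0 < Nat.card (A.R 5) := Nat.card_pos
  have hc0 : 0 < Nat.card (A.R 8) := Nat.card_pos
  have triv : Nat.card (A.R 1) = 1 → Nat.card (A.R 5) = 1 → Nat.card (A.R 8) = 1 → False := by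
    intro ha hb hc
    have hone : ∀ i : Fin 14, i ≠ 0 → Nat.card (A.R i) = 1 := fun i hi => by
      rw [A.card_pat i, ha, hb, hc]
      revert hi
      fin_cases i <;> simp [pat]
    have hv : ∀ v, A.P 0 v = v := fun v => by
      conv_rhs => rw [← A.P_sum v, Finset.sum_eq_single (0 : Fin 14) (fun i _ hi => by
        haveI := (Nat.card_eq_one_iff_unique.1 (hone i hi)).1
        exact congrArg Subtype.val (Subsingleton.elim (⟨_, A.P_mem i v⟩ : A.R i) 0)) (by simp)]
    have h1 : gen 0 = 1 := A.faith _ fun v => by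
      rw [← eE_gen, A.eE_fix (i := 0) (by decide) (A.mem_R.2 (hv v))]
    have h2 := congrArg natL h1
    rw [natL_gen, natL_one] at h2
    exact absurd h2 (by decide)
  generalize hd : Nat.card (A.R 0) = d at hp hd0
  generalize ha : Nat.card (A.R 1) = a at hp ha0 h4a triv
  generalize hb : Nat.card (A.R 5) = b at hp hb0 h4b triv
  generalize hc : Nat.card (A.R 8) = c at hp hc0 h4c triv
  obtain rfl : c = 1 := by
    by_contra hne
    have h1 : 4 ^ 6 ≤ c ^ 6 := Nat.pow_le_pow_left (h4c hne) 6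
    have h2 : c ^ 6 ∣ 256 := ⟨d * a ^ 4 * b ^ 3, by rw [← hp]; ring⟩
    have := Nat.le_of_dvd (by norm_num) h2
    omega
  rw [one_pow, mul_one] at hp
  by_cases ha1 : a = 1
  · right
    subst ha1
    rw [one_pow, one_mul] at hp
    have hb4 := h4b fun e => triv rfl e rfl
    have hb7 : b < 7 := by
      by_contra hlt
      have h1 : 7 ^ 3 ≤ b ^ 3 := Nat.pow_le_pow_left (by omega) 3
      have h2 : b ^ 3 ∣ 256 := ⟨d, by rw [← hp]; ring⟩
      have := Nat.le_of_dvd (by norm_num) h2
      omega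
    obtain ⟨rfl, rfl⟩ : b = 4 ∧ d = 4 := by
      interval_cases b <;> omega
    intro i
    rw [A.card_pat i, hd, ha, hb, hc]
  · left
    have h4 := h4a ha1
    have ha4 : a = 4 := by
      by_contra h
      have h1 : 5 ^ 4 ≤ a ^ 4 := Nat.pow_le_pow_left (by omega) 4
      have h2 : a ^ 4 ∣ 256 := ⟨d * b ^ 3, by rw [← hp]; ring⟩
      have := Nat.le_of_dvd (by norm_num) h2
      omega
    subst ha4
    norm_num at hp
    have hdb : d * b ^ 3 = 1 := by nlinarith
    obtain rfl : d = 1 := Nat.eq_one_of_mul_eq_one_right hdb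
    rw [one_mul] at hdb
    obtain rfl : b = 1 := by simpa using hdb
    intro i
    rw [A.card_pat i, hd, ha, hb, hc]

end Act

end CfsgLib.USixType
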