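import Mathlib

/-!
Eight dimensional vectors over the field with two elements on `Fin 256`, read also as four coordinates
over the field with four elements, with the bilinear forms underlying the models of `2^(1+8)`.
-/

set_option autoImplicit false
set_option linter.style.haveILetI false
set_option linter.unusedSectionVars false

namespace CfsgLib.USixType

/-- A vector. -/
abbrev V8 : Type := Fin 256

/-- Addition of vectors. -/
def xr (a b : V8) : V8 := ⟨a.1 ^^^ b.1, Nat.xor_lt_two_pow (n := 8) a.2 b.2⟩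

/-- A coordinate. -/
def cb (v : V8) (i : ℕ) : Bool := v.1.testBit i

/-- The unit vectors. -/
def un (i : Fin 8) : V8 := ⟨2 ^ i.1 % 256, Nat.mod_lt _ (by norm_num)⟩

/-- A conditional vector. -/
def sel (b : Bool) (v : V8) : V8 := cond b v 0

/-- A linear map, by the images of the unit vectors. -/
structure Lin where
  c0 : V8
  c1 : V8
  c2 : V8
  c3 : V8
  c4 : V8
  c5 : V8
  c6 : V8
  c7 : V8
deriving DecidableEq

/-- Application of a linear map. -/
def app (L : Lin) (v : V8) : V8 :=
  xr (xr (xr (sel (cb v 0) L.c0) (sel (cb v 1) L.c1)) (xr (sel (cb v 2) L.c2) (sel (cb v 3) L.c3)))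
    (xr (xr (sel (cb v 4) L.c4) (sel (cb v 5) L.c5)) (xr (sel (cb v 6) L.c6) (sel (cb v 7) L.c7)))

/-- The identity. -/
def idL : Lin := ⟨1, 2, 4, 8, 16, 32, 64, 128⟩

/-- Composition. -/
def comp (A B : Lin) : Lin :=
  ⟨app A B.c0, app A B.c1, app A B.c2, app A B.c3, app A B.c4, app A B.c5, app A B.c6, app A B.c7⟩

/-- The linear map with given values on the unit vectors. -/
def ofFun (f : V8 → V8) : Lin := ⟨f 1, f 2, f 4, f 8, f 16, f 32, f 64, f 128⟩

theorem xr_self (a : V8) : xr a a = 0 := Fin.ext (Nat.xor_self a.1)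

theorem xr_comm (a b : V8) : xr a b = xr b a := Fin.ext (Nat.xor_comm a.1 b.1)

theorem xr_assoc (a b c : V8) : xr (xr a b) c = xr a (xr b c) :=
  Fin.ext (Nat.xor_assoc a.1 b.1 c.1)

theorem xr_zero (a : V8) : xr a 0 = a := Fin.ext (Nat.xor_zero a.1)

theorem zero_xr (a : V8) : xr 0 a = a := Fin.ext (Nat.zero_xor a.1)

theorem xr_eq_zero {a b : V8} : xr a b = 0 ↔ a = b := by
  refine ⟨fun h => ?_, fun h => h ▸ xr_self a⟩
  rw [← xr_zero a, ← xr_self b, ← xr_assoc, h, zero_xr]

theorem xr_cancel (a b : V8) : xr a (xr a b) = b := by rw [← xr_assoc, xr_self, zero_xr]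

theorem xr_left_cancel {a b c : V8} (h : xr a b = xr a c) : b = c := by
  rw [← xr_cancel a b, h, xr_cancel]

theorem cb_xr (a b : V8) (i : ℕ) : cb (xr a b) i = (cb a i ^^ cb b i) := Nat.testBit_xor a.1 b.1 i

theorem cb_zero (i : ℕ) : cb 0 i = false := Nat.zero_testBit i

theorem sel_xor (x y : Bool) (v : V8) : sel (x ^^ y) v = xr (sel x v) (sel y v) := by
  cases x <;> cases y <;> simp [sel, xr_self, xr_zero, zero_xr]

theorem app_xr (L : Lin) (a b : V8) : app L (xr a b) = xr (app L a) (app L b) := by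
  simp only [app, cb_xr, sel_xor]
  haveI : Std.Associative xr := ⟨xr_assoc⟩
  haveI : Std.Commutative xr := ⟨xr_comm⟩
  ac_rfl

theorem app_zero (L : Lin) : app L 0 = 0 := by simp [app, cb_zero, sel, xr_self]

theorem id_app : ∀ v : V8, app idL v = v := by decide +kernel

theorem app_units (L : Lin) :
    app L 1 = L.c0 ∧ app L 2 = L.c1 ∧ app L 4 = L.c2 ∧ app L 8 = L.c3 ∧ app L 16 = L.c4 ∧
      app L 32 = L.c5 ∧ app L 64 = L.c6 ∧ app L 128 = L.c7 := by
  simp [app, cb, sel, Nat.testBit, xr_zero, zero_xr, xr_self]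

/-- An additive map is its matrix. -/
theorem app_ofFun {f : V8 → V8} (hf : ∀ a b, f (xr a b) = xr (f a) (f b)) (v : V8) :
    app (ofFun f) v = f v := by
  have h0 : f 0 = 0 := by
    have h := hf 0 0
    rw [xr_self, xr_self] at h
    exact h
  have hsel : ∀ (b : Bool) (x : V8), f (sel b x) = sel b (f x) := fun b x => by
    cases b
    · exact h0
    · rfl
  conv_rhs => rw [← id_app v]
  simp only [app, idL, hf, hsel]
  rfl

theorem ofFun_app (L : Lin) : ofFun (app L) = L := by
  obtain ⟨h0, h1, h2, h3, h4, h5, h6, h7⟩ := app_units L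
  simp only [ofFun, h0, h1, h2, h3, h4, h5, h6, h7]

theorem lin_ext {A B : Lin} (h : ∀ v, app A v = app B v) : A = B := by
  rw [← ofFun_app A, ← ofFun_app B]
  exact congrArg ofFun (funext h)

theorem app_comp (A B : Lin) (v : V8) : app (comp A B) v = app A (app B v) := by
  obtain ⟨h0, h1, h2, h3, h4, h5, h6, h7⟩ := app_units B
  have e : comp A B = ofFun (fun x => app A (app B x)) := by
    simp only [comp, ofFun, h0, h1, h2, h3, h4, h5, h6, h7]
  rw [e, app_ofFun (fun a b => by simp only [app_xr])]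

theorem comp_assoc (A B C : Lin) : comp (comp A B) C = comp A (comp B C) :=
  lin_ext fun v => by simp only [app_comp]

theorem comp_id (A : Lin) : comp A idL = A := lin_ext fun v => by rw [app_comp, id_app]

theorem id_comp (A : Lin) : comp idL A = A := lin_ext fun v => by rw [app_comp, id_app]

/-! ### Bilinear forms -/

/-- The cocycle of one plane over the field with four elements. -/
def pl (a₀ a₁ b₀ b₁ : Bool) : Bool := ((a₀ && b₀) ^^ (a₀ && b₁)) ^^ (a₁ && b₁)

theorem pl_left : ∀ a₀ a₁ b₀ b₁ c₀ c₁ : Bool,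
    pl (a₀ ^^ b₀) (a₁ ^^ b₁) c₀ c₁ = (pl a₀ a₁ c₀ c₁ ^^ pl b₀ b₁ c₀ c₁) := by decide

theorem pl_right : ∀ a₀ a₁ b₀ b₁ c₀ c₁ : Bool,
    pl a₀ a₁ (b₀ ^^ c₀) (b₁ ^^ c₁) = (pl a₀ a₁ b₀ b₁ ^^ pl a₀ a₁ c₀ c₁) := by decide

theorem four_xor : ∀ a b c d : Bool, ((a ^^ b) ^^ (c ^^ d)) = ((a ^^ c) ^^ (b ^^ d)) := by decide

/-- The unitary cocycle. -/
def bA (v w : V8) : Bool :=
  (pl (cb v 0) (cb v 1) (cb w 0) (cb w 1) ^^ pl (cb v 2) (cb v 3) (cb w 2) (cb w 3)) ^^
  (pl (cb v 4) (cb v 5) (cb w 4) (cb w 5) ^^ pl (cb v 6) (cb v 7) (cb w 6) (cb w 7))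

/-- The cocycle with a hyperbolic last plane. -/
def bD (v w : V8) : Bool :=
  (pl (cb v 0) (cb v 1) (cb w 0) (cb w 1) ^^ pl (cb v 2) (cb v 3) (cb w 2) (cb w 3)) ^^
  (pl (cb v 4) (cb v 5) (cb w 4) (cb w 5) ^^ (cb v 6 && cb w 7))

/-- Additivity in both arguments. -/
structure Bil (β : V8 → V8 → Bool) : Prop where
  left : ∀ a b c, β (xr a b) c = (β a c ^^ β b c)
  right : ∀ a b c, β a (xr b c) = (β a b ^^ β a c)

theorem bA_bil : Bil bA := by
  constructor <;> intro a b c <;> simp only [bA, cb_xr, pl_left, pl_right, four_xor]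

theorem bD_bil : Bil bD := by
  constructor <;> intro a b c <;>
    simp only [bD, cb_xr, pl_left, pl_right, Bool.and_xor_distrib_right, Bool.and_xor_distrib_left, four_xor]

/-- The quadratic form. -/
def qq (β : V8 → V8 → Bool) (v : V8) : Bool := β v v

/-- The alternating form. -/
def bb (β : V8 → V8 → Bool) (v w : V8) : Bool := β v w ^^ β w v

namespace Bil

variable {β : V8 → V8 → Bool} (hβ : Bil β)
include hβ

theorem zero_left (a : V8) : β 0 a = false := by
  have h := hβ.left 0 0 a
  rw [xr_self] at h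
  cases e : β 0 a <;> simp_all

theorem zero_right (a : V8) : β a 0 = false := by
  have h := hβ.right a 0 0
  rw [xr_self] at h
  cases e : β a 0 <;> simp_all

theorem qq_xr (v w : V8) : qq β (xr v w) = (qq β v ^^ qq β w ^^ bb β v w) := by
  simp only [qq, bb, hβ.left, hβ.right]
  cases β v v <;> cases β w w <;> cases β v w <;> cases β w v <;> rfl

theorem bb_left (a b c : V8) : bb β (xr a b) c = (bb β a c ^^ bb β b c) := by
  simp only [bb, hβ.left, hβ.right]
  cases β a c <;> cases β b c <;> cases β c a <;> cases β c b <;> rfl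

theorem bb_comm (a b : V8) : bb β a b = bb β b a := Bool.xor_comm _ _

theorem bb_right (a b c : V8) : bb β a (xr b c) = (bb β a b ^^ bb β a c) := by
  rw [hβ.bb_comm, hβ.bb_left, hβ.bb_comm b, hβ.bb_comm c]

theorem bb_self (a : V8) : bb β a a = false := Bool.xor_self _

/-- Two biadditive maps agreeing on the unit vectors agree. -/
theorem ext {γ : V8 → V8 → Bool} (hγ : Bil γ) (h : ∀ i j, β (un i) (un j) = γ (un i) (un j)) (v w : V8) :
    β v w = γ v w := by
  have red : ∀ (f g : V8 → Bool), (∀ a b, f (xr a b) = (f a ^^ f b)) → (∀ a b, g (xr a b) = (g a ^^ g b)) →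
      (∀ i, f (un i) = g (un i)) → ∀ x, f x = g x := by
    intro f g hf hg hi x
    have f0 : f 0 = false := by
      have h := hf 0 0; rw [xr_self] at h; cases e : f 0 <;> simp_all
    have g0 : g 0 = false := by
      have h := hg 0 0; rw [xr_self] at h; cases e : g 0 <;> simp_all
    have hs : ∀ (b : Bool) (i : Fin 8), f (sel b (un i)) = g (sel b (un i)) := fun b i => by
      cases b
      · exact f0.trans g0.symm
      · exact hi i
    rw [← id_app x, app, hf, hf, hf, hf, hf, hf, hf, hg, hg, hg, hg, hg, hg, hg]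
    have e0 := hs (cb x 0) 0; have e1 := hs (cb x 1) 1; have e2 := hs (cb x 2) 2; have e3 := hs (cb x 3) 3
    have e4 := hs (cb x 4) 4; have e5 := hs (cb x 5) 5; have e6 := hs (cb x 6) 6; have e7 := hs (cb x 7) 7
    simp only [show idL.c0 = un 0 from rfl, show idL.c1 = un 1 from rfl, show idL.c2 = un 2 from rfl,
      show idL.c3 = un 3 from rfl, show idL.c4 = un 4 from rfl, show idL.c5 = un 5 from rfl,
      show idL.c6 = un 6 from rfl, show idL.c7 = un 7 from rfl, e0, e1, e2, e3, e4, e5, e6, e7]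
  refine red (fun x => β x w) (fun x => γ x w) (fun a b => hβ.left a b w) (fun a b => hγ.left a b w)
    (fun i => red (β (un i)) (γ (un i)) (hβ.right _) (hγ.right _) (h i) w) v

/-- A linear map preserving the form on the unit vectors preserves it. -/
theorem inv_of_units (L : Lin) (h : ∀ i j, β (app L (un i)) (app L (un j)) = β (un i) (un j)) (v w : V8) :
    β (app L v) (app L w) = β v w :=
  Bil.ext (β := fun a b => β (app L a) (app L b))
    ⟨fun a b c => by simp only [app_xr, hβ.left], fun a b c => by simp only [app_xr, hβ.right]⟩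
    hβ h v w

end Bil

end CfsgLib.USixType
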